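import Cfsg.Agent.Lib.HNType.FiveCheckQ4

/-!
The checks on the cases of the second branch hold.
-/

set_option autoImplicit false
set_option maxRecDepth 100000
set_option maxHeartbeats 4000000

namespace CfsgLib.HNType.Five

open CfsgLib.CosetEnum CfsgLib.DCoset


theorem qCases_ok : qCases.all qCaseOK = true := by
  have e : qCases = (qCases.drop 0).take 2 ++ (qCases.drop 2).take 2 ++ (qCases.drop 4).take 2 ++ (qCases.drop 6).take 2 ++ (qCases.drop 8).take 2 ++ (qCases.drop 10).take 2 ++ (qCases.drop 12).take 2 ++ (qCases.drop 14).take 2 ++ (qCases.drop 16).take 2 ++ (qCases.drop 18).take 2 := by rfl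
  rw [e]
  simp only [List.all_append, Bool.and_eq_true]
  exact ⟨⟨⟨⟨⟨⟨⟨⟨⟨qCases_ok_0, qCases_ok_1⟩, qCases_ok_2⟩, qCases_ok_3⟩, qCases_ok_4⟩, qCases_ok_5⟩, qCases_ok_6⟩, qCases_ok_7⟩, qCases_ok_8⟩, qCases_ok_9⟩

end CfsgLib.HNType.Five
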