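import Cfsg.Agent.Lib.HNType.FiveKill

/-!
The second branch in abstract form: the data inside the centraliser of an element of order six,
with an element of it rotating a four-group, gives the configuration `no_two_kinds` in the
quotient by the cyclic group.
-/

set_option autoImplicit false

namespace CfsgLib.HNType

/-- the four-group generated by `A` and `B`, and its coset of `t`, up to powers of `w` -/
def InE {G : Type*} [Group G] (t A B w x : G) : Prop :=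
  ∃ u, (u = 1 ∨ u = A ∨ u = B ∨ u = A * B) ∧ ∃ j : ℕ, x = u * w ^ j ∨ x = t * u * w ^ j

/-- the hypotheses of the second branch -/
structure RotData {G : Type*} [Group G] (T : G → Prop) (t A B w R : G) : Prop where
  w6 : w ^ 6 = 1
  w_sq : ∀ j, j < 6 → w ^ j * w ^ j = 1 → j = 0 ∨ j = 3
  AA : A * A = 1
  BB : B * B = 1
  tt : t * t = 1
  AB : Commute A B
  tA : Commute t A
  tB : Commute t B
  Aw : Commute A w
  Bw : Commute B w
  tw : Commute t w
  Rw : Commute R w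
  Rt : Commute R t
  rotA : R⁻¹ * A * R = B
  rotB : R⁻¹ * B * R = A * B
  T_conj : ∀ g x, T x → T (g * x * g⁻¹)
  T_t : T t
  T_A : T A
  T_Az : T (A * w ^ 3)
  T_tz : ¬ T (t * w ^ 3)
  T_tA : ¬ T (t * A)
  t1 : t ≠ 1
  tz : t ≠ w ^ 3
  A1 : A ≠ 1
  Az : A ≠ w ^ 3
  BA : B ≠ A
  move : ∀ x, Commute x w → Commute x A → x * B * x⁻¹ = B ∨ x * B * x⁻¹ = B * w ^ 3
  moves : ∃ x, Commute x w ∧ Commute x A ∧ x * B * x⁻¹ ≠ B
  cent : ∀ x, Commute x w → Commute x A → ∀ j : ℕ, x * t = t * w ^ j * x → InE t A B w x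
  kinds : ∀ x, Commute x w → Commute x A → x * x = 1 → T x → InE t A B w x
  other : ∃ x, Commute x w ∧ Commute x A ∧ x * x = 1 ∧ ¬ InE t A B w x
  out : ∃ L, Commute L w ∧ Commute L t ∧
    ∀ u, (u = 1 ∨ u = A ∨ u = B ∨ u = A * B) → ∀ j : ℕ, L * A * L⁻¹ ≠ u * w ^ j

namespace RotData

variable {G : Type*} [Group G] {T : G → Prop} {t A B w R : G}

/-- conjugation by the rotation -/
abbrev rot (R : G) : G ≃* G := MulAut.conj R⁻¹

theorem rot_apply (x : G) : rot R x = R⁻¹ * x * R := by simp [rot]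

theorem rot_AB (d : RotData T t A B w R) : R⁻¹ * (A * B) * R = A := by
  calc R⁻¹ * (A * B) * R = R⁻¹ * A * R * (R⁻¹ * B * R) := by group
    _ = A := by rw [d.rotA, d.rotB, ← mul_assoc, ← d.AB.eq, mul_assoc, d.BB, mul_one]

theorem rot_w (d : RotData T t A B w R) (j : ℕ) : R⁻¹ * w ^ j * R = w ^ j := by
  rw [mul_assoc, ← (d.Rw.pow_right j).eq, inv_mul_cancel_left]

theorem rot_t (d : RotData T t A B w R) : R⁻¹ * t * R = t := by
  rw [mul_assoc, ← d.Rt.eq, inv_mul_cancel_left]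

theorem z_sq (d : RotData T t A B w R) : w ^ 3 * w ^ 3 = 1 := by rw [← pow_add]; exact d.w6

/-- `x` fixes `u` up to the central involution -/
def Fx (w x u : G) : Prop := x * u * x⁻¹ = u ∨ x * u * x⁻¹ = u * w ^ 3

theorem fx_mul {x u v : G} (d : RotData T t A B w R) (hv : Commute v w) (hu : Fx w x u)
    (hv' : Fx w x v) : Fx w x (u * v) := by
  have e : x * (u * v) * x⁻¹ = x * u * x⁻¹ * (x * v * x⁻¹) := by group
  have hc : Commute (w ^ 3) v := (hv.pow_right 3).symm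
  rcases hu with hu | hu <;> rcases hv' with hv' | hv' <;> rw [Fx, e, hu, hv']
  · exact Or.inl rfl
  · exact Or.inr (mul_assoc u v _).symm
  · exact Or.inr (by rw [mul_assoc, hc.eq, ← mul_assoc])
  · refine Or.inl ?_
    rw [mul_assoc, ← mul_assoc (w ^ 3), hc.eq, mul_assoc v, d.z_sq, mul_one]

theorem fx_rot {x u : G} (d : RotData T t A B w R) (h : Fx w x u) :
    Fx w (R⁻¹ * x * R) (R⁻¹ * u * R) := by
  have e : R⁻¹ * x * R * (R⁻¹ * u * R) * (R⁻¹ * x * R)⁻¹ = R⁻¹ * (x * u * x⁻¹) * R := by group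
  rcases h with h | h <;> rw [Fx, e, h]
  · exact Or.inl rfl
  · refine Or.inr ?_
    rw [show R⁻¹ * (u * w ^ 3) * R = R⁻¹ * u * R * (R⁻¹ * w ^ 3 * R) by group, d.rot_w]

theorem rot_comm (d : RotData T t A B w R) {x : G} (hx : Commute x w) :
    Commute (R⁻¹ * x * R) w := ((d.Rw.inv_left.mul_left hx).mul_left d.Rw)

theorem unrot_comm (d : RotData T t A B w R) {x : G} (hx : Commute x w) :
    Commute (R * x * R⁻¹) w := ((d.Rw.mul_left hx).mul_left d.Rw.inv_left)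

theorem rot_unrot (x : G) : R⁻¹ * (R * x * R⁻¹) * R = x := by group

theorem fx_A_B (d : RotData T t A B w R) {x : G} (hx : Commute x w) (h : Fx w x A) : Fx w x B := by
  rcases h with h | h
  · exact d.move x hx (mul_inv_eq_iff_eq_mul.mp h)
  obtain ⟨y, hyw, hyA, hyB⟩ := d.moves
  have hyB' : y * B * y⁻¹ = B * w ^ 3 := (d.move y hyw hyA).resolve_left hyB
  obtain ⟨z, hz⟩ : ∃ z, z = R⁻¹ * y * R := ⟨_, rfl⟩
  have hzw : Commute z w := hz ▸ d.rot_comm hyw
  have hzB : z * B * z⁻¹ = B := by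
    calc z * B * z⁻¹ = R⁻¹ * (y * A * y⁻¹) * R := by rw [hz, ← d.rotA]; group
      _ = B := by rw [hyA.eq, mul_inv_cancel_right, d.rotA]
  have hzA : z * A * z⁻¹ = A * w ^ 3 := by
    calc z * A * z⁻¹ = R⁻¹ * (y * (A * B) * y⁻¹) * R := by
          rw [hz]; conv_lhs => rw [← d.rot_AB]
          group
      _ = R⁻¹ * (y * A * y⁻¹ * (y * B * y⁻¹)) * R := by group
      _ = R⁻¹ * (A * B) * R * (R⁻¹ * w ^ 3 * R) := by rw [hyA.eq, mul_inv_cancel_right, hyB']; group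
      _ = _ := by rw [d.rot_AB, d.rot_w]
  have h' : Commute (z⁻¹ * x) A := by
    show z⁻¹ * x * A = A * (z⁻¹ * x)
    calc z⁻¹ * x * A = z⁻¹ * (x * A * x⁻¹) * x := by group
      _ = z⁻¹ * (z * A * z⁻¹) * x := by rw [h, hzA]
      _ = _ := by group
  have e : x * B * x⁻¹ = z * (z⁻¹ * x * B * (z⁻¹ * x)⁻¹) * z⁻¹ := by group
  rcases d.move _ (hzw.inv_left.mul_left hx) h' with h1 | h1 <;> rw [Fx, e, h1]
  · exact Or.inl hzB
  · refine Or.inr ?_
    calc z * (B * w ^ 3) * z⁻¹ = z * B * z⁻¹ * (z * w ^ 3 * z⁻¹) := by group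
      _ = _ := by rw [hzB, (hzw.pow_right 3).eq, mul_inv_cancel_right]

theorem fx_B_AB (d : RotData T t A B w R) {x : G} (hx : Commute x w) (h : Fx w x B) :
    Fx w x (A * B) := by
  have h1 : Fx w (R * x * R⁻¹) A := by
    rcases h with h | h
    · refine Or.inl ?_
      calc R * x * R⁻¹ * A * (R * x * R⁻¹)⁻¹ = R * (x * (R⁻¹ * A * R) * x⁻¹) * R⁻¹ := by group
        _ = A := by rw [d.rotA, h, ← d.rotA]; group
    · refine Or.inr ?_
      calc R * x * R⁻¹ * A * (R * x * R⁻¹)⁻¹ = R * (x * (R⁻¹ * A * R) * x⁻¹) * R⁻¹ := by group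
        _ = A * (R * w ^ 3 * R⁻¹) := by rw [d.rotA, h, ← d.rotA]; group
        _ = _ := by rw [(d.Rw.pow_right 3).eq, mul_inv_cancel_right]
  have h2 := d.fx_rot (d.fx_A_B (d.unrot_comm hx) h1)
  rwa [rot_unrot, d.rotB] at h2

theorem fx_AB_A (d : RotData T t A B w R) {x : G} (hx : Commute x w) (h : Fx w x (A * B)) :
    Fx w x A := by
  have hr : R * (A * B) * R⁻¹ = B := by rw [← d.rotB]; group
  have h1 : Fx w (R * x * R⁻¹) B := by
    rw [← hr]
    have e : R * x * R⁻¹ * (R * (A * B) * R⁻¹) * (R * x * R⁻¹)⁻¹ = R * (x * (A * B) * x⁻¹) * R⁻¹ := by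
      group
    rcases h with h | h <;> rw [Fx, e, h]
    · exact Or.inl rfl
    · refine Or.inr ?_
      calc R * (A * B * w ^ 3) * R⁻¹ = R * (A * B) * R⁻¹ * (R * w ^ 3 * R⁻¹) := by group
        _ = _ := by rw [(d.Rw.pow_right 3).eq, mul_inv_cancel_right]
  have h2 := d.fx_rot (d.fx_B_AB (d.unrot_comm hx) h1)
  rwa [rot_unrot, d.rot_AB] at h2

theorem inE_rot (d : RotData T t A B w R) {x : G} (h : InE t A B w x) :
    InE t A B w (R⁻¹ * x * R) := by
  obtain ⟨u, hu, j, hj⟩ := h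
  refine ⟨R⁻¹ * u * R, ?_, j, ?_⟩
  · rcases hu with rfl | rfl | rfl | rfl
    · exact Or.inl (by group)
    · exact Or.inr (Or.inr (Or.inl d.rotA))
    · exact Or.inr (Or.inr (Or.inr d.rotB))
    · exact Or.inr (Or.inl d.rot_AB)
  · rcases hj with rfl | rfl
    · exact Or.inl (by rw [show R⁻¹ * (u * w ^ j) * R = R⁻¹ * u * R * (R⁻¹ * w ^ j * R) by group, d.rot_w])
    · exact Or.inr (by
        rw [show R⁻¹ * (t * u * w ^ j) * R = R⁻¹ * t * R * (R⁻¹ * u * R) * (R⁻¹ * w ^ j * R) by group,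
          d.rot_w, d.rot_t])

/-- a property preserved by unrotating, which puts the elements fixing `A` in the coset,
puts all of `D` in it -/
theorem spread (d : RotData T t A B w R) (S : G → Prop) (hS : ∀ x, S x → S (R * x * R⁻¹))
    (hA : ∀ x, Commute x w → Commute x A → S x → InE t A B w x) {x : G} (hx : Commute x w)
    (hD : Fx w x A) (hs : S x) : InE t A B w x := by
  have h1 : ∀ y, Commute y w → Commute y B → S y → InE t A B w y := fun y hy hyB hys => by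
    have hc : Commute (R * y * R⁻¹) A := by
      show R * y * R⁻¹ * A = A * (R * y * R⁻¹)
      calc R * y * R⁻¹ * A = R * (y * (R⁻¹ * A * R)) * R⁻¹ := by group
        _ = _ := by rw [d.rotA, hyB.eq, ← d.rotA]; group
    have h := d.inE_rot (hA _ (d.unrot_comm hy) hc (hS y hys))
    rwa [rot_unrot] at h
  rcases hD with hA1 | hA1
  · exact hA x hx (mul_inv_eq_iff_eq_mul.mp hA1) hs
  rcases d.fx_A_B hx (Or.inr hA1) with hB | hB
  · exact h1 x hx (mul_inv_eq_iff_eq_mul.mp hB) hs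
  have hAB : x * (A * B) * x⁻¹ = A * B := by
    calc x * (A * B) * x⁻¹ = x * A * x⁻¹ * (x * B * x⁻¹) := by group
      _ = A * (w ^ 3 * B) * w ^ 3 := by rw [hA1, hB]; group
      _ = A * B * (w ^ 3 * w ^ 3) := by rw [← (d.Bw.pow_right 3).eq]; group
      _ = _ := by rw [d.z_sq, mul_one]
  have hc : Commute (R * x * R⁻¹) B := by
    show R * x * R⁻¹ * B = B * (R * x * R⁻¹)
    calc R * x * R⁻¹ * B = R * (x * (R⁻¹ * B * R)) * R⁻¹ := by group
      _ = _ := by rw [d.rotB, mul_inv_eq_iff_eq_mul.mp hAB, ← d.rotB]; group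
  have h := d.inE_rot (h1 _ (d.unrot_comm hx) hc (hS x hs))
  rwa [rot_unrot] at h

theorem pow_mod_six (d : RotData T t A B w R) (j : ℕ) : w ^ j = w ^ (j % 6) := by
  conv_lhs => rw [← Nat.mod_add_div j 6, pow_add, pow_mul, d.w6, one_pow, mul_one]

theorem sq_cases (d : RotData T t A B w R) {j : ℕ} (h : w ^ j * w ^ j = 1) :
    w ^ j = 1 ∨ w ^ j = w ^ 3 := by
  rw [d.pow_mod_six] at h ⊢
  rcases d.w_sq _ (Nat.mod_lt _ (by norm_num)) h with e | e <;> rw [e]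
  · exact Or.inl (pow_zero w)
  · exact Or.inr rfl

/-- the second branch is impossible -/
theorem false [Finite G] (d : RotData T t A B w R) : False := by
  let K : Subgroup G := Subgroup.centralizer ({w} : Set G)
  have hK : ∀ x, x ∈ K ↔ Commute x w := fun x => Subgroup.mem_centralizer_singleton_iff
  let w' : ↥K := ⟨w, (hK w).mpr (Commute.refl w)⟩
  let W : Subgroup ↥K := Subgroup.zpowers w'
  have hcen : ∀ x : ↥K, Commute w' x := fun x => Subtype.ext ((hK x.1).mp x.2).eq.symm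
  haveI hW : W.Normal := ⟨fun n hn g => by
    obtain ⟨k, rfl⟩ := Subgroup.mem_zpowers_iff.mp hn
    rw [← ((hcen g).zpow_left k).eq, mul_inv_cancel_right]
    exact Subgroup.mem_zpowers_iff.mpr ⟨k, rfl⟩⟩
  let π : ↥K →* ↥K ⧸ W := QuotientGroup.mk' W
  have hπ : ∀ {x y : ↥K}, π x = π y ↔ ∃ j : ℕ, (x : G) = y * w ^ j := by
    intro x y
    constructor
    · intro h
      obtain ⟨z, hz, hz'⟩ := (QuotientGroup.mk'_eq_mk' W).mp h.symm
      obtain ⟨j, rfl⟩ := mem_powers_iff_mem_zpowers.mpr hz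
      exact ⟨j, (congrArg Subtype.val hz').symm⟩
    · rintro ⟨j, hj⟩
      exact ((QuotientGroup.mk'_eq_mk' W).mpr ⟨w' ^ j,
        Subgroup.pow_mem W (Subgroup.mem_zpowers w') j, Subtype.ext (by simpa using hj.symm)⟩).symm
  obtain ⟨t', ht'⟩ : ∃ x : ↥K, (x : G) = t := ⟨⟨t, (hK t).mpr d.tw⟩, rfl⟩
  obtain ⟨A', hA'⟩ : ∃ x : ↥K, (x : G) = A := ⟨⟨A, (hK A).mpr d.Aw⟩, rfl⟩
  obtain ⟨B', hB'⟩ : ∃ x : ↥K, (x : G) = B := ⟨⟨B, (hK B).mpr d.Bw⟩, rfl⟩
  have hR : ∀ {x : G}, Commute x w → Commute (R⁻¹ * x * R) w := fun hx => d.rot_comm hx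
  have hTrot : ∀ x, T x → T (R⁻¹ * x * R) := fun x hx => by
    have := d.T_conj R⁻¹ x hx
    rwa [inv_inv] at this
  have hTunrot : ∀ x, ¬ T x → ¬ T (R⁻¹ * x * R) := fun x hx h => hx (by
    rw [show x = R * (R⁻¹ * x * R) * R⁻¹ by group]
    exact d.T_conj R _ h)
  have rotz : ∀ u, R⁻¹ * (u * w ^ 3) * R = R⁻¹ * u * R * w ^ 3 := fun u => by
    rw [show R⁻¹ * (u * w ^ 3) * R = R⁻¹ * u * R * (R⁻¹ * w ^ 3 * R) by group, d.rot_w]
  have hTu : ∀ u, u = A ∨ u = B ∨ u = A * B → T u ∧ T (u * w ^ 3) ∧ ¬ T (t * u) := by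
    have rt : ∀ u, R⁻¹ * (t * u) * R = t * (R⁻¹ * u * R) := fun u => by
      rw [show R⁻¹ * (t * u) * R = R⁻¹ * t * R * (R⁻¹ * u * R) by group, d.rot_t]
    have hBc : T B ∧ T (B * w ^ 3) ∧ ¬ T (t * B) := by
      refine ⟨d.rotA ▸ hTrot _ d.T_A, ?_, ?_⟩
      · have := hTrot _ d.T_Az; rwa [rotz, d.rotA] at this
      · have := hTunrot _ d.T_tA; rwa [rt, d.rotA] at this
    rintro u (rfl | rfl | rfl)
    · exact ⟨d.T_A, d.T_Az, d.T_tA⟩
    · exact hBc
    · refine ⟨d.rotB ▸ hTrot _ hBc.1, ?_, ?_⟩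
      · have := hTrot _ hBc.2.1; rwa [rotz, d.rotB] at this
      · have := hTunrot _ hBc.2.2; rwa [rt, d.rotB] at this
  have hABAB : A * B * (A * B) = 1 := by
    calc A * B * (A * B) = A * (B * A) * B := by group
      _ = A * A * (B * B) := by rw [← d.AB.eq]; group
      _ = 1 := by rw [d.AA, d.BB, one_mul]
  -- commuting with an element of the four-group in the quotient
  have hfix : ∀ {x u : ↥K}, (u : G) * u = 1 → (Commute (π x) (π u) ↔ Fx w (x : G) u) := by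
    intro x u hu
    rw [show Commute (π x) (π u) ↔ π x * π u * (π x)⁻¹ = π u from mul_inv_eq_iff_eq_mul.symm]
    rw [← map_inv, ← map_mul, ← map_mul, hπ, Subgroup.coe_mul, Subgroup.coe_mul, Subgroup.coe_inv]
    constructor
    · rintro ⟨j, hj⟩
      have hsq : (u : G) * w ^ j * ((u : G) * w ^ j) = 1 := by
        rw [← hj, show (x : G) * u * (x : G)⁻¹ * (x * u * (x : G)⁻¹) = x * (u * u) * (x : G)⁻¹ by group, hu]
        group
      have hc := (((hK u.1).mp u.2).pow_right j).eq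
      rw [show (u : G) * w ^ j * ((u : G) * w ^ j) = u * (w ^ j * u) * w ^ j by group, ← hc,
        show (u : G) * (u * w ^ j) * w ^ j = (u * u) * (w ^ j * w ^ j) by group, hu, one_mul] at hsq
      rcases d.sq_cases hsq with e | e
      · exact Or.inl (by rw [hj, e, mul_one])
      · exact Or.inr (by rw [hj, e])
    · rintro (h | h)
      · exact ⟨0, by rw [h, pow_zero, mul_one]⟩
      · exact ⟨3, h⟩
  have hU : ∀ {u : ↥K ⧸ W}, (u = π A' ∨ u = π B' ∨ u = π A' * π B') →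
      ∃ u' : ↥K, π u' = u ∧ ((u' : G) = A ∨ (u' : G) = B ∨ (u' : G) = A * B) := by
    rintro u (rfl | rfl | rfl)
    · exact ⟨A', rfl, Or.inl hA'⟩
    · exact ⟨B', rfl, Or.inr (Or.inl hB')⟩
    · exact ⟨A' * B', map_mul π A' B', Or.inr (Or.inr (by rw [Subgroup.coe_mul, hA', hB']))⟩
  have hUsq : ∀ {u : G}, (u = A ∨ u = B ∨ u = A * B) → u * u = 1 ∧ Commute u w ∧ Commute t u := by
    rintro u (rfl | rfl | rfl)
    exacts [⟨d.AA, d.Aw, d.tA⟩, ⟨d.BB, d.Bw, d.tB⟩, ⟨hABAB, d.Aw.mul_left d.Bw, d.tA.mul_right d.tB⟩]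
  have hin : ∀ {x : ↥K}, InE t A B w (x : G) →
      ∃ u, (u = 1 ∨ u = π A' ∨ u = π B' ∨ u = π A' * π B') ∧ (π x = u ∨ π x = π t' * u) := by
    rintro x ⟨u, hu, j, hj⟩
    obtain ⟨u', hu', hu''⟩ : ∃ u' : ↥K, (u' : G) = u ∧
        (π u' = 1 ∨ π u' = π A' ∨ π u' = π B' ∨ π u' = π A' * π B') := by
      rcases hu with rfl | rfl | rfl | rfl
      · exact ⟨1, rfl, Or.inl (map_one π)⟩
      · exact ⟨A', hA', Or.inr (Or.inl rfl)⟩
      · exact ⟨B', hB', Or.inr (Or.inr (Or.inl rfl))⟩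
      · exact ⟨A' * B', by rw [Subgroup.coe_mul, hA', hB'], Or.inr (Or.inr (Or.inr (map_mul π A' B')))⟩
    refine ⟨π u', hu'', ?_⟩
    rcases hj with hj | hj
    · exact Or.inl (hπ.mpr ⟨j, by rw [hu']; exact hj⟩)
    · exact Or.inr ((hπ.mpr ⟨j, by rw [Subgroup.coe_mul, ht', hu']; exact hj⟩).trans (map_mul π t' u'))
  refine no_two_kinds (σ := π t') (u1 := π A') (u2 := π B')
    (fun h => ∃ x : ↥K, π x = h ∧ (x : G) * x = 1 ∧ T x)
    (fun h => ∃ x : ↥K, π x = h ∧ (x : G) * x = 1 ∧ ¬ T x) ?_ ?_ ?_ ?_ ?_ ?_ ?_ ?_ ?_ ?_ ?_ ?_ ?_ ?_ ?_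
    ?_ ?_ ?_ ?_
  · rintro g h ⟨x, rfl, hx, hTx⟩
    obtain ⟨y, rfl⟩ := QuotientGroup.mk'_surjective W g
    refine ⟨y * x * y⁻¹, by simp [π], ?_, by simpa using d.T_conj (y : G) x hTx⟩
    simp only [Subgroup.coe_mul, Subgroup.coe_inv]
    rw [show (y : G) * x * (y : G)⁻¹ * (y * x * (y : G)⁻¹) = y * (x * x) * (y : G)⁻¹ by group, hx]
    group
  · rintro g h ⟨x, rfl, hx, hTx⟩
    obtain ⟨y, rfl⟩ := QuotientGroup.mk'_surjective W g
    refine ⟨y * x * y⁻¹, by simp [π], ?_, fun h => hTx ?_⟩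
    · simp only [Subgroup.coe_mul, Subgroup.coe_inv]
      rw [show (y : G) * x * (y : G)⁻¹ * (y * x * (y : G)⁻¹) = y * (x * x) * (y : G)⁻¹ by group, hx]
      group
    · simp only [Subgroup.coe_mul, Subgroup.coe_inv] at h
      have := d.T_conj (y : G)⁻¹ _ h
      rwa [show (y : G)⁻¹ * (y * x * (y : G)⁻¹) * (y : G)⁻¹⁻¹ = x by group] at this
  · rw [← map_mul, show t' * t' = 1 from Subtype.ext (by simpa [ht'] using d.tt), map_one]
  · rw [← map_one π, Ne, hπ]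
    rintro ⟨j, hj⟩
    rw [Subgroup.coe_one, one_mul, ht'] at hj
    rcases d.sq_cases (hj ▸ d.tt) with e | e
    exacts [d.t1 (hj.trans e), d.tz (hj.trans e)]
  · exact ⟨t', rfl, by rw [ht']; exact d.tt, by rw [ht']; exact d.T_t⟩
  · rw [← map_mul, show A' * A' = 1 from Subtype.ext (by simpa [hA'] using d.AA), map_one]
  · rw [← map_mul, show B' * B' = 1 from Subtype.ext (by simpa [hB'] using d.BB), map_one]
  · exact Commute.map (Subtype.ext (by simpa [hA', hB'] using d.AB.eq)) π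
  · rw [← map_one π, Ne, hπ]
    rintro ⟨j, hj⟩
    rw [Subgroup.coe_one, one_mul, hA'] at hj
    rcases d.sq_cases (hj ▸ d.AA) with e | e
    exacts [d.A1 (hj.trans e), d.Az (hj.trans e)]
  · rw [← map_one π, Ne, hπ]
    rintro ⟨j, hj⟩
    rw [Subgroup.coe_one, one_mul, hB'] at hj
    have hA : A = w ^ j := by
      calc A = R * (R⁻¹ * A * R) * R⁻¹ := by group
        _ = _ := by rw [d.rotA, hj, (d.Rw.pow_right j).eq, mul_inv_cancel_right]
    rcases d.sq_cases (hj ▸ d.BB) with e | e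
    exacts [d.A1 (hA.trans e), d.Az (hA.trans e)]
  · rw [Ne, hπ]
    rintro ⟨j, hj⟩
    rw [hA', hB'] at hj
    have hj2 : A * B = w ^ j := by
      rw [d.AB.eq, hj, ← mul_assoc, d.BB, one_mul]
    rcases d.sq_cases (hj2 ▸ hABAB) with e | e
    · exact d.BA (by rw [hj, e, mul_one])
    · refine d.Az ?_
      have e1 : A = w ^ 3 := by
        calc A = R⁻¹ * (A * B) * R := d.rot_AB.symm
          _ = w ^ 3 := by rw [hj2, e, d.rot_w]
      exact e1
  · intro u hu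
    obtain ⟨u', rfl, hu'⟩ := hU hu
    obtain ⟨hsq, hcw, -⟩ := hUsq hu'
    obtain ⟨hT, hTz, -⟩ := hTu _ hu'
    refine ⟨⟨u', rfl, hsq, hT⟩, ?_⟩
    rintro ⟨x, hx, hxx, hTx⟩
    obtain ⟨j, hj⟩ := hπ.mp hx
    rw [hj] at hxx hTx
    rw [show (u' : G) * w ^ j * ((u' : G) * w ^ j) = u' * (w ^ j * u') * w ^ j by group,
      ← (hcw.pow_right j).eq,
      show (u' : G) * (u' * w ^ j) * w ^ j = (u' * u') * (w ^ j * w ^ j) by group, hsq, one_mul] at hxx
    rcases d.sq_cases hxx with e | e <;> rw [e] at hTx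
    · rw [mul_one] at hTx; exact hTx hT
    · exact hTx hTz
  · intro u hu g
    obtain ⟨x, rfl⟩ := QuotientGroup.mk'_surjective W g
    have h1 : (A' : G) * A' = 1 := by rw [hA']; exact d.AA
    have hx : Commute (x : G) w := (hK x.1).mp x.2
    obtain ⟨u', rfl, hu'⟩ := hU hu
    rw [hfix (hUsq hu').1, hfix h1, hA']
    rcases hu' with hu' | hu' | hu' <;> rw [hu']
    · exact ⟨fun h => d.fx_AB_A hx (d.fx_B_AB hx h), d.fx_A_B hx⟩
    · exact ⟨d.fx_AB_A hx, fun h => d.fx_B_AB hx (d.fx_A_B hx h)⟩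
  · exact Commute.map (Subtype.ext (by simpa [ht', hA'] using d.tA.eq)) π
  · intro u hu
    rcases hu with rfl | hu
    · refine ⟨t' * w' ^ 3, ?_, ?_, ?_⟩
      · rw [mul_one]; exact hπ.mpr ⟨3, by simp [w']⟩
      · simp only [Subgroup.coe_mul, Subgroup.coe_pow, ht', w']
        rw [show t * w ^ 3 * (t * w ^ 3) = t * (w ^ 3 * t) * w ^ 3 by group, ← (d.tw.pow_right 3).eq,
          show t * (t * w ^ 3) * w ^ 3 = (t * t) * (w ^ 3 * w ^ 3) by group, d.tt, d.z_sq, one_mul]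
      · simpa [ht', w'] using d.T_tz
    · obtain ⟨u', rfl, hu'⟩ := hU hu
      obtain ⟨hsq, -, htu⟩ := hUsq hu'
      refine ⟨t' * u', map_mul π t' u', ?_, by simpa [ht'] using (hTu _ hu').2.2⟩
      simp only [Subgroup.coe_mul, ht']
      rw [show t * (u' : G) * (t * u') = t * (u' * t) * u' by group, ← htu.eq,
        show t * (t * (u' : G)) * u' = (t * t) * (u' * u') by group, d.tt, hsq, one_mul]
  · rintro h hh - ⟨x, rfl, hxx, hTx⟩
    have h1 : (A' : G) * A' = 1 := by rw [hA']; exact d.AA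
    rw [hfix h1, hA'] at hh
    refine hin (d.spread (fun y => y * y = 1 ∧ T y) (fun y hy => ⟨?_, d.T_conj R y hy.2⟩)
      (fun y h2 h3 h4 => d.kinds y h2 h3 h4.1 h4.2) ((hK x.1).mp x.2) hh ⟨hxx, hTx⟩)
    rw [show R * y * R⁻¹ * (R * y * R⁻¹) = R * (y * y) * R⁻¹ by group, hy.1]; group
  · intro h hh ht
    obtain ⟨x, rfl⟩ := QuotientGroup.mk'_surjective W h
    have h1 : (A' : G) * A' = 1 := by rw [hA']; exact d.AA
    rw [hfix h1, hA'] at hh
    have hxw : Commute (x : G) w := (hK x.1).mp x.2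
    have ht2 : π (x * t') = π (t' * x) := by rw [map_mul, map_mul]; exact ht.eq
    obtain ⟨j, hj⟩ := hπ.mp ht2
    simp only [Subgroup.coe_mul, ht'] at hj
    refine hin (d.spread (fun y => Commute y w ∧ ∃ j : ℕ, y * t = t * w ^ j * y) ?_
      (fun y h2 h3 h4 => h4.2.elim fun j hj => d.cent y h2 h3 j hj) hxw hh
      ⟨hxw, j, by rw [hj, mul_assoc, (hxw.pow_right j).eq, ← mul_assoc]⟩)
    rintro y ⟨hy, i, hi⟩
    refine ⟨d.unrot_comm hy, i, ?_⟩
    calc R * y * R⁻¹ * t = R * (y * (R⁻¹ * t * R)) * R⁻¹ := by group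
      _ = (R * t * R⁻¹) * (R * w ^ i * R⁻¹) * (R * y * R⁻¹) := by rw [d.rot_t, hi]; group
      _ = _ := by rw [d.Rt.eq, mul_inv_cancel_right, (d.Rw.pow_right i).eq, mul_inv_cancel_right]
  · obtain ⟨x, hxw, hxA, hxx, hxE⟩ := d.other
    have h1 : (A' : G) * A' = 1 := by rw [hA']; exact d.AA
    obtain ⟨x', hx'⟩ : ∃ y : ↥K, (y : G) = x := ⟨⟨x, (hK x).mpr hxw⟩, rfl⟩
    refine ⟨π x', ?_, ?_, ?_⟩
    · rw [hfix h1, hA', hx']
      exact Or.inl (by rw [hxA.eq, mul_inv_cancel_right])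
    · rw [← map_mul, show x' * x' = 1 from Subtype.ext (by simpa [hx'] using hxx), map_one]
    · rintro ⟨u, hu, h⟩
      obtain ⟨u', rfl, hu'⟩ : ∃ u' : ↥K, π u' = u ∧
          ((u' : G) = 1 ∨ (u' : G) = A ∨ (u' : G) = B ∨ (u' : G) = A * B) := by
        rcases hu with rfl | hu
        · exact ⟨1, map_one π, Or.inl rfl⟩
        · obtain ⟨u', e, hu'⟩ := hU hu
          exact ⟨u', e, Or.inr hu'⟩
      rw [← map_mul] at h
      refine hxE ⟨u', hu', ?_⟩
      rcases h with h | h <;> obtain ⟨j, hj⟩ := hπ.mp h <;> rw [hx'] at hj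
      · exact ⟨j, Or.inl hj⟩
      · exact ⟨j, Or.inr (by rw [hj, Subgroup.coe_mul, ht'])⟩
  · obtain ⟨L, hLw, hLt, hL⟩ := d.out
    have key : ∀ (l : G) (v : ↥K), Commute l w → Commute l t →
        (∀ u, (u = 1 ∨ u = A ∨ u = B ∨ u = A * B) → ∀ j : ℕ, l * v * l⁻¹ ≠ u * w ^ j) →
        ∃ l', Commute l' (π t') ∧ ¬ (l' * π v * l'⁻¹ = 1 ∨ l' * π v * l'⁻¹ = π A' ∨
          l' * π v * l'⁻¹ = π B' ∨ l' * π v * l'⁻¹ = π A' * π B') := by
      intro l v hlw hlt hl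
      refine ⟨π ⟨l, (hK l).mpr hlw⟩, Commute.map (Subtype.ext (by simpa [ht'] using hlt.eq)) π, ?_⟩
      rw [← map_inv, ← map_mul, ← map_mul, ← map_mul, ← map_one π]
      rintro (h | h | h | h) <;> obtain ⟨j, hj⟩ := hπ.mp h <;>
        simp only [Subgroup.coe_mul, Subgroup.coe_inv, Subgroup.coe_one, hA', hB'] at hj
      exacts [hl 1 (Or.inl rfl) j hj, hl A (Or.inr (Or.inl rfl)) j hj,
        hl B (Or.inr (Or.inr (Or.inl rfl))) j hj, hl _ (Or.inr (Or.inr (Or.inr rfl))) j hj]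
    have hstep : ∀ {l v : G}, (∀ u, (u = 1 ∨ u = A ∨ u = B ∨ u = A * B) → ∀ j : ℕ, l * v * l⁻¹ ≠ u * w ^ j) →
        ∀ u, (u = 1 ∨ u = A ∨ u = B ∨ u = A * B) → ∀ j : ℕ,
          R⁻¹ * l * R * (R⁻¹ * v * R) * (R⁻¹ * l * R)⁻¹ ≠ u * w ^ j := by
      intro l v hl u hu j he
      have hu2 : R * u * R⁻¹ = 1 ∨ R * u * R⁻¹ = A ∨ R * u * R⁻¹ = B ∨ R * u * R⁻¹ = A * B := by
        rcases hu with rfl | rfl | rfl | rfl
        · exact Or.inl (by group)
        · exact Or.inr (Or.inr (Or.inr (by conv_lhs => rw [← d.rot_AB]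
                                           group)))
        · exact Or.inr (Or.inl (by rw [← d.rotA]; group))
        · exact Or.inr (Or.inr (Or.inl (by rw [← d.rotB]; group)))
      refine hl _ hu2 j ?_
      calc l * v * l⁻¹ = R * (R⁻¹ * l * R * (R⁻¹ * v * R) * (R⁻¹ * l * R)⁻¹) * R⁻¹ := by group
        _ = R * u * R⁻¹ * (R * w ^ j * R⁻¹) := by rw [he]; group
        _ = _ := by rw [(d.Rw.pow_right j).eq, mul_inv_cancel_right]
    have hRt' : ∀ {l : G}, Commute l t → Commute (R⁻¹ * l * R) t := fun hl =>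
      (d.Rt.inv_left.mul_left hl).mul_left d.Rt
    have e2 := hstep hL
    rw [d.rotA] at e2
    have e3 := hstep e2
    rw [d.rotB] at e3
    rintro u (rfl | rfl | rfl)
    · exact key L A' hLw hLt (by rw [hA']; exact hL)
    · exact key _ B' (hR hLw) (hRt' hLt) (by rw [hB']; exact e2)
    · have := key _ (A' * B') (hR (hR hLw)) (hRt' (hRt' hLt))
        (by rw [Subgroup.coe_mul, hA', hB']; exact e3)
      rwa [map_mul] at this

end RotData

end CfsgLib.HNType
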