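import Cfsg.Agent.Lib.HNType.FiveChart
import Cfsg.Agent.Lib.HNType.FiveRot
import Cfsg.Agent.Lib.HNType.FiveCheckE
import Cfsg.Agent.Lib.HNType.FiveCheckQ

/-!
The second branch does not occur.
-/

set_option autoImplicit false
set_option maxRecDepth 100000
set_option maxHeartbeats 1600000

namespace CfsgLib.HNType.Five

open CfsgLib.CosetEnum CfsgLib.DCoset CfsgLib.HN CfsgLib.HNType

/-- the centraliser of the canonical element of order three is listed -/
theorem mem_lList {m : ℕ} (hm : m < 30720) (h : Commute (yP m) (AW qStarW)) : m ∈ lList := by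
  have hl := l_ok hm
  simp only [lOK, strict_eq, Bool.or_eq_true, Bool.not_eq_true', List.contains_iff_mem] at hl
  refine hl.resolve_left fun hne => ?_
  refine absurd ?_ (Bool.eq_false_iff.mp hne)
  simp only [List.all_eq_true, List.mem_range]
  intro b hb
  have e1 : fWord (yW m) (qApp (basePt b)) = img (AW qStarW * yP m) (bp hb) := by
    rw [img_mul, yP, img_AW (good_yW hm), tab_facts.2.2.2 _ (base_lt hb)]
    congr 1
    rw [← bp_val hb, ← img_AW tab_facts.2.2.1 (bp hb)]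
    rfl
  have e2 : qApp (fWord (yW m) (basePt b)) = img (yP m * AW qStarW) (bp hb) := by
    rw [img_mul, img_AW tab_facts.2.2.1, ← bp_val hb, ← img_AW (good_yW hm) (bp hb),
      tab_facts.2.2.2 _ (show img (AW (yW m)) (bp hb) < 1408 from ((AW (yW m)).1.unop (bp hb)).2)]
    rfl
  rw [e1, e2, h.eq]
  exact Nat.beq_refl _

theorem zq_facts : (pz * pq) ^ 3 = pz ∧ (pz * pq) ^ 4 = pq ∧ (pz * pq) ^ 6 = 1 ∧
    ∀ j, j < 6 → (pz * pq) ^ j * (pz * pq) ^ j = 1 → j = 0 ∨ j = 3 := by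
  obtain ⟨-, -, -, -, -, -, -, -, -, -, -, hzq, -, -, -, -, -, -, -, -, -, hq1, hq3, -⟩ := base_facts
  have hzz := extra_facts.2.2.2.1
  have h2 : pz ^ 2 = 1 := by rw [pow_two, hzz]
  have e : ∀ k, (pz * pq) ^ k = pz ^ (k % 2) * pq ^ (k % 3) := fun k => by
    rw [hzq.mul_pow]
    conv_lhs => rw [← Nat.mod_add_div k 2, pow_add, pow_mul, h2, one_pow, mul_one]
    congr 1
    rw [Nat.mod_add_div k 2]
    conv_lhs => rw [← Nat.mod_add_div k 3, pow_add, pow_mul, hq3, one_pow, mul_one]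
  refine ⟨?_, ?_, ?_, fun j hj h => ?_⟩
  · rw [e, show 3 % 2 = 1 from rfl, show 3 % 3 = 0 from rfl, pow_one, pow_zero, mul_one]
  · rw [e, show 4 % 2 = 0 from rfl, show 4 % 3 = 1 from rfl, pow_one, pow_zero, one_mul]
  · rw [e]; simp
  · rw [← pow_add, e, show (j + j) % 2 = 0 by omega, pow_zero, one_mul] at h
    have hd := orderOf_dvd_of_pow_eq_one h
    have : Fact (Nat.Prime 3) := ⟨Nat.prime_three⟩
    rw [orderOf_eq_prime hq3 hq1] at hd
    omega

theorem inE_iff {v gq h : List ℕ} (hgq : Good gq) (hh : Good h)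
    (hgu : ∀ u ∈ ([[], [0, 0], v, 0 :: 0 :: v, [5], [5, 0, 0], 5 :: v, 5 :: 0 :: 0 :: v] : List (List ℕ)),
      Good u) :
    inE v gq h = true ↔
      ∃ u ∈ ([[], [0, 0], v, 0 :: 0 :: v, [5], [5, 0, 0], 5 :: v, 5 :: 0 :: 0 :: v] : List (List ℕ)),
        ∃ j < 6, AW h = AW u * AW gq ^ j := by
  simp only [inE, List.any_eq_true, List.mem_range]
  refine exists_congr fun u => and_congr_right fun hu => exists_congr fun j => and_congr_right fun _ => ?_
  rw [eqW_iff hh (good_append (hgu u hu) (good_powW hgq j)), AW_append, AW_powW]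

theorem good_el {w : List ℕ} (hw : lets w = true) {my my2 m : ℕ} (h1 : my < 30720)
    (h2 : my2 < 30720) (hm : m < 30720) : Good (winv w ++ yW my2 ++ yW m ++ (yW my ++ w)) :=
  good_append (good_append (good_append (good_winv hw) (good_yW h2)) (good_yW hm))
    (good_append (good_yW h1) (good_lets hw))

section

variable {G : Type*} [Group G] {t : G} {Φ : Chart t}

theorem Swap.second_branch_absurd [Finite G] {γ : G} (hγ : Swap Φ γ) {n : ℕ} (hn : n < 30720)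
    (hv : Φ.hom (yP n) = γ * Φ.hom pb * γ⁻¹) (hTv : Tt Φ (yP n)) (hTva : ¬ Tt Φ (yP n * pa))
    {e : ℕ × List ℕ × List ℕ × List (ℕ × ℕ × ℕ) × List (ℕ × List ℕ × ℕ × ℕ × ℕ × List (ℕ × List ℕ))}
    (he : e ∈ qCases) (hen : e.1 = n) : False := by
  obtain ⟨n', dv, cva, zl, qq⟩ := e
  dsimp only at hen
  subst hen
  have h := List.all_eq_true.mp qCases_ok _ he
  simp only [qCaseOK, Bool.and_eq_true, Nat.blt_eq] at h
  obtain ⟨⟨⟨⟨⟨⟨⟨-, hdv⟩, hcva⟩, hvd⟩, hvaz⟩, hzi⟩, hqz⟩, hqq⟩ := h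
  obtain ⟨c5, c6, c7, c8, c9, c11, haa, hbb, hab, haq, hbq, hzq, hza, hzb, hae, he5, he1, ha1, hai,
    hb1, hba, hq1, hq3, haW, haWe, hqW, hqWe, heb, hr10, har, hbr, hrq, hrz, hF, hgu, hg0, hg1, hxa,
    hx2, hwb, hq2, lza, lzt, hzae, hzte, hlz, hlq, hmove⟩ := base_facts
  obtain ⟨-, hr3, -, hzz, hz1, hzA, hzi', hzia, hlist⟩ := extra_facts
  obtain ⟨hw3, hw4, hw6, hwsq⟩ := zq_facts
  have gv := good_yW hn
  have d0l : d0Idx < 30720 := by decide
  have hTd0 : Tt Φ (yP d0Idx) := by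
    have h := (eqW_iff gv (good_append (good_append (good_winv hdv) (good_yW d0l)) (good_lets hdv))).mp hvd
    rw [AW_append, AW_append, AW_winv hdv] at h
    rw [← tt_conj Φ (AW dv), yP, ← h]
    exact hTv
  have hTz : ¬ Tt Φ pz := by
    have h := (eqW_iff (good_append gv (good_cons (by norm_num) good_nil))
      (good_append (good_winv hcva) (good_cons (by norm_num) (good_lets hcva)))).mp hvaz
    rw [AW_append, AW_append, AW_winv hcva, AW_cons 4 cva, ← mul_assoc] at h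
    intro hh
    refine hTva ?_
    show Tt Φ (AW (yW n') * AW [5])
    rw [h]
    exact (tt_conj Φ (AW cva) pz).mpr hh
  obtain ⟨k, hk, hkz, -, j0, hcase⟩ := hγ.image_z gv hv hzi
  obtain ⟨-, hyes⟩ | ⟨hmem, -⟩ := hcase
  · exact hTz hyes
  simp only [List.all_eq_true, Bool.or_eq_true, Bool.not_eq_true', List.any_eq_true] at hqz hqq
  rcases hqz _ hmem with h5 | ⟨⟨k', w', my, my2, h1, wit⟩, hmem', hk'⟩
  · exact absurd h5 (by simp)
  obtain rfl : k' = k := Nat.eq_of_beq_eq_true hk'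
  have h := hqq _ hmem'
  simp only [qSubOK, Bool.and_eq_true, Nat.blt_eq, List.all_eq_true, List.mem_range, Bool.or_eq_true,
    Bool.not_eq_true', List.contains_iff_mem, List.any_eq_true] at h
  obtain ⟨⟨⟨⟨⟨⟨⟨⟨⟨⟨⟨-, hw'⟩, hmy⟩, hmy2⟩, hcc⟩, hcg⟩, hcq⟩, -⟩, hall⟩, hh1⟩, hh1v⟩,
    ⟨wi, hwi, ⟨hwiL, hwi2⟩, hwiE⟩⟩ := h
  have g1 : ∀ j, j < 47 → Good [j] := fun j hj => good_cons hj good_nil
  have gk := good_yW hk
  obtain ⟨qv, hqvd⟩ : ∃ qv, qv = substB qWord (yW n') := ⟨_, rfl⟩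
  rw [← hqvd] at hcq hall hwiE
  have gqv : Good qv := hqvd ▸ good_substB hqW gv
  obtain ⟨gq, hgqd⟩ : ∃ gq, gq = yW k' ++ qv := ⟨_, rfl⟩
  rw [← hgqd] at hall hwiE
  have ggq : Good gq := hgqd ▸ good_append gk gqv
  have hq' : Φ.hom (AW qv) = γ * Φ.hom pq * γ⁻¹ := by
    rw [hqvd, AW_substB hqW, ← yP, hγ.image_word hv, ← AW_evEB hqW, hqWe]
  obtain ⟨C, hC⟩ : ∃ C, C = AW (yW my ++ w') := ⟨_, rfl⟩
  have gc : Good (yW my ++ w') := good_append (good_yW hmy) (good_lets hw')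
  have gc' : Good (winv w' ++ yW my2) := good_append (good_winv hw') (good_yW hmy2)
  have hC' : AW (winv w' ++ yW my2) = C⁻¹ := by
    have h := (eqW_iff (good_append gc gc') good_nil).mp hcc
    rw [AW_append, AW_nil, ← hC] at h
    exact (inv_eq_of_mul_eq_one_right h).symm
  have hg : yP k' = C⁻¹ * (pa * iP) * C := by
    have h := (eqW_iff (good_append gc gk)
      (good_append (good_cons (by norm_num) (good_cons (by norm_num) (g1 0 (by norm_num)))) gc)).mp hcg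
    rw [AW_append (yW my ++ w'), AW_append [5, 0, 0], AW_cons 5, iP_AW, ← hC] at h
    show AW (yW k') = C⁻¹ * (AW [5] * iP) * C
    rw [mul_assoc C⁻¹, ← h, inv_mul_cancel_left]
  have hqC : AW qv = C⁻¹ * AW qStarW * C := by
    have h := (eqW_iff (good_append tab_facts.2.2.1 gc) (good_append gc gqv)).mp hcq
    rw [AW_append qStarW, AW_append (yW my ++ w'), ← hC] at h
    rw [mul_assoc, h, inv_mul_cancel_left]
  have hel : ∀ m, m < 30720 → AW (winv w' ++ yW my2 ++ yW m ++ (yW my ++ w')) = C⁻¹ * yP m * C :=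
    fun m _ => by rw [AW_append, AW_append, hC', ← hC, ← yP]
  obtain ⟨w, hwd⟩ : ∃ w, w = Φ.hom (pz * pq) := ⟨_, rfl⟩
  have hgqw : Φ.hom (AW gq) = γ * w * γ⁻¹ := by
    rw [hgqd, AW_append, map_mul, ← yP, hkz, hq', hwd, map_mul]; group
  have hw3' : w ^ 3 = Φ.hom pz := by rw [hwd, ← map_pow, hw3]
  have hw4' : w ^ 4 = Φ.hom pq := by rw [hwd, ← map_pow, hw4]
  have hw6' : w ^ 6 = 1 := by rw [hwd, ← map_pow, hw6, map_one]
  have hpw : ∀ i, w ^ i = w ^ (i % 6) := fun i => by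
    conv_lhs => rw [← Nat.mod_add_div i 6, pow_add, pow_mul, hw6', one_pow, mul_one]
  have hcj : ∀ {a b : G}, Commute a b → Commute (γ * a * γ⁻¹) (γ * b * γ⁻¹) := fun {a b} h => by
    show γ * a * γ⁻¹ * (γ * b * γ⁻¹) = γ * b * γ⁻¹ * (γ * a * γ⁻¹)
    calc _ = γ * (a * b) * γ⁻¹ := by group
      _ = _ := by rw [h.eq]; group
  have hcj' : ∀ {x : PH} {a b : G}, Φ.hom x = γ * a * γ⁻¹ → ∀ {y : PH}, Φ.hom y = γ * b * γ⁻¹ →
      Commute x y → Commute a b := fun {x a b} hx {y} hy hc => by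
    have e := (hc.map Φ.hom).eq
    rw [hx, hy] at e
    show a * b = b * a
    calc a * b = γ⁻¹ * (γ * a * γ⁻¹ * (γ * b * γ⁻¹)) * γ := by group
      _ = _ := by rw [e]; group
  -- elements of the centraliser of `w` commuting with `a`
  have down : ∀ x, Commute x w → Commute x (Φ.hom pa) → ∃ m ∈ lList,
      Φ.hom (AW (winv w' ++ yW my2 ++ yW m ++ (yW my ++ w'))) = γ * x * γ⁻¹ := by
    intro x hxw hxa
    obtain ⟨h, hh⟩ := Φ.exists_of_commute (u := γ * x * γ⁻¹)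
      (Eq.mp (congrArg (Commute _) hγ.a_t) (hcj hxa))
    have c1 : Commute h (yP k') := Φ.hom_inj (by
      rw [map_mul, map_mul, hh, hkz, ← hw3']; exact (hcj (hxw.pow_right 3)).eq)
    have c2 : Commute h (AW qv) := Φ.hom_inj (by
      rw [map_mul, map_mul, hh, hq', ← hw4']; exact (hcj (hxw.pow_right 4)).eq)
    have back : ∀ p, Commute h (C⁻¹ * p * C) → Commute (C * h * C⁻¹) p := fun p hp => by
      show C * h * C⁻¹ * p = p * (C * h * C⁻¹)
      calc C * h * C⁻¹ * p = C * (h * (C⁻¹ * p * C)) * C⁻¹ := by group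
        _ = _ := by rw [hp.eq]; group
    have d1 := back _ (hg ▸ c1)
    have d1' : Commute (C * h * C⁻¹) pa := by
      have h2 := d1.mul_right (iP_comm (C * h * C⁻¹)).symm
      rwa [mul_assoc pa, iP_sq, mul_one] at h2
    obtain ⟨m, hm, e⟩ := exists_y d1'
    refine ⟨m, mem_lList hm (e ▸ back _ (hqC ▸ c2)), ?_⟩
    rw [hel m hm, e, ← hh]; group
  have up : ∀ m ∈ lList, ∀ x, Φ.hom (AW (winv w' ++ yW my2 ++ yW m ++ (yW my ++ w'))) = γ * x * γ⁻¹ →
      Commute x w ∧ Commute x (Φ.hom pa) := by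
    intro m hm x hx
    obtain ⟨hm', hmq⟩ := hlist m hm
    rw [hel m hm'] at hx
    have cj : ∀ p, Commute (yP m) p → Commute (C⁻¹ * yP m * C) (C⁻¹ * p * C) := fun p hp => by
      show C⁻¹ * yP m * C * (C⁻¹ * p * C) = C⁻¹ * p * C * (C⁻¹ * yP m * C)
      calc _ = C⁻¹ * (yP m * p) * C := by group
        _ = _ := by rw [hp.eq]; group
    refine ⟨hcj' hx hgqw ?_, hcj' hx (y := iP) (by rw [Φ.hom_iP, hγ.a_t]) (iP_comm _).symm⟩
    rw [hgqd, AW_append, ← yP, hg, hqC]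
    exact (cj _ ((yP_comm hm').mul_right (iP_comm _).symm)).mul_right (cj _ hmq)
  -- the eight elements
  have gU : ∀ u ∈ ([[], [0, 0], yW n', 0 :: 0 :: yW n', [5], [5, 0, 0], 5 :: yW n',
      5 :: 0 :: 0 :: yW n'] : List (List ℕ)), Good u := by
    have h0 : Good [0, 0] := good_cons (by norm_num) (g1 0 (by norm_num))
    simp only [List.mem_cons, List.not_mem_nil, or_false]
    rintro u (rfl | rfl | rfl | rfl | rfl | rfl | rfl | rfl)
    exacts [good_nil, h0, gv, good_append h0 gv, g1 5 (by norm_num), good_cons (by norm_num) h0,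
      good_cons (by norm_num) gv, good_cons (by norm_num) (good_append h0 gv)]
  have e00 : Φ.hom (AW [0, 0]) = γ * Φ.hom pa * γ⁻¹ := by rw [iP_AW, Φ.hom_iP, hγ.a_t]
  have e5 : Φ.hom (AW [5]) = γ * t * γ⁻¹ := hγ.t_a.symm
  have e00v : Φ.hom (AW (0 :: 0 :: yW n')) = γ * (Φ.hom pa * Φ.hom pb) * γ⁻¹ := by
    rw [show (0 :: 0 :: yW n' : List ℕ) = [0, 0] ++ yW n' from rfl, AW_append, map_mul, e00, ← yP, hv]
    group
  have e500 : Φ.hom (AW [5, 0, 0]) = γ * (t * Φ.hom pa) * γ⁻¹ := by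
    rw [AW_cons, map_mul, e5, e00]; group
  have e5v : Φ.hom (AW (5 :: yW n')) = γ * (t * Φ.hom pb) * γ⁻¹ := by
    rw [AW_cons, map_mul, e5, ← yP, hv]; group
  have e500v : Φ.hom (AW (5 :: 0 :: 0 :: yW n')) = γ * (t * (Φ.hom pa * Φ.hom pb)) * γ⁻¹ := by
    rw [AW_cons, map_mul, e5, e00v]; group
  have hinE : ∀ {m : ℕ}, m < 30720 → ∀ {x : G},
      Φ.hom (AW (winv w' ++ yW my2 ++ yW m ++ (yW my ++ w'))) = γ * x * γ⁻¹ →
      (inE (yW n') gq (winv w' ++ yW my2 ++ yW m ++ (yW my ++ w')) = true ↔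
        InE t (Φ.hom pa) (Φ.hom pb) w x) := by
    intro m hm x hx
    rw [inE_iff ggq (good_el hw' hmy hmy2 hm) gU]
    constructor
    · rintro ⟨u, hu, i, -, hi⟩
      have hxe : ∀ {y : G}, Φ.hom (AW u) = γ * y * γ⁻¹ → x = y * w ^ i := fun {y} hy => by
        rw [hi, map_mul, map_pow, hy, hgqw, conj_pow] at hx
        calc x = γ⁻¹ * (γ * x * γ⁻¹) * γ := by group
          _ = _ := by rw [← hx]; group
      simp only [List.mem_cons, List.not_mem_nil, or_false] at hu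
      rcases hu with rfl | rfl | rfl | rfl | rfl | rfl | rfl | rfl
      · exact ⟨1, Or.inl rfl, i, Or.inl (hxe (by rw [AW_nil, map_one]; group))⟩
      · exact ⟨_, Or.inr (Or.inl rfl), i, Or.inl (hxe e00)⟩
      · exact ⟨_, Or.inr (Or.inr (Or.inl rfl)), i, Or.inl (hxe hv)⟩
      · exact ⟨_, Or.inr (Or.inr (Or.inr rfl)), i, Or.inl (hxe e00v)⟩
      · exact ⟨1, Or.inl rfl, i, Or.inr (by rw [mul_one]; exact hxe e5)⟩
      · exact ⟨_, Or.inr (Or.inl rfl), i, Or.inr (hxe e500)⟩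
      · exact ⟨_, Or.inr (Or.inr (Or.inl rfl)), i, Or.inr (hxe e5v)⟩
      · exact ⟨_, Or.inr (Or.inr (Or.inr rfl)), i, Or.inr (hxe e500v)⟩
    · rintro ⟨u, hu, i, hi⟩
      have mk : ∀ (l : List ℕ) {y : G}, Φ.hom (AW l) = γ * y * γ⁻¹ → x = y * w ^ i →
          AW (winv w' ++ yW my2 ++ yW m ++ (yW my ++ w')) = AW l * AW gq ^ (i % 6) := fun l {y} hy hxy =>
        Φ.hom_inj (by rw [hx, map_mul, map_pow, hy, hgqw, conj_pow, ← hpw, hxy]; group)
      have h6 : i % 6 < 6 := Nat.mod_lt _ (by norm_num)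
      rcases hi with hi | hi <;> rcases hu with rfl | rfl | rfl | rfl
      · exact ⟨[], by simp, _, h6, mk _ (by rw [AW_nil, map_one]; group) hi⟩
      · exact ⟨[0, 0], by simp, _, h6, mk _ e00 hi⟩
      · exact ⟨yW n', by simp, _, h6, mk _ hv hi⟩
      · exact ⟨0 :: 0 :: yW n', by simp, _, h6, mk _ e00v hi⟩
      · exact ⟨[5], by simp, _, h6, mk _ e5 (by rw [mul_one] at hi; exact hi)⟩
      · exact ⟨[5, 0, 0], by simp, _, h6, mk _ e500 hi⟩
      · exact ⟨5 :: yW n', by simp, _, h6, mk _ e5v hi⟩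
      · exact ⟨5 :: 0 :: 0 :: yW n', by simp, _, h6, mk _ e500v hi⟩
  -- conjugates of `z`
  have hnz : ∀ {l c : List ℕ}, Good l → lets c = true → eqW l (winv c ++ 4 :: c) = true →
      ¬ Tt Φ (AW l) := fun {l c} hl hc he => by
    have h := (eqW_iff hl (good_append (good_winv hc) (good_cons (by norm_num) (good_lets hc)))).mp he
    rw [AW_append, AW_winv hc, AW_cons 4 c, ← mul_assoc] at h
    rw [h]
    exact fun hh => hTz ((tt_conj Φ (AW c) pz).mp hh)
  have ht1 : t ≠ 1 := fun h => ha1 (Φ.hom_inj (by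
    rw [map_one, ← hγ.t_a, h]; group))
  have hL : Φ.hom pr * t = t * Φ.hom pr := (Φ.commute_hom pr).eq
  refine RotData.false (T := fun x => IsConj t x) (t := t) (A := Φ.hom pa) (B := Φ.hom pb) (w := w)
    (R := Φ.hom pr)
    { w6 := hw6', w_sq := ?_, AA := by rw [← map_mul, haa, map_one],
      BB := by rw [← map_mul, hbb, map_one],
      tt := by rw [← Φ.hom_iP, ← map_mul, iP_sq, map_one],
      AB := hab.map Φ.hom, tA := (Φ.commute_hom pa).symm, tB := (Φ.commute_hom pb).symm,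
      Aw := by rw [hwd]; exact (hza.symm.mul_right haq).map Φ.hom,
      Bw := by rw [hwd]; exact (hzb.symm.mul_right hbq).map Φ.hom,
      tw := hwd ▸ (Φ.commute_hom _).symm,
      Rw := by rw [hwd]; exact (hrz.mul_right hrq).map Φ.hom,
      Rt := Φ.commute_hom pr,
      rotA := by rw [← map_inv, ← map_mul, ← map_mul, mul_assoc, har, inv_mul_cancel_left],
      rotB := by rw [← map_inv, ← map_mul, ← map_mul, ← map_mul, mul_assoc, hbr, inv_mul_cancel_left],
      T_conj := fun g x hx => hx.trans (isConj_iff.mpr ⟨g, rfl⟩),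
      T_t := IsConj.refl t, T_A := hγ.tt_pa, T_Az := ?_, T_tz := ?_, T_tA := ?_, t1 := ht1, tz := ?_,
      A1 := fun h => ha1 (Φ.hom_inj (by rw [map_one]; exact h)),
      Az := fun h => hzA (Φ.hom_inj (by rw [← hw3']; exact h.symm)),
      BA := fun h => hba (Φ.hom_inj h), move := ?_, moves := ?_, cent := ?_, kinds := ?_, other := ?_,
      out := ?_ }
  · intro j hj h
    rw [hwd, ← map_pow, ← map_mul] at h
    exact hwsq j hj (Φ.hom_inj (h.trans Φ.hom.map_one.symm))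
  · show IsConj t (Φ.hom pa * w ^ 3)
    rw [hw3', ← map_mul, ← hza.eq, hzae]
    exact (tt_conj Φ (AW zaW) (yP d0Idx)).mpr hTd0
  · show ¬ IsConj t (t * w ^ 3)
    rw [hw3', show t * Φ.hom pz = Φ.hom (iP * pz) by rw [map_mul, Φ.hom_iP], iP_comm, hzte]
    exact fun hh => hTz ((tt_conj Φ (AW ztW) pz).mp hh)
  · show ¬ IsConj t (t * Φ.hom pa)
    rw [(Φ.commute_hom pa).symm.eq, show Φ.hom pa * t = Φ.hom (pa * iP) by rw [map_mul, Φ.hom_iP]]
    exact not_tt_pa_iP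
  · exact fun h => hzi' (Φ.hom_inj (by rw [← hw3', Φ.hom_iP]; exact h.symm))
  · intro x hxw hxa
    obtain ⟨m, hm, hx⟩ := down x hxw hxa
    have hm' := (hlist m hm).1
    have ge := good_el hw' hmy hmy2 hm'
    rcases (hall m hm).1.1 with hh | hh
    · have e := hcj' hx hv ((commW_iff ge gv).mp hh)
      exact Or.inl (by rw [e.eq, mul_inv_cancel_right])
    · have e := congrArg Φ.hom ((eqW_iff (good_append ge gv) (good_append (good_append gv gk) ge)).mp hh)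
      rw [AW_append _ (yW n'), AW_append (yW n' ++ yW k'), AW_append (yW n'), map_mul, map_mul, map_mul,
        hx, ← yP, ← yP, hv, hkz, ← hw3'] at e
      refine Or.inr ?_
      calc x * Φ.hom pb * x⁻¹ = γ⁻¹ * (γ * x * γ⁻¹ * (γ * Φ.hom pb * γ⁻¹)) * γ * x⁻¹ := by group
        _ = _ := by rw [e]; group
  · have hm' := (hlist _ hh1).1
    have ge := good_el hw' hmy hmy2 hm'
    obtain ⟨x, hx⟩ : ∃ x, Φ.hom (AW (winv w' ++ yW my2 ++ yW h1 ++ (yW my ++ w'))) = γ * x * γ⁻¹ :=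
      ⟨γ⁻¹ * Φ.hom (AW (winv w' ++ yW my2 ++ yW h1 ++ (yW my ++ w'))) * γ, by group⟩
    obtain ⟨hxw, hxa⟩ := up h1 hh1 x hx
    refine ⟨x, hxw, hxa, fun e => (commW_not ge gv).mp hh1v (Φ.hom_inj ?_)⟩
    rw [map_mul, map_mul, ← yP, hx, hv]
    calc γ * x * γ⁻¹ * (γ * Φ.hom pb * γ⁻¹) = γ * (x * Φ.hom pb * x⁻¹) * x * γ⁻¹ := by group
      _ = _ := by rw [e]; group
  · intro x hxw hxa i hi
    obtain ⟨m, hm, hx⟩ := down x hxw hxa
    have hm' := (hlist m hm).1
    have ge := good_el hw' hmy hmy2 hm'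
    refine (hinE hm' hx).mp (((hall m hm).1.2 (i % 6) (Nat.mod_lt _ (by norm_num))).resolve_left ?_)
    intro hne
    refine (eqW_not (good_append ge (g1 5 (by norm_num)))
      (good_append (good_cons (by norm_num) (good_powW ggq (i % 6))) ge)).mp hne (Φ.hom_inj ?_)
    rw [AW_append _ [5], AW_append (5 :: powW gq (i % 6)), AW_cons 5 (powW gq (i % 6)), AW_powW,
      map_mul, map_mul, map_mul, map_pow, hx, e5, hgqw, conj_pow, ← hpw]
    calc γ * x * γ⁻¹ * (γ * t * γ⁻¹) = γ * (x * t) * γ⁻¹ := by group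
      _ = _ := by rw [hi]; group
  · intro x hxw hxa hxx hT
    obtain ⟨m, hm, hx⟩ := down x hxw hxa
    have hm' := (hlist m hm).1
    have ge := good_el hw' hmy hmy2 hm'
    refine (hinE hm' hx).mp ?_
    rcases (hall m hm).2 with (hh | hh) | ⟨⟨i, wc⟩, -, ⟨-, hwc⟩, he⟩
    · exfalso
      refine (eqW_not (good_append ge ge) good_nil).mp hh (Φ.hom_inj ?_)
      rw [AW_append, map_mul, hx, AW_nil, map_one]
      calc γ * x * γ⁻¹ * (γ * x * γ⁻¹) = γ * (x * x) * γ⁻¹ := by group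
        _ = 1 := by rw [hxx]; group
    · exact hh
    · exfalso
      refine hnz ge hwc he ?_
      show IsConj t (Φ.hom _)
      rw [hx]
      exact hT.trans (isConj_iff.mpr ⟨γ, rfl⟩)
  · have hm' := (hlist _ hwiL).1
    have ge := good_el hw' hmy hmy2 hm'
    obtain ⟨x, hx⟩ : ∃ x, Φ.hom (AW (winv w' ++ yW my2 ++ yW wi.1 ++ (yW my ++ w'))) = γ * x * γ⁻¹ :=
      ⟨γ⁻¹ * Φ.hom (AW (winv w' ++ yW my2 ++ yW wi.1 ++ (yW my ++ w'))) * γ, by group⟩
    obtain ⟨hxw, hxa⟩ := up _ hwiL x hx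
    refine ⟨x, hxw, hxa, ?_, fun h => ?_⟩
    · have e := congrArg Φ.hom ((eqW_iff (good_append ge ge) good_nil).mp hwi2)
      rw [AW_append, map_mul, hx, AW_nil, map_one] at e
      calc x * x = γ⁻¹ * (γ * x * γ⁻¹ * (γ * x * γ⁻¹)) * γ := by group
        _ = 1 := by rw [e]; group
    · rw [(hinE hm' hx).mpr h] at hwiE
      exact Bool.noConfusion hwiE
  · refine ⟨Φ.hom (AW [46]), by rw [hwd]; exact (hlz.mul_right hlq).map Φ.hom, Φ.commute_hom _,
      fun u hu i e => ?_⟩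
    obtain ⟨p, hp, hpu⟩ : ∃ p ∈ [1, pa, pb, pa * pb], Φ.hom p = u := by
      rcases hu with rfl | rfl | rfl | rfl
      exacts [⟨1, by simp, map_one _⟩, ⟨pa, by simp, rfl⟩, ⟨pb, by simp, rfl⟩,
        ⟨pa * pb, by simp, map_mul _ _ _⟩]
    refine hmove p hp (i % 6) (Nat.mod_lt _ (by norm_num)) (Φ.hom_inj ?_)
    rw [map_mul, map_mul, map_mul, map_pow, hpu, ← hwd, ← hpw, ← e]; group

end

end CfsgLib.HNType.Five
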