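import Cfsg.Agent.Lib.HNType.FiveDefs

/-!
A check on the elements of the centraliser of `a` holds.
-/

set_option autoImplicit false
set_option maxRecDepth 100000
set_option maxHeartbeats 4000000

namespace CfsgLib.HNType.Five

open CfsgLib.CosetEnum CfsgLib.DCoset

theorem sq_ok_0 : Cert.allBelow 3840 (fun n => sqOK (n + 0)) = true := by decide +kernel
theorem sq_ok_1 : Cert.allBelow 3840 (fun n => sqOK (n + 3840)) = true := by decide +kernel
theorem sq_ok_2 : Cert.allBelow 3840 (fun n => sqOK (n + 7680)) = true := by decide +kernel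
theorem sq_ok_3 : Cert.allBelow 3840 (fun n => sqOK (n + 11520)) = true := by decide +kernel
theorem sq_ok_4 : Cert.allBelow 3840 (fun n => sqOK (n + 15360)) = true := by decide +kernel
theorem sq_ok_5 : Cert.allBelow 3840 (fun n => sqOK (n + 19200)) = true := by decide +kernel
theorem sq_ok_6 : Cert.allBelow 3840 (fun n => sqOK (n + 23040)) = true := by decide +kernel
theorem sq_ok_7 : Cert.allBelow 3840 (fun n => sqOK (n + 26880)) = true := by decide +kernel

theorem sq_ok {n : ℕ} (hn : n < 30720) : sqOK n = true := by
  by_cases h0 : n < 3840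
  · have h := Cert.allBelow_spec sq_ok_0 (n - 0) (by omega)
    rwa [show n - 0 + 0 = n by omega] at h
  by_cases h1 : n < 7680
  · have h := Cert.allBelow_spec sq_ok_1 (n - 3840) (by omega)
    rwa [show n - 3840 + 3840 = n by omega] at h
  by_cases h2 : n < 11520
  · have h := Cert.allBelow_spec sq_ok_2 (n - 7680) (by omega)
    rwa [show n - 7680 + 7680 = n by omega] at h
  by_cases h3 : n < 15360
  · have h := Cert.allBelow_spec sq_ok_3 (n - 11520) (by omega)
    rwa [show n - 11520 + 11520 = n by omega] at h
  by_cases h4 : n < 19200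
  · have h := Cert.allBelow_spec sq_ok_4 (n - 15360) (by omega)
    rwa [show n - 15360 + 15360 = n by omega] at h
  by_cases h5 : n < 23040
  · have h := Cert.allBelow_spec sq_ok_5 (n - 19200) (by omega)
    rwa [show n - 19200 + 19200 = n by omega] at h
  by_cases h6 : n < 26880
  · have h := Cert.allBelow_spec sq_ok_6 (n - 23040) (by omega)
    rwa [show n - 23040 + 23040 = n by omega] at h
  by_cases h7 : n < 30720
  · have h := Cert.allBelow_spec sq_ok_7 (n - 26880) (by omega)
    rwa [show n - 26880 + 26880 = n by omega] at h
  omega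

end CfsgLib.HNType.Five
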