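import Cfsg.Agent.Lib.HNType.FiveCheckP4

/-!
The checks on the cases of the first branch hold.
-/

set_option autoImplicit false
set_option maxRecDepth 100000
set_option maxHeartbeats 4000000

namespace CfsgLib.HNType.Five

open CfsgLib.CosetEnum CfsgLib.DCoset


theorem pCases_ok : pCases.all pCaseOK = true := by
  have e : pCases = (pCases.drop 0).take 2 ++ (pCases.drop 2).take 2 ++ (pCases.drop 4).take 2 ++ (pCases.drop 6).take 2 ++ (pCases.drop 8).take 2 ++ (pCases.drop 10).take 2 ++ (pCases.drop 12).take 2 ++ (pCases.drop 14).take 2 ++ (pCases.drop 16).take 2 ++ (pCases.drop 18).take 2 := by rfl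
  rw [e]
  simp only [List.all_append, Bool.and_eq_true]
  exact ⟨⟨⟨⟨⟨⟨⟨⟨⟨pCases_ok_0, pCases_ok_1⟩, pCases_ok_2⟩, pCases_ok_3⟩, pCases_ok_4⟩, pCases_ok_5⟩, pCases_ok_6⟩, pCases_ok_7⟩, pCases_ok_8⟩, pCases_ok_9⟩

end CfsgLib.HNType.Five
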