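import Cfsg.Agent.Lib.HNType.Endgame
import Cfsg.Agent.Lib.HNType.FiveP
import Cfsg.Agent.Lib.HNType.FiveQ

/-!
A group of HN type has an element of order five satisfying the relations of `t` with the
images of `x`, `y`, `z`.
-/

set_option autoImplicit false
set_option maxRecDepth 100000

namespace CfsgLib.HNType

open CfsgLib.HN CfsgLib.CosetEnum CfsgLib.DCoset CfsgLib.HNType.Five

theorem toP_hX : toP hX = AW [0] := by
  rw [AW_lets (by decide), show hX = ⟨prodW gen [0], rig.prodW_mem (by decide +kernel)⟩ from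
    Subtype.ext (by simp [hX, gen])]
  exact Subtype.ext (toP_word (by decide +kernel))

theorem toP_hY : toP hY = AW [2] := by
  rw [AW_lets (by decide), show hY = ⟨prodW gen [2], rig.prodW_mem (by decide +kernel)⟩ from
    Subtype.ext (by simp [hY, gen])]
  exact Subtype.ext (toP_word (by decide +kernel))

theorem toP_hZ : toP hZ = AW [4] := by
  rw [AW_lets (by decide), show hZ = ⟨prodW gen [4], rig.prodW_mem (by decide +kernel)⟩ from
    Subtype.ext (by simp [hZ, gen])]
  exact Subtype.ext (toP_word (by decide +kernel))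

variable {G : Type*} [Group G] {t : G}

/-- the element of order five -/
theorem Chart.exists_five (Φ : Chart t) [Finite G] [IsSimpleGroup G] (ht : orderOf t = 2) :
    ∃ s : G, s ^ 5 = 1 ∧ (Φ.hom (toP hX))⁻¹ * s * Φ.hom (toP hX) * s ^ 2 = 1 ∧
      Commute s (Φ.hom (toP hY)) ∧ (Φ.hom (toP hZ) * s) ^ 3 = 1 := by
  obtain ⟨γ, hγ⟩ := Five.exists_swap Φ ht
  obtain ⟨n, hn, hv, hTv, hTva, ⟨e, he, hen⟩ | ⟨e, he, hen⟩⟩ := hγ.image_b
  · rw [toP_hX, toP_hY, toP_hZ]
    exact hγ.first_branch hn hv hTv hTva he hen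
  · exact (hγ.second_branch_absurd hn hv hTv hTva he hen).elim

end CfsgLib.HNType
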