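import Cfsg.Agent.Lib.HNType.FiveDefs

/-!
The checks on the tables and on the centraliser of `a` hold.

The long checks are cut into pieces, each checked on its own to bound the memory.
-/

set_option autoImplicit false
set_option maxRecDepth 100000
set_option maxHeartbeats 4000000
set_option Elab.async false

namespace CfsgLib.HNType.Five

open CfsgLib.CosetEnum CfsgLib.DCoset CfsgLib.HN CfsgLib.HNType

/-- the table of atom `j` -/
private noncomputable def tabRow (j : ℕ) : Bool :=
  lets (fiveW.getD j []) &&
    Cert.allBelow 1408 fun x => Nat.beq (fApp j x) (space.C.run x (fiveW.getD j []))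

private theorem tab_part0 : (List.range 8).all (fun j => tabRow (j + 0)) = true := by decide +kernel
private theorem tab_part1 : (List.range 8).all (fun j => tabRow (j + 8)) = true := by decide +kernel
private theorem tab_part2 : (List.range 8).all (fun j => tabRow (j + 16)) = true := by decide +kernel
private theorem tab_part3 : (List.range 8).all (fun j => tabRow (j + 24)) = true := by decide +kernel
private theorem tab_part4 : (List.range 8).all (fun j => tabRow (j + 32)) = true := by decide +kernel
private theorem tab_part5 : (List.range 7).all (fun j => tabRow (j + 40)) = true := by decide +kernel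

private theorem tab_rows : ∀ j < 47, tabRow j = true := by
  intro j hj
  by_cases h0 : j < 8
  · have h := List.all_eq_true.1 tab_part0 (j - 0) (List.mem_range.2 (by omega))
    rwa [show j - 0 + 0 = j by omega] at h
  by_cases h1 : j < 16
  · have h := List.all_eq_true.1 tab_part1 (j - 8) (List.mem_range.2 (by omega))
    rwa [show j - 8 + 8 = j by omega] at h
  by_cases h2 : j < 24
  · have h := List.all_eq_true.1 tab_part2 (j - 16) (List.mem_range.2 (by omega))
    rwa [show j - 16 + 16 = j by omega] at h
  by_cases h3 : j < 32
  · have h := List.all_eq_true.1 tab_part3 (j - 24) (List.mem_range.2 (by omega))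
    rwa [show j - 24 + 24 = j by omega] at h
  by_cases h4 : j < 40
  · have h := List.all_eq_true.1 tab_part4 (j - 32) (List.mem_range.2 (by omega))
    rwa [show j - 32 + 32 = j by omega] at h
  have h := List.all_eq_true.1 tab_part5 (j - 40) (List.mem_range.2 (by omega))
  rwa [show j - 40 + 40 = j by omega] at h

private theorem tab_len : Nat.beq fiveW.length 47 = true := by decide +kernel

private theorem tab_qW : (qStarW.all fun j => Nat.blt j 47) = true := by decide +kernel

private theorem tab_q : Cert.allBelow 1408 (fun x => Nat.beq (qApp x) (fWord qStarW x)) = true := by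
  decide +kernel

theorem tab_ok : tabOK = true := by
  unfold tabOK
  rw [Bool.and_eq_true, Bool.and_eq_true, Bool.and_eq_true]
  exact ⟨⟨⟨tab_len, List.all_eq_true.2 fun j hj => tab_rows j (List.mem_range.1 hj)⟩, tab_qW⟩, tab_q⟩

theorem coset_ok : cosetOK = true := by decide +kernel
theorem base_ok : baseOK = true := by decide +kernel

private theorem cls_part0 : Cert.allBelow 578 (fun n => clsOK (n + 0)) = true := by decide +kernel
private theorem cls_part1 : Cert.allBelow 578 (fun n => clsOK (n + 578)) = true := by decide +kernel
private theorem cls_part2 : Cert.allBelow 578 (fun n => clsOK (n + 1156)) = true := by decide +kernel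
private theorem cls_part3 : Cert.allBelow 578 (fun n => clsOK (n + 1734)) = true := by decide +kernel
private theorem cls_part4 : Cert.allBelow 578 (fun n => clsOK (n + 2312)) = true := by decide +kernel
private theorem cls_part5 : Cert.allBelow 578 (fun n => clsOK (n + 2890)) = true := by decide +kernel
private theorem cls_part6 : Cert.allBelow 578 (fun n => clsOK (n + 3468)) = true := by decide +kernel
private theorem cls_part7 : Cert.allBelow 578 (fun n => clsOK (n + 4046)) = true := by decide +kernel
private theorem cls_part8 : Cert.allBelow 578 (fun n => clsOK (n + 4624)) = true := by decide +kernel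
private theorem cls_part9 : Cert.allBelow 573 (fun n => clsOK (n + 5202)) = true := by decide +kernel

private theorem cls_all {n : ℕ} (hn : n < 5775) : clsOK n = true := by
  by_cases h0 : n < 578
  · have h := Cert.allBelow_spec cls_part0 (n - 0) (by omega)
    rwa [show n - 0 + 0 = n by omega] at h
  by_cases h1 : n < 1156
  · have h := Cert.allBelow_spec cls_part1 (n - 578) (by omega)
    rwa [show n - 578 + 578 = n by omega] at h
  by_cases h2 : n < 1734
  · have h := Cert.allBelow_spec cls_part2 (n - 1156) (by omega)
    rwa [show n - 1156 + 1156 = n by omega] at h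
  by_cases h3 : n < 2312
  · have h := Cert.allBelow_spec cls_part3 (n - 1734) (by omega)
    rwa [show n - 1734 + 1734 = n by omega] at h
  by_cases h4 : n < 2890
  · have h := Cert.allBelow_spec cls_part4 (n - 2312) (by omega)
    rwa [show n - 2312 + 2312 = n by omega] at h
  by_cases h5 : n < 3468
  · have h := Cert.allBelow_spec cls_part5 (n - 2890) (by omega)
    rwa [show n - 2890 + 2890 = n by omega] at h
  by_cases h6 : n < 4046
  · have h := Cert.allBelow_spec cls_part6 (n - 3468) (by omega)
    rwa [show n - 3468 + 3468 = n by omega] at h
  by_cases h7 : n < 4624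
  · have h := Cert.allBelow_spec cls_part7 (n - 4046) (by omega)
    rwa [show n - 4046 + 4046 = n by omega] at h
  by_cases h8 : n < 5202
  · have h := Cert.allBelow_spec cls_part8 (n - 4624) (by omega)
    rwa [show n - 4624 + 4624 = n by omega] at h
  have h := Cert.allBelow_spec cls_part9 (n - 5202) (by omega)
  rwa [show n - 5202 + 5202 = n by omega] at h

private theorem allBelow_of_forall {f : ℕ → Bool} :
    ∀ {n : ℕ}, (∀ k < n, f k = true) → Cert.allBelow n f = true
  | 0, _ => rfl
  | n + 1, h => by
    change band (Cert.allBelow n f) (f n) = true
    rw [band_eq_true]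
    exact ⟨allBelow_of_forall fun k hk => h k (Nat.lt_succ_of_lt hk), h n (Nat.lt_succ_self n)⟩

theorem cls_ok : Cert.allBelow 5775 clsOK = true := allBelow_of_forall fun _ hk => cls_all hk

theorem clsSort_ok : Cert.allBelow 5774 clsSortOK = true := by decide +kernel

end CfsgLib.HNType.Five
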