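import Cfsg.Agent.Lib.HNType.Syl
import Cfsg.Agent.Lib.HNType.FiveCheckA

/-!
Words in the atoms; the centraliser of `a` and its conjugacy class.
-/

set_option autoImplicit false
set_option maxRecDepth 100000

namespace CfsgLib.HNType.Five

open CfsgLib.CosetEnum CfsgLib.DCoset CfsgLib.HN CfsgLib.HNType

/-- an atom as an element -/
noncomputable def atomP (j : ℕ) : PH := wordP (fiveW.getD j [])

/-- a word in the atoms as an element -/
noncomputable def AW (l : List ℕ) : PH := (l.map atomP).prod

/-- all atoms are in range -/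
def Good (l : List ℕ) : Prop := ∀ j ∈ l, j < 47

theorem AW_nil : AW [] = 1 := rfl

theorem AW_append (l m : List ℕ) : AW (l ++ m) = AW l * AW m := by
  rw [AW, AW, AW, List.map_append, List.prod_append]

theorem AW_cons (j : ℕ) (l : List ℕ) : AW (j :: l) = AW [j] * AW l := AW_append [j] l

theorem AW_powW (l : List ℕ) : ∀ k, AW (powW l k) = AW l ^ k
  | 0 => rfl
  | k + 1 => by
    rw [powW, List.replicate_succ, List.flatten_cons, AW_append, ← powW, AW_powW l k, pow_succ']

theorem good_nil : Good [] := fun _ h => absurd h (by simp)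

theorem good_append {l m : List ℕ} (hl : Good l) (hm : Good m) : Good (l ++ m) := fun j hj =>
  (List.mem_append.mp hj).elim (hl j) (hm j)

theorem good_cons {j : ℕ} {l : List ℕ} (hj : j < 47) (hl : Good l) : Good (j :: l) :=
  List.forall_mem_cons.mpr ⟨hj, hl⟩

theorem good_powW {l : List ℕ} (hl : Good l) (k : ℕ) : Good (powW l k) := fun j hj => by
  obtain ⟨l', hl', hj'⟩ := List.mem_flatten.mp hj
  rw [List.eq_of_mem_replicate hl'] at hj'
  exact hl j hj'

theorem tab_facts : fiveW.length = 47 ∧
    (∀ j < 47, (∀ g ∈ fiveW.getD j [], g < 5) ∧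
      ∀ x < 1408, fApp j x = space.C.run x (fiveW.getD j [])) ∧
    Good qStarW ∧ ∀ x < 1408, qApp x = fWord qStarW x := by
  have h := tab_ok
  simp only [tabOK, lets, Bool.and_eq_true, List.all_eq_true, List.mem_range, Nat.blt_eq] at h
  exact ⟨Nat.eq_of_beq_eq_true h.1.1.1,
    fun j hj => ⟨(h.1.1.2 j hj).1, fun x hx => Nat.eq_of_beq_eq_true (Cert.allBelow_spec (h.1.1.2 j hj).2 x hx)⟩,
    h.1.2, fun x hx => Nat.eq_of_beq_eq_true (Cert.allBelow_spec h.2 x hx)⟩

theorem img_atom {j : ℕ} (hj : j < 47) (p : Fin space.C.N) : img (atomP j) p = fApp j p := by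
  rw [atomP, img_word (tab_facts.2.1 j hj).1, (tab_facts.2.1 j hj).2 p p.2]

theorem img_AW : ∀ {l : List ℕ}, Good l → ∀ p : Fin space.C.N, img (AW l) p = fWord l p
  | [], _, p => rfl
  | j :: l, h, p => by
    rw [Good, List.forall_mem_cons] at h
    rw [AW, List.map_cons, List.prod_cons, img_mul, fWord, strict_eq, ← img_atom h.1 p]
    exact img_AW h.2 _

theorem eqW_iff {l m : List ℕ} (hl : Good l) (hm : Good m) : eqW l m = true ↔ AW l = AW m := by
  simp only [eqW, List.all_eq_true, List.mem_range]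
  refine ⟨fun h => eq_of_base fun b hb => ?_, fun h b hb => ?_⟩
  · rw [img_AW hl, img_AW hm]
    exact Nat.eq_of_beq_eq_true (h b hb)
  · have e := congrArg (fun x => img x (bp hb)) h
    simp only [img_AW hl, img_AW hm, bp_val] at e
    rw [e]
    exact Nat.beq_refl _

theorem eqW_not {l m : List ℕ} (hl : Good l) (hm : Good m) : eqW l m = false ↔ AW l ≠ AW m := by
  rw [← Bool.not_eq_true, eqW_iff hl hm]

theorem commW_iff {l m : List ℕ} (hl : Good l) (hm : Good m) :
    commW l m = true ↔ Commute (AW l) (AW m) := by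
  rw [commW, eqW_iff (good_append hl hm) (good_append hm hl), AW_append, AW_append]
  exact Iff.rfl

theorem commW_not {l m : List ℕ} (hl : Good l) (hm : Good m) :
    commW l m = false ↔ ¬ Commute (AW l) (AW m) := by
  rw [← Bool.not_eq_true, commW_iff hl hm]

theorem lets_mem {w : List ℕ} (h : lets w = true) : ∀ c ∈ w, c < 5 := by
  simpa [lets] using h

theorem good_lets {w : List ℕ} (h : lets w = true) : Good w := fun c hc =>
  (lets_mem h c hc).trans (by norm_num)

theorem wordP_cons (c : ℕ) (w : List ℕ) : wordP (c :: w) = wordP [c] * wordP w :=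
  Subtype.ext (by
    show prodW valid.pgen (c :: w) = prodW valid.pgen [c] * prodW valid.pgen w
    simp [prodW_cons])

theorem wordP_nil : wordP [] = 1 := rfl

theorem wordP_append (v w : List ℕ) : wordP (v ++ w) = wordP v * wordP w :=
  Subtype.ext (prodW_append valid.pgen v w)

theorem letter_atom {c : ℕ} (hc : c < 5) : fiveW.getD c [] = [c] := by
  have h : ∀ c : Fin 5, fiveW.getD c.1 [] = [c.1] := by decide +kernel
  exact h ⟨c, hc⟩

theorem AW_lets : ∀ {w : List ℕ}, lets w = true → AW w = wordP w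
  | [], _ => rfl
  | c :: w, h => by
    simp only [lets, List.all_cons, Bool.and_eq_true, Nat.blt_eq] at h
    rw [AW_cons, wordP_cons, AW_lets (w := w) h.2]
    congr 1
    show [atomP c].prod = _
    rw [List.prod_singleton, atomP, letter_atom h.1]

/-- the inverse letter -/
def cInv (c : ℕ) : ℕ :=
  bif c == 0 then 1 else bif c == 1 then 0 else bif c == 2 then 3 else bif c == 3 then 2 else c

theorem cInv_ok : ∀ c : Fin 5, cInv c.1 < 5 ∧ eqW [c.1, cInv c.1] [] = true := by decide +kernel

theorem winv_cons (c : ℕ) (w : List ℕ) : winv (c :: w) = winv w ++ [cInv c] := by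
  simp [winv, cInv]

theorem lets_winv {w : List ℕ} (h : lets w = true) : lets (winv w) = true := by
  simp only [lets, winv, List.all_eq_true, List.mem_map, List.mem_reverse, Nat.blt_eq] at h ⊢
  rintro _ ⟨c, hc, rfl⟩
  exact (cInv_ok ⟨c, h c hc⟩).1

theorem good_winv {w : List ℕ} (h : lets w = true) : Good (winv w) := good_lets (lets_winv h)

theorem AW_winv : ∀ {w : List ℕ}, lets w = true → AW (winv w) = (AW w)⁻¹
  | [], _ => inv_one.symm
  | c :: w, h => by
    simp only [lets, List.all_cons, Bool.and_eq_true, Nat.blt_eq] at h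
    have hk := cInv_ok ⟨c, h.1⟩
    have e := (eqW_iff (good_cons (by omega) (good_cons (by omega) good_nil)) good_nil).mp hk.2
    rw [AW_cons, AW_nil] at e
    rw [winv_cons, AW_append, AW_winv (w := w) h.2, AW_cons c w, mul_inv_rev,
      inv_eq_of_mul_eq_one_right e]

theorem fiveW5_getD {j : ℕ} (hj : j < 47) : lets (fiveW.getD j []) = true := by
  simpa [lets] using (tab_facts.2.1 j hj).1

theorem AW_atom {j : ℕ} (hj : j < 47) : AW [j] = AW (fiveW.getD j []) := by
  rw [AW_lets (fiveW5_getD hj)]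
  show [atomP j].prod = _
  rw [List.prod_singleton, atomP]

/-- the element `a` -/
noncomputable def pa : PH := AW [5]

/-- the conjugator from element 1975 to `a` -/
noncomputable def pc : PH := AW cW

theorem coset_facts : lets cW = true ∧
    (∀ j < 4, fiveW.getD (12 + j) [] = winv cW ++ sylW.getD j [] ++ cW ∧ lets (sylW.getD j []) = true ∧
      Commute (AW [12 + j]) pa ∧ ∀ x < 1408, orbLab (fApp (12 + j) x) = orbLab x) ∧
    ∀ j < 15, Commute (AW [16 + j]) pa ∧ AW [16 + j] * AW [31 + j] = 1 ∧
      ∀ i < j, ∃ p < 1408, orbLab (fWord [16 + i, 31 + j] p) ≠ orbLab p := by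
  have h := coset_ok
  simp only [cosetOK, Bool.and_eq_true, List.all_eq_true, List.mem_range] at h
  refine ⟨h.1.2, fun j hj => ?_, fun j hj => ?_⟩
  · obtain ⟨⟨⟨h1, h2⟩, h3⟩, h4⟩ := h.1.1 j hj
    exact ⟨beq_iff_eq.mp h1, h2,
      (commW_iff (good_cons (by omega) good_nil) (good_cons (by omega) good_nil)).mp h3,
      fun x hx => Nat.eq_of_beq_eq_true (Cert.allBelow_spec h4 x hx)⟩
  · obtain ⟨⟨h1, h2⟩, h3⟩ := h.2 j hj
    refine ⟨(commW_iff (good_cons (by omega) good_nil) (good_cons (by omega) good_nil)).mp h1, ?_,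
      fun i hi => ?_⟩
    · have e := (eqW_iff (good_cons (by omega) (good_cons (by omega) good_nil)) good_nil).mp h2
      rwa [AW_cons, AW_nil] at e
    · have h4 := h3 i (by omega)
      simp only [Bool.or_eq_true, Bool.not_eq_true', List.any_eq_true, Bool.and_eq_true,
        Nat.blt_eq] at h4
      rcases h4 with h4 | ⟨e, -, ⟨⟨-, -⟩, hp⟩, hne⟩
      · rw [← Bool.not_eq_true, Nat.blt_eq] at h4; exact absurd hi h4
      · exact ⟨e.2.2, hp, fun he => by rw [he, Nat.beq_refl] at hne; cases hne⟩

/-- element `n` of the centraliser of `a` -/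
noncomputable def yP (n : ℕ) : PH := AW (yW n)

/-- the conjugator of element `n` of the class -/
noncomputable def gP (n : ℕ) : PH := AW (clsW n)

/-- element `n` of the class -/
noncomputable def hP (n : ℕ) : PH := (gP n)⁻¹ * pa * gP n

theorem syl_lt {k : ℕ} (hk : k < 2048) : ∀ j ∈ sylWord k, j < 4 := (el_key hk).1

theorem good_yW {n : ℕ} (hn : n < 30720) : Good (yW n) := by
  refine good_append (fun j hj => ?_) (good_cons (by omega) good_nil)
  obtain ⟨i, hi, rfl⟩ := List.mem_map.mp hj
  have := syl_lt (show n / 15 < 2048 by omega) i hi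
  omega

theorem AW_syl : ∀ {l : List ℕ}, (∀ j ∈ l, j < 4) → AW (l.map (12 + ·)) = pc⁻¹ * sProd l * pc
  | [], _ => by rw [List.map_nil, AW_nil]; show (1 : PH) = pc⁻¹ * 1 * pc; group
  | j :: l, h => by
    rw [List.forall_mem_cons] at h
    obtain ⟨e1, e2, -, -⟩ := coset_facts.2.1 j h.1
    rw [List.map_cons, AW_cons, AW_syl h.2, AW_atom (by omega), e1, AW_append, AW_append,
      AW_winv coset_facts.1, ← pc, AW_lets e2]
    rw [show sProd (j :: l) = sG j * sProd l from List.prod_cons, sG]
    group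

theorem yP_eq {n : ℕ} (hn : n < 30720) :
    yP n = pc⁻¹ * el (n / 15) * pc * AW [16 + n % 15] := by
  rw [yP, yW, AW_append, AW_syl (syl_lt (show n / 15 < 2048 by omega))]; rfl

theorem conj_el_comm {k : ℕ} (hk : k < 2048) : Commute (pc⁻¹ * el k * pc) pa := by
  have h : ∀ l : List ℕ, (∀ j ∈ l, j < 4) → Commute (AW (l.map (12 + ·))) pa := by
    intro l hl
    induction l with
    | nil => exact Commute.one_left _
    | cons j l ih =>
      rw [List.forall_mem_cons] at hl
      rw [List.map_cons, AW_cons]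
      exact (coset_facts.2.1 j hl.1).2.2.1.mul_left (ih hl.2)
  have := h _ (syl_lt hk)
  rwa [AW_syl (syl_lt hk)] at this

theorem yP_comm {n : ℕ} (hn : n < 30720) : Commute (yP n) pa := by
  rw [yP_eq hn]
  exact (conj_el_comm (by omega)).mul_left (coset_facts.2.2 (n % 15) (Nat.mod_lt _ (by norm_num))).1

/-- preserving the labels of the orbits -/
def KeepsLab (x : PH) : Prop := ∀ p : Fin space.C.N, orbLab (img x p) = orbLab p

theorem keepsLab_syl : ∀ {l : List ℕ}, (∀ j ∈ l, j < 4) → KeepsLab (AW (l.map (12 + ·)))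
  | [], _ => fun _ => rfl
  | j :: l, h => fun p => by
    rw [List.forall_mem_cons] at h
    rw [List.map_cons, AW, List.map_cons, List.prod_cons, img_mul]
    refine (keepsLab_syl h.2 _).trans ?_
    show orbLab (img (atomP (12 + j)) p) = _
    rw [img_atom (by omega)]
    exact (coset_facts.2.1 j h.1).2.2.2 p p.2

theorem yP_injective {m n : ℕ} (hm : m < 30720) (hn : n < 30720) (h : yP m = yP n) : m = n := by
  have key : ∀ k l i j, k < 2048 → l < 2048 → j < 15 → i < j →
      pc⁻¹ * el k * pc * AW [16 + i] ≠ pc⁻¹ * el l * pc * AW [16 + j] := by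
    intro k l i j hk hl hj hij he
    obtain ⟨p, hp, hne⟩ := (coset_facts.2.2 j hj).2.2 i hij
    obtain ⟨k', hk', ek⟩ := exists_el (inv_mem (el_mem hk))
    obtain ⟨q, hq, eq'⟩ := exists_el (T.mul_mem (el_mem hk') (el_mem hl))
    have hinv : AW [31 + j] = (AW [16 + j])⁻¹ :=
      (inv_eq_of_mul_eq_one_right (coset_facts.2.2 j hj).2.1).symm
    have e : AW [16 + i, 31 + j] = pc⁻¹ * el q * pc := by
      rw [AW_cons, hinv, eq', ek]
      calc AW [16 + i] * (AW [16 + j])⁻¹
          = (pc⁻¹ * el k * pc)⁻¹ * (pc⁻¹ * el k * pc * AW [16 + i]) * (AW [16 + j])⁻¹ := by group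
        _ = _ := by rw [he]; group
    rw [el, ← AW_syl (syl_lt hq)] at e
    have hlab := keepsLab_syl (syl_lt hq) ⟨p, hp⟩
    rw [← e, img_AW (good_cons (by omega) (good_cons (by omega) good_nil))] at hlab
    exact hne hlab
  rw [yP_eq hm, yP_eq hn] at h
  rcases lt_trichotomy (m % 15) (n % 15) with hlt | he | hlt
  · exact absurd h (key _ _ _ _ (by omega) (by omega) (Nat.mod_lt _ (by norm_num)) hlt)
  · rw [he, mul_left_inj, mul_left_inj, mul_right_inj] at h
    have := el_inj (show m / 15 < 2048 by omega) (show n / 15 < 2048 by omega) h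
    omega
  · exact absurd h.symm (key _ _ _ _ (by omega) (by omega) (Nat.mod_lt _ (by norm_num)) hlt)

theorem cls_facts {n : ℕ} (hn : n < 5775) : lets (clsW n) = true ∧
    ∀ b, ∀ hb : b < 6, img (hP n) (bp hb) = clsKey n b := by
  have h := Cert.allBelow_spec cls_ok n hn
  simp only [clsOK, strict_eq, Bool.and_eq_true, List.all_eq_true, List.mem_range] at h
  refine ⟨h.1, fun b hb => ?_⟩
  have hg : Good (hW n) := good_append (good_winv h.1) (good_cons (by norm_num) (good_lets h.1))
  have e : hP n = AW (hW n) := by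
    rw [hW, AW_append, AW_cons, AW_winv h.1, hP, gP, pa]; group
  rw [e, img_AW hg]
  exact Nat.eq_of_beq_eq_true (h.2 b hb)

theorem good_hW {n : ℕ} (hn : n < 5775) : Good (hW n) :=
  good_append (good_winv (cls_facts hn).1) (good_cons (by norm_num) (good_lets (cls_facts hn).1))

theorem AW_hW {n : ℕ} (hn : n < 5775) : AW (hW n) = hP n := by
  rw [hW, AW_append, AW_cons, AW_winv (cls_facts hn).1, hP, gP, pa]; group

theorem hP_injective {m n : ℕ} (hm : m < 5775) (hn : n < 5775) (h : hP m = hP n) : m = n := by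
  have hkey : ∀ b, b < 6 → clsKey m b = clsKey n b := fun b hb => by
    rw [← (cls_facts hm).2 b hb, ← (cls_facts hn).2 b hb, h]
  have he : clsNum m = clsNum n := by
    simp only [clsNum, hkey 0 (by norm_num), hkey 1 (by norm_num), hkey 2 (by norm_num),
      hkey 3 (by norm_num), hkey 4 (by norm_num), hkey 5 (by norm_num)]
  have hmono : ∀ a b : ℕ, a < b → b < 5775 → clsNum a < clsNum b := by
    intro a b hab
    induction b, hab using Nat.le_induction with
    | base =>
      intro hb
      have h := Cert.allBelow_spec clsSort_ok a (by omega)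
      simpa [clsSortOK, strict_eq] using h
    | succ b hb ih =>
      intro hb'
      refine (ih (by omega)).trans ?_
      have h := Cert.allBelow_spec clsSort_ok b (by omega)
      simpa [clsSortOK, strict_eq] using h
  rcases lt_trichotomy m n with hlt | rfl | hlt
  · exact absurd he (hmono m n hlt hn).ne
  · rfl
  · exact absurd he (hmono n m hlt hm).ne'

theorem conj_pa {x g : PH} (h : Commute x pa) : (x * g)⁻¹ * pa * (x * g) = g⁻¹ * pa * g := by
  calc (x * g)⁻¹ * pa * (x * g) = g⁻¹ * (x⁻¹ * (pa * x)) * g := by group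
    _ = _ := by rw [← h.eq, inv_mul_cancel_left]

theorem exists_y_g (x : PH) : ∃ n < 30720, ∃ i < 5775, yP n * gP i = x := by
  haveI := finite_PH
  let F : Fin 30720 × Fin 5775 → PH := fun q => yP q.1 * gP q.2
  have hF : Function.Injective F := by
    rintro ⟨a, i⟩ ⟨b, j⟩ h
    have hh : hP i = hP j := by
      have h' := congrArg (fun x : PH => x⁻¹ * pa * x) h
      simp only [F, conj_pa (yP_comm a.2), conj_pa (yP_comm b.2)] at h'
      exact h'
    obtain rfl : i = j := Fin.ext (hP_injective i.2 j.2 hh)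
    obtain rfl : a = b := Fin.ext (yP_injective a.2 b.2 (mul_right_cancel h))
    rfl
  have hbij : Function.Bijective F := (Nat.bijective_iff_injective_and_card F).mpr
    ⟨hF, by rw [Nat.card_prod, Nat.card_fin, Nat.card_fin, card_P]⟩
  obtain ⟨⟨a, i⟩, h⟩ := hbij.2 x
  exact ⟨a, a.2, i, i.2, h⟩

theorem exists_class (x : PH) : ∃ i < 5775, x⁻¹ * pa * x = hP i := by
  obtain ⟨n, hn, i, hi, rfl⟩ := exists_y_g x
  exact ⟨i, hi, conj_pa (yP_comm hn)⟩

theorem exists_y {x : PH} (hx : Commute x pa) : ∃ n < 30720, yP n = x := by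
  haveI := finite_PH
  obtain ⟨n0, hn0, i0, hi0, e0⟩ := exists_y_g 1
  have hi : hP i0 = pa := by
    rw [hP, ← conj_pa (yP_comm hn0), e0]; group
  let F : Fin 30720 → {y : PH // Commute y pa} := fun n => ⟨yP n, yP_comm n.2⟩
  have hF : Function.Injective F := fun a b h => Fin.ext (yP_injective a.2 b.2 (congrArg Subtype.val h))
  let B : {y : PH // Commute y pa} → Fin 30720 := fun y =>
    ⟨(exists_y_g y.1).choose, (exists_y_g y.1).choose_spec.1⟩
  have hB : Function.Injective B := by
    intro y y' h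
    have h1 := (exists_y_g y.1).choose_spec.2
    have h2 := (exists_y_g y'.1).choose_spec.2
    obtain ⟨i, hii, ei⟩ := h1
    obtain ⟨j, hjj, ej⟩ := h2
    have hy : ∀ (z : PH) (n k : ℕ), Commute z pa → n < 30720 → k < 5775 → yP n * gP k = z → k = i0 := by
      intro z n k hz hn hk he
      refine hP_injective hk hi0 ?_
      rw [hi, hP, ← conj_pa (yP_comm hn), he, mul_assoc, ← hz.eq, inv_mul_cancel_left]
    rw [hy _ _ _ y.2 (exists_y_g y.1).choose_spec.1 hii ei] at ei
    rw [hy _ _ _ y'.2 (exists_y_g y'.1).choose_spec.1 hjj ej] at ej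
    refine Subtype.ext ?_
    rw [← ei, ← ej, show (exists_y_g y.1).choose = (exists_y_g y'.1).choose from congrArg Fin.val h]
  obtain ⟨n, hn⟩ := (hF.bijective_of_nat_card_le (by
    rw [Nat.card_fin]; exact (Nat.card_le_card_of_injective B hB).trans (Nat.card_fin _).le)).2 ⟨x, hx⟩
  exact ⟨n, n.2, congrArg Subtype.val hn⟩

end CfsgLib.HNType.Five
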