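import Cfsg.Agent.Lib.HNType.FiveDefs

/-!
The checks on the class of `a` hold.
-/

set_option autoImplicit false
set_option maxRecDepth 100000
set_option maxHeartbeats 4000000

namespace CfsgLib.HNType.Five

open CfsgLib.CosetEnum CfsgLib.DCoset

theorem p_ok_0 : Cert.allBelow 1155 (fun n => pOK (n + 0)) = true := by decide +kernel
theorem p_ok_1 : Cert.allBelow 1155 (fun n => pOK (n + 1155)) = true := by decide +kernel
theorem p_ok_2 : Cert.allBelow 1155 (fun n => pOK (n + 2310)) = true := by decide +kernel
theorem p_ok_3 : Cert.allBelow 1155 (fun n => pOK (n + 3465)) = true := by decide +kernel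
theorem p_ok_4 : Cert.allBelow 1155 (fun n => pOK (n + 4620)) = true := by decide +kernel

theorem p_ok {n : ℕ} (hn : n < 5775) : pOK n = true := by
  by_cases h0 : n < 1155
  · have h := Cert.allBelow_spec p_ok_0 (n - 0) (by omega)
    rwa [show n - 0 + 0 = n by omega] at h
  by_cases h1 : n < 2310
  · have h := Cert.allBelow_spec p_ok_1 (n - 1155) (by omega)
    rwa [show n - 1155 + 1155 = n by omega] at h
  by_cases h2 : n < 3465
  · have h := Cert.allBelow_spec p_ok_2 (n - 2310) (by omega)
    rwa [show n - 2310 + 2310 = n by omega] at h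
  by_cases h3 : n < 4620
  · have h := Cert.allBelow_spec p_ok_3 (n - 3465) (by omega)
    rwa [show n - 3465 + 3465 = n by omega] at h
  by_cases h4 : n < 5775
  · have h := Cert.allBelow_spec p_ok_4 (n - 4620) (by omega)
    rwa [show n - 4620 + 4620 = n by omega] at h
  omega

theorem zc_ok_0 : Cert.allBelow 1155 (fun n => zcOK (n + 0)) = true := by decide +kernel
theorem zc_ok_1 : Cert.allBelow 1155 (fun n => zcOK (n + 1155)) = true := by decide +kernel
theorem zc_ok_2 : Cert.allBelow 1155 (fun n => zcOK (n + 2310)) = true := by decide +kernel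
theorem zc_ok_3 : Cert.allBelow 1155 (fun n => zcOK (n + 3465)) = true := by decide +kernel
theorem zc_ok_4 : Cert.allBelow 1155 (fun n => zcOK (n + 4620)) = true := by decide +kernel

theorem zc_ok {n : ℕ} (hn : n < 5775) : zcOK n = true := by
  by_cases h0 : n < 1155
  · have h := Cert.allBelow_spec zc_ok_0 (n - 0) (by omega)
    rwa [show n - 0 + 0 = n by omega] at h
  by_cases h1 : n < 2310
  · have h := Cert.allBelow_spec zc_ok_1 (n - 1155) (by omega)
    rwa [show n - 1155 + 1155 = n by omega] at h
  by_cases h2 : n < 3465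
  · have h := Cert.allBelow_spec zc_ok_2 (n - 2310) (by omega)
    rwa [show n - 2310 + 2310 = n by omega] at h
  by_cases h3 : n < 4620
  · have h := Cert.allBelow_spec zc_ok_3 (n - 3465) (by omega)
    rwa [show n - 3465 + 3465 = n by omega] at h
  by_cases h4 : n < 5775
  · have h := Cert.allBelow_spec zc_ok_4 (n - 4620) (by omega)
    rwa [show n - 4620 + 4620 = n by omega] at h
  omega

theorem cand_ok : candOK = true := by decide +kernel

end CfsgLib.HNType.Five
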