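import Cfsg.Agent.Lib.HNType.Fusion
import Cfsg.Agent.Lib.HNType.FiveBase
import Cfsg.Agent.Lib.HNType.FiveCheckB
import Cfsg.Agent.Lib.HNType.FiveCheckC

/-!
An element of the group exchanging the central involution with `a`, and what it does to `b`.
-/

set_option autoImplicit false
set_option maxRecDepth 100000
set_option maxHeartbeats 1600000

namespace CfsgLib.HNType.Five

open CfsgLib.CosetEnum CfsgLib.DCoset CfsgLib.HN CfsgLib.HNType
open scoped Pointwise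

/-- the element `b` -/
noncomputable def pb : PH := AW [6]
/-- the element `q` -/
noncomputable def pq : PH := AW [7]
/-- the element `e` -/
noncomputable def pe : PH := AW [8]
/-- the element `z` -/
noncomputable def pz : PH := AW [4]
/-- the element `ρ` -/
noncomputable def pr : PH := AW [9]
/-- the conjugate of `x` -/
noncomputable def px2 : PH := AW [11]

theorem extra_checks : (eqW [5] ((sylWord 1975).map (12 + ·)) && eqW (powW [9] 3) [] &&
    eqW ([8] ++ yW 134) (yW 134 ++ [8, 8]) && eqW [4, 4] [] && !eqW [4] [] && !eqW [4] [5] &&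
    !eqW [4] [0, 0] && !eqW [4] [0, 0, 5] &&
    lList.all fun m => Nat.blt m 30720 && commW (yW m) qStarW) = true := by decide +kernel

theorem iP_AW : AW [0, 0] = iP := by rw [AW_lets (by decide), iP]

theorem extra_facts : pa = pc⁻¹ * el 1975 * pc ∧ pr ^ 3 = 1 ∧ pe * yP 134 = yP 134 * (pe * pe) ∧
    pz * pz = 1 ∧ pz ≠ 1 ∧ pz ≠ pa ∧ pz ≠ iP ∧ pz ≠ iP * pa ∧
    ∀ m ∈ lList, m < 30720 ∧ Commute (yP m) (AW qStarW) := by
  have h := extra_checks
  simp only [Bool.and_eq_true, Bool.not_eq_true', List.all_eq_true, Nat.blt_eq] at h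
  obtain ⟨⟨⟨⟨⟨⟨⟨⟨h1, h2⟩, h3⟩, h4⟩, h5⟩, h6⟩, h7⟩, h8⟩, h9⟩ := h
  have g1 : ∀ j, j < 47 → Good [j] := fun j hj => good_cons hj good_nil
  have gT : Good ((sylWord 1975).map (12 + ·)) := fun j hj => by
    obtain ⟨i, hi, rfl⟩ := List.mem_map.mp hj
    have := syl_lt (show 1975 < 2048 by norm_num) i hi
    omega
  have gy := good_yW (show 134 < 30720 by norm_num)
  refine ⟨?_, ?_, ?_, ?_, ?_, ?_, ?_, ?_, fun m hm => ?_⟩
  · have e := (eqW_iff (g1 5 (by norm_num)) gT).mp h1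
    rwa [AW_syl (syl_lt (show 1975 < 2048 by norm_num))] at e
  · have e := (eqW_iff (good_powW (g1 9 (by norm_num)) 3) good_nil).mp h2
    rwa [AW_powW, AW_nil] at e
  · have e := (eqW_iff (good_append (g1 8 (by norm_num)) gy)
      (good_append gy (good_cons (by norm_num) (g1 8 (by norm_num))))).mp h3
    rwa [AW_append, AW_append, AW_cons 8 [8]] at e
  · have e := (eqW_iff (good_cons (by norm_num) (g1 4 (by norm_num))) good_nil).mp h4
    rwa [AW_cons, AW_nil] at e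
  · have e := (eqW_not (g1 4 (by norm_num)) good_nil).mp h5
    rwa [AW_nil] at e
  · exact (eqW_not (g1 4 (by norm_num)) (g1 5 (by norm_num))).mp h6
  · have e := (eqW_not (g1 4 (by norm_num)) (good_cons (by norm_num) (g1 0 (by norm_num)))).mp h7
    rwa [iP_AW] at e
  · have e := (eqW_not (g1 4 (by norm_num))
      (good_cons (by norm_num) (good_cons (by norm_num) (g1 5 (by norm_num))))).mp h8
    rwa [show ([0, 0, 5] : List ℕ) = [0, 0] ++ [5] from rfl, AW_append, iP_AW] at e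
  · obtain ⟨hm', hc⟩ := h9 m hm
    exact ⟨hm', (commW_iff (good_yW hm') tab_facts.2.2.1).mp hc⟩

theorem base_facts :
    fiveW.getD 5 [] = blk aBlocks ∧ fiveW.getD 6 [] = blk bBlocks ∧ fiveW.getD 7 [] = blk qBlocks ∧
    fiveW.getD 8 [] = blk eBlocks ∧ fiveW.getD 9 [] = blk rhoBlocks ∧
    fiveW.getD 11 [] = [2, 2, 2, 0, 2, 0, 2, 0] ++ winv [2, 2, 2, 0, 2, 0, 2] ∧
    pa * pa = 1 ∧ pb * pb = 1 ∧ Commute pa pb ∧ Commute pa pq ∧ Commute pb pq ∧ Commute pz pq ∧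
    Commute pz pa ∧ Commute pz pb ∧ Commute pa pe ∧ pe ^ 5 = 1 ∧ pe ≠ 1 ∧ pa ≠ 1 ∧ pa ≠ iP ∧
    pb ≠ 1 ∧ pb ≠ pa ∧ pq ≠ 1 ∧ pq ^ 3 = 1 ∧
    (∀ j ∈ aWord, j = 8 ∨ j = 6) ∧ AW aWord = pa ∧ (∀ j ∈ qWord, j = 8 ∨ j = 6) ∧ AW qWord = pq ∧
    (pe * pb) ^ 6 = 1 ∧ pr * AW [10] = 1 ∧ pa * pr = pr * pb ∧ pb * pr = pr * (pa * pb) ∧
    Commute pr pq ∧ Commute pr pz ∧
    (∀ f ∈ fWords, (∀ j ∈ f, j = 8 ∨ j = 6) ∧ Commute (AW f) pz) ∧
    (∀ w ∈ genU, ∀ j ∈ w, j = 8 ∨ j = 6 ∨ j = 9 ∨ j = 10) ∧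
    AW (genU.getD 0 []) = AW [2] ∧ AW (genU.getD 1 []) = AW [1, 2, 0] ∧
    Commute px2 pa ∧ px2 * px2 = iP ∧
    AW (blk wBlocks) = AW [2, 2, 2, 0, 2, 0, 2] * iP ∧
    (pz * px2) ^ 3 = (AW [2, 1, 2, 0])⁻¹ * pz * AW [2, 1, 2, 0] ∧
    lets zaW = true ∧ lets ztW = true ∧
    pz * pa = (AW zaW)⁻¹ * yP d0Idx * AW zaW ∧ pz * iP = (AW ztW)⁻¹ * pz * AW ztW ∧
    Commute (AW [46]) pz ∧ Commute (AW [46]) pq ∧
    ∀ u ∈ [1, pa, pb, pa * pb], ∀ j < 6, AW [46] * pa ≠ u * (pz * pq) ^ j * AW [46] := by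
  have h := base_ok
  simp only [baseOK, Bool.and_eq_true, Bool.not_eq_true', List.all_eq_true, List.mem_range,
    beq_iff_eq, Bool.or_eq_true] at h
  have nb : ∀ {a b : ℕ}, Nat.beq a b = true → a = b := fun h => Nat.eq_of_beq_eq_true h
  have g1 : ∀ j, j < 47 → Good [j] := fun j hj => good_cons hj good_nil
  have g2 : ∀ i j, i < 47 → j < 47 → Good [i, j] := fun i j hi hj => good_cons hi (g1 j hj)
  have eb : ∀ {w : List ℕ}, (∀ j ∈ w, j = 8 ∨ j = 6) → Good w := fun hw j hj => by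
    rcases hw j hj with rfl | rfl <;> norm_num
  have gblk : ∀ w : List ℕ, lets (blk w) = true := fun w => by
    simp only [lets, blk, List.all_eq_true, List.mem_flatMap]
    rintro c ⟨d, -, hc⟩
    cases hd : (d == 0) <;> simp only [hd, cond_true, cond_false, List.mem_cons, List.not_mem_nil,
      or_false] at hc
    · rcases hc with rfl | rfl | rfl <;> rfl
    · subst hc; rfl
  obtain ⟨⟨⟨⟨⟨⟨⟨⟨⟨⟨⟨⟨⟨⟨⟨⟨⟨⟨⟨⟨⟨⟨⟨⟨⟨⟨⟨⟨⟨⟨⟨⟨⟨⟨⟨⟨⟨⟨⟨⟨⟨⟨⟨⟨⟨⟨⟨c5, c6⟩, c7⟩, c8⟩, c9⟩, c11⟩, a2⟩, b2⟩, ab⟩, aq⟩, bq⟩, zq⟩, za⟩, zb⟩,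
    ae⟩, e5⟩, e1⟩, a1⟩, ai⟩, b1⟩, ba⟩, q1⟩, q3⟩, aWm⟩, aWe⟩, qWm⟩, qWe⟩, eb6⟩, r10⟩, ar⟩, br⟩,
    rq⟩, rz⟩, fw⟩, gum⟩, gu0⟩, gu1⟩, xa⟩, x2⟩, wb⟩, q2⟩, lza⟩, lzt⟩, zae⟩, zte⟩, lz⟩, lq⟩, lmove⟩ := h
  have haW : ∀ j ∈ aWord, j = 8 ∨ j = 6 := fun j hj => (aWm j hj).imp nb nb
  have hqW : ∀ j ∈ qWord, j = 8 ∨ j = 6 := fun j hj => (qWm j hj).imp nb nb
  have hgu : ∀ w ∈ genU, ∀ j ∈ w, j = 8 ∨ j = 6 ∨ j = 9 ∨ j = 10 := fun w hw j hj => by
    rcases gum w hw j hj with ((h | h) | h) | h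
    exacts [Or.inl (nb h), Or.inr (Or.inl (nb h)), Or.inr (Or.inr (Or.inl (nb h))),
      Or.inr (Or.inr (Or.inr (nb h)))]
  have guG : ∀ i, i < 2 → Good (genU.getD i []) := fun i hi j hj => by
    rcases hgu _ (by
      rw [List.getD_eq_getElem _ _ (show i < genU.length from lt_of_lt_of_eq hi rfl)]
      exact List.getElem_mem _) j hj with rfl | rfl | rfl | rfl <;> norm_num
  have d0l : d0Idx < 30720 := by decide
  refine ⟨c5, c6, c7, c8, c9, c11, ?_, ?_, ?_, ?_, ?_, ?_, ?_, ?_, ?_, ?_, ?_, ?_, ?_, ?_, ?_, ?_, ?_,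
    haW, ?_, hqW, ?_, ?_, ?_, ?_, ?_, ?_, ?_, ?_, hgu, ?_, ?_, ?_, ?_, ?_, ?_, lza, lzt, ?_, ?_, ?_, ?_, ?_⟩
  · have e := (eqW_iff (g2 5 5 (by norm_num) (by norm_num)) good_nil).mp a2
    rwa [AW_cons, AW_nil] at e
  · have e := (eqW_iff (g2 6 6 (by norm_num) (by norm_num)) good_nil).mp b2
    rwa [AW_cons, AW_nil] at e
  · exact (commW_iff (g1 5 (by norm_num)) (g1 6 (by norm_num))).mp ab
  · exact (commW_iff (g1 5 (by norm_num)) (g1 7 (by norm_num))).mp aq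
  · exact (commW_iff (g1 6 (by norm_num)) (g1 7 (by norm_num))).mp bq
  · exact (commW_iff (g1 4 (by norm_num)) (g1 7 (by norm_num))).mp zq
  · exact (commW_iff (g1 4 (by norm_num)) (g1 5 (by norm_num))).mp za
  · exact (commW_iff (g1 4 (by norm_num)) (g1 6 (by norm_num))).mp zb
  · exact (commW_iff (g1 5 (by norm_num)) (g1 8 (by norm_num))).mp ae
  · have e := (eqW_iff (good_powW (g1 8 (by norm_num)) 5) good_nil).mp e5
    rwa [AW_powW, AW_nil] at e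
  · exact AW_nil ▸ (eqW_not (g1 8 (by norm_num)) good_nil).mp e1
  · exact AW_nil ▸ (eqW_not (g1 5 (by norm_num)) good_nil).mp a1
  · exact iP_AW ▸ (eqW_not (g1 5 (by norm_num)) (g2 0 0 (by norm_num) (by norm_num))).mp ai
  · exact AW_nil ▸ (eqW_not (g1 6 (by norm_num)) good_nil).mp b1
  · exact (eqW_not (g1 6 (by norm_num)) (g1 5 (by norm_num))).mp ba
  · exact AW_nil ▸ (eqW_not (g1 7 (by norm_num)) good_nil).mp q1
  · have e := (eqW_iff (good_powW (g1 7 (by norm_num)) 3) good_nil).mp q3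
    rwa [AW_powW, AW_nil] at e
  · exact (eqW_iff (eb haW) (g1 5 (by norm_num))).mp aWe
  · exact (eqW_iff (eb hqW) (g1 7 (by norm_num))).mp qWe
  · have e := (eqW_iff (good_powW (g2 8 6 (by norm_num) (by norm_num)) 6) good_nil).mp eb6
    rwa [AW_powW, AW_nil, AW_cons] at e
  · have e := (eqW_iff (g2 9 10 (by norm_num) (by norm_num)) good_nil).mp r10
    rwa [AW_cons, AW_nil] at e
  · have e := (eqW_iff (g2 5 9 (by norm_num) (by norm_num)) (g2 9 6 (by norm_num) (by norm_num))).mp ar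
    rwa [AW_cons, AW_cons 9] at e
  · have e := (eqW_iff (g2 6 9 (by norm_num) (by norm_num))
      (good_cons (by norm_num) (g2 5 6 (by norm_num) (by norm_num)))).mp br
    rwa [show ([9, 5, 6] : List ℕ) = [9] ++ ([5] ++ [6]) from rfl, AW_append, AW_append, AW_cons] at e
  · exact (commW_iff (g1 9 (by norm_num)) (g1 7 (by norm_num))).mp rq
  · exact (commW_iff (g1 9 (by norm_num)) (g1 4 (by norm_num))).mp rz
  · intro f hf
    have hm : ∀ j ∈ f, j = 8 ∨ j = 6 := fun j hj => ((fw f hf).1 j hj).imp nb nb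
    exact ⟨hm, (commW_iff (eb hm) (g1 4 (by norm_num))).mp (fw f hf).2⟩
  · exact (eqW_iff (guG 0 (by norm_num)) (g1 2 (by norm_num))).mp gu0
  · exact (eqW_iff (guG 1 (by norm_num))
      (good_cons (by norm_num) (g2 2 0 (by norm_num) (by norm_num)))).mp gu1
  · exact (commW_iff (g1 11 (by norm_num)) (g1 5 (by norm_num))).mp xa
  · have e := (eqW_iff (g2 11 11 (by norm_num) (by norm_num)) (g2 0 0 (by norm_num) (by norm_num))).mp x2
    rwa [AW_cons, iP_AW] at e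
  · have e := (eqW_iff (good_lets (gblk wBlocks))
      (good_lets (w := [2, 2, 2, 0, 2, 0, 2] ++ [0, 0]) (by decide))).mp wb
    rwa [AW_append, iP_AW] at e
  · have e := (eqW_iff (good_powW (g2 4 11 (by norm_num) (by norm_num)) 3)
      (good_append (good_winv (w := [2, 1, 2, 0]) (by decide))
        (good_cons (by norm_num) (good_lets (w := [2, 1, 2, 0]) (by decide))))).mp q2
    rw [AW_powW, AW_cons, AW_append, AW_winv (by decide), AW_cons 4 [2, 1, 2, 0]] at e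
    rw [mul_assoc]; exact e
  · have e := (eqW_iff (g2 4 5 (by norm_num) (by norm_num))
      (good_append (good_append (good_winv lza) (good_yW d0l)) (good_lets lza))).mp zae
    rwa [AW_cons, AW_append, AW_append, AW_winv lza, ← yP] at e
  · have e := (eqW_iff (good_cons (by norm_num) (g2 0 0 (by norm_num) (by norm_num)))
      (good_append (good_winv lzt) (good_cons (by norm_num) (good_lets lzt)))).mp zte
    rw [AW_cons, iP_AW, AW_append, AW_winv lzt, AW_cons 4 ztW] at e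
    rw [mul_assoc]; exact e
  · exact (commW_iff (g1 46 (by norm_num)) (g1 4 (by norm_num))).mp lz
  · exact (commW_iff (g1 46 (by norm_num)) (g1 7 (by norm_num))).mp lq
  · intro u hu j hj
    obtain ⟨w, hw, hgw, hwu⟩ : ∃ w ∈ ([[], [5], [6], [5, 6]] : List (List ℕ)), Good w ∧ AW w = u := by
      simp only [List.mem_cons, List.not_mem_nil, or_false] at hu
      rcases hu with rfl | rfl | rfl | rfl
      · exact ⟨[], by simp, good_nil, rfl⟩
      · exact ⟨[5], by simp, g1 5 (by norm_num), rfl⟩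
      · exact ⟨[6], by simp, g1 6 (by norm_num), rfl⟩
      · exact ⟨[5, 6], by simp, g2 5 6 (by norm_num) (by norm_num), AW_cons 5 [6]⟩
    have e := (eqW_not (g2 46 5 (by norm_num) (by norm_num))
      (good_append (good_append hgw (good_powW (g2 4 7 (by norm_num) (by norm_num)) j))
        (g1 46 (by norm_num)))).mp (lmove w hw j hj)
    rwa [AW_cons, AW_append, AW_append, AW_powW, AW_cons 4 [7], hwu] at e

/-- a word in two elements standing for `e` and `b` -/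
def evEB {M : Type*} [Group M] (E B : M) (w : List ℕ) : M :=
  (w.map fun j => bif j == 6 then B else E).prod

theorem map_evEB {M N : Type*} [Group M] [Group N] (f : M →* N) (E B : M) (w : List ℕ) :
    f (evEB E B w) = evEB (f E) (f B) w := by
  rw [evEB, evEB, map_list_prod, List.map_map]
  congr 1
  refine List.map_congr_left fun j _ => ?_
  simp only [Function.comp_apply]
  cases (j == 6) <;> rfl

theorem evEB_commute {M : Type*} [Group M] {E B s : M} (hE : Commute s E) (hB : Commute s B)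
    (w : List ℕ) : Commute s (evEB E B w) := by
  refine Commute.list_prod_right _ _ fun x hx => ?_
  obtain ⟨j, -, rfl⟩ := List.mem_map.mp hx
  cases (j == 6) <;> assumption

theorem AW_substB : ∀ {w : List ℕ}, (∀ j ∈ w, j = 8 ∨ j = 6) → ∀ v : List ℕ,
    AW (substB w v) = evEB pe (AW v) w
  | [], _, _ => rfl
  | j :: w, h, v => by
    rw [List.forall_mem_cons] at h
    rw [substB, List.flatMap_cons, AW_append, ← substB, AW_substB h.2 v]
    rcases h.1 with rfl | rfl <;> rfl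

theorem AW_evEB {w : List ℕ} (h : ∀ j ∈ w, j = 8 ∨ j = 6) : AW w = evEB pe pb w := by
  rw [AW, evEB]
  congr 1
  refine List.map_congr_left fun j hj => ?_
  rcases h j hj with rfl | rfl <;> simp [pe, pb, AW]

theorem good_substB {w v : List ℕ} (h : ∀ j ∈ w, j = 8 ∨ j = 6) (hv : Good v) :
    Good (substB w v) := fun i hi => by
  obtain ⟨j, hj, hij⟩ := List.mem_flatMap.mp hi
  rcases h j hj with rfl | rfl
  · simp at hij; omega
  · exact hv i hij

/-- an element of order dividing five inverted by `a` is `a` times a member of the class -/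
theorem five_form {σ : PH} (h5 : σ ^ 5 = 1) (hinv : pa * σ * (pa * σ) = 1) :
    ∃ i < 5775, σ = AW (5 :: hW i) := by
  obtain ⟨i, hi, h⟩ := exists_class (σ ^ 3)
  refine ⟨i, hi, ?_⟩
  rw [AW_cons, AW_hW hi, ← h, ← pa]
  have haa := base_facts.2.2.2.2.2.2.1
  have h1 : pa * σ * pa = σ⁻¹ := eq_inv_of_mul_eq_one_left (by rw [mul_assoc]; exact hinv)
  have h2 : pa * (σ ^ 3)⁻¹ * pa = σ ^ 3 := by
    have hai : pa⁻¹ = pa := inv_eq_of_mul_eq_one_right haa
    have h3 : (pa * σ * pa⁻¹) ^ 3 = pa * σ ^ 3 * pa⁻¹ := conj_pow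
    rw [hai, h1, inv_pow] at h3
    calc pa * (σ ^ 3)⁻¹ * pa = pa * (pa * σ ^ 3 * pa) * pa := by rw [h3]
      _ = (pa * pa) * σ ^ 3 * (pa * pa) := by group
      _ = σ ^ 3 := by rw [haa, one_mul, mul_one]
  calc σ = σ ^ 3 * σ ^ 3 := by rw [← pow_add, show 3 + 3 = 5 + 1 from rfl, pow_succ, h5, one_mul]
    _ = pa * (σ ^ 3)⁻¹ * pa * σ ^ 3 := by rw [h2]
    _ = _ := by group

section

variable {G : Type*} [Group G] {t : G} (Φ : Chart t)

/-- an element exchanging `t` and `a` and fixing `e` -/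
structure Swap (γ : G) : Prop where
  a_t : γ * Φ.hom pa * γ⁻¹ = t
  t_a : γ * t * γ⁻¹ = Φ.hom pa
  e_e : γ * Φ.hom pe * γ⁻¹ = Φ.hom pe

variable {Φ}

theorem Swap.transport {γ : G} (hγ : Swap Φ γ) {x : PH} (hx : Commute x pa) :
    ∃ x', Commute x' pa ∧ Φ.hom x' = γ * Φ.hom x * γ⁻¹ := by
  obtain ⟨x', hx'⟩ := Φ.exists_of_commute (u := γ * Φ.hom x * γ⁻¹) (by
    have h := (hx.map Φ.hom).eq
    have e : Commute (γ * Φ.hom x * γ⁻¹) (γ * Φ.hom pa * γ⁻¹) := by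
      show γ * Φ.hom x * γ⁻¹ * (γ * Φ.hom pa * γ⁻¹) = γ * Φ.hom pa * γ⁻¹ * (γ * Φ.hom x * γ⁻¹)
      calc _ = γ * (Φ.hom x * Φ.hom pa) * γ⁻¹ := by group
        _ = _ := by rw [h]; group
    exact Eq.mp (congrArg (Commute _) hγ.a_t) e)
  refine ⟨x', Φ.hom_inj ?_, hx'⟩
  have h := (Φ.commute_hom x).eq
  rw [map_mul, map_mul, hx', ← hγ.t_a]
  calc γ * Φ.hom x * γ⁻¹ * (γ * t * γ⁻¹) = γ * (Φ.hom x * t) * γ⁻¹ := by group
    _ = _ := by rw [h]; group

theorem Swap.map_a {γ : G} (hγ : Swap Φ γ) {x' : PH} (h : Φ.hom x' = γ * Φ.hom pa * γ⁻¹) :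
    x' = iP := Φ.hom_inj (by rw [h, hγ.a_t, Φ.hom_iP])

theorem Swap.map_i {γ : G} (hγ : Swap Φ γ) {x' : PH} (h : Φ.hom x' = γ * Φ.hom iP * γ⁻¹) :
    x' = pa := Φ.hom_inj (by rw [h, Φ.hom_iP, hγ.t_a])

variable (Φ)

/-- some element exchanges `t` and `a`, fixing `e` -/
theorem exists_swap [Finite G] [IsSimpleGroup G] (ht : orderOf t = 2) : ∃ γ : G, Swap Φ γ := by
  haveI := finite_PH
  obtain ⟨g, hg⟩ := Φ.exists_conj_1975 ht
  have : Fact (Nat.Prime 2) := ⟨Nat.prime_two⟩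
  have : Fact (Nat.Prime 5) := ⟨by norm_num⟩
  have hmove : ∀ v : ↥T, ∃ v', Φ.hom v' = g⁻¹ * Φ.hom v * g := fun v => by
    refine Φ.exists_of_commute ?_
    have h1 := ((central_three (Or.inr (Or.inr rfl)) v.1 v.2).map Φ.hom).eq
    rw [← hg] at h1
    show g⁻¹ * Φ.hom v * g * t = t * (g⁻¹ * Φ.hom v * g)
    calc g⁻¹ * Φ.hom v * g * t = g⁻¹ * (Φ.hom v * (g * t * g⁻¹)) * g := by group
      _ = _ := by rw [h1]; group
  choose m hm using hmove
  let mh : ↥T →* PH :=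
    { toFun := m
      map_one' := Φ.hom_inj (by rw [hm, Subgroup.coe_one, map_one]; group)
      map_mul' := fun u v => Φ.hom_inj (by
        rw [hm, map_mul, hm, hm, Subgroup.coe_mul, map_mul]; group) }
  have hinj : Function.Injective mh := fun u v h => Subtype.ext (Φ.hom_inj (by
    have h1 : Φ.hom (m u) = Φ.hom (m v) := congrArg Φ.hom h
    rw [hm, hm] at h1
    exact mul_left_cancel (mul_right_cancel h1)))
  have hcard : Nat.card ↥mh.range = 2 ^ 11 := by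
    rw [Nat.card_congr (MonoidHom.ofInjective hinj).toEquiv.symm, card_T]; norm_num
  have hidx : ∀ H : Subgroup PH, Nat.card ↥H = 2 ^ 11 → ¬ 2 ∣ H.index := fun H hH => by
    have h := H.card_mul_index
    rw [hH, card_P] at h
    omega
  obtain ⟨c, hc⟩ := MulAction.exists_smul_eq PH ((IsPGroup.of_card hcard).toSylow (hidx _ hcard))
    ((IsPGroup.of_card (G := ↥T) (n := 11) (by rw [card_T]; norm_num)).toSylow (hidx _ (by rw [card_T]; norm_num)))
  have hmemT : ∀ v, c * m v * c⁻¹ ∈ T := fun v => by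
    have h2 := Subgroup.smul_mem_pointwise_smul (m v) (MulAut.conj c) _
      (show m v ∈ mh.range from ⟨v, rfl⟩)
    have h3 : (MulAut.conj c • mh.range : Subgroup PH) = T := by
      have := congrArg (fun P : Sylow 2 PH => (P : Subgroup PH)) hc
      rwa [Sylow.coe_subgroup_smul] at this
    rw [h3] at h2
    exact h2
  let θ : ↥T → ↥T := fun v => ⟨c * m v * c⁻¹, hmemT v⟩
  have θinj : Function.Injective θ := fun u v h =>
    hinj (mul_left_cancel (mul_right_cancel (congrArg Subtype.val h)))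
  have θbij : Function.Bijective θ := θinj.bijective_of_finite
  obtain ⟨d, hd⟩ : ∃ d, d = Φ.hom c * g⁻¹ := ⟨_, rfl⟩
  have hθ : ∀ v : ↥T, Φ.hom (θ v) = d * Φ.hom v * d⁻¹ := fun v => by
    show Φ.hom (c * m v * c⁻¹) = _
    rw [map_mul, map_mul, map_inv, hm, hd]; group
  have h19 : d * Φ.hom (el 1975) * d⁻¹ = t := by
    rw [hd, ← hg, show Φ.hom c * g⁻¹ * (g * t * g⁻¹) * (Φ.hom c * g⁻¹)⁻¹
      = Φ.hom c * t * (Φ.hom c)⁻¹ by group, (Φ.commute_hom c).eq, mul_inv_cancel_right]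
  obtain ⟨k, hk, hke⟩ := exists_el (θ ⟨iP, by rw [iP_eq]; exact el_mem (by norm_num)⟩).2
  have hkc : ∀ x ∈ T, Commute x (el k) := fun x hx => by
    obtain ⟨v, hv⟩ := θbij.2 ⟨x, hx⟩
    rw [hke, show x = ((θ v : ↥T) : PH) from (congrArg Subtype.val hv).symm]
    refine Φ.hom_inj ((Φ.hom.map_mul _ _).trans (Eq.trans ?_ (Φ.hom.map_mul _ _).symm))
    rw [hθ, hθ,
      show d * Φ.hom v * d⁻¹ * (d * Φ.hom iP * d⁻¹) = d * (Φ.hom v * Φ.hom iP) * d⁻¹ by group,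
      ← map_mul, ← iP_comm, map_mul]
    group
  have hdt : Φ.hom (el k) = d * t * d⁻¹ := by rw [hke, hθ, Φ.hom_iP]
  have hd0 : Φ.hom (el k) = d * t * d⁻¹ ∧ k = 1975 := by
    refine ⟨hdt, ?_⟩
    rcases central_cases hk hkc with rfl | rfl | rfl | rfl
    · rw [el_zero, map_one] at hdt
      have h1 : t = 1 := conj_eq_one_iff.mp hdt.symm
      rw [h1, orderOf_one] at ht
      exact absurd ht (by norm_num)
    · rw [← iP_eq, Φ.hom_iP] at hdt
      have he : Φ.hom (el 1975) = t :=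
        mul_left_cancel (mul_right_cancel (h19.trans hdt))
      have := el_inj (by norm_num) (by norm_num : 564 < 2048)
        (Φ.hom_inj (by rw [he, ← iP_eq, Φ.hom_iP]) : el 1975 = el 564)
      exact absurd this (by norm_num)
    · exact absurd hdt.symm (Φ.not_conj_690 d)
    · rfl
  obtain ⟨-, rfl⟩ := hd0
  obtain ⟨γ0, hγ0⟩ : ∃ γ0, γ0 = (Φ.hom pc)⁻¹ * d * Φ.hom pc := ⟨_, rfl⟩
  have hpa : Φ.hom pa = (Φ.hom pc)⁻¹ * Φ.hom (el 1975) * Φ.hom pc := by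
    rw [extra_facts.1, map_mul, map_mul, map_inv]
  have htc := (Φ.commute_hom pc).eq
  have h0a : γ0 * Φ.hom pa * γ0⁻¹ = t := by
    rw [hγ0, hpa]
    calc (Φ.hom pc)⁻¹ * d * Φ.hom pc * ((Φ.hom pc)⁻¹ * Φ.hom (el 1975) * Φ.hom pc) *
          ((Φ.hom pc)⁻¹ * d * Φ.hom pc)⁻¹
        = (Φ.hom pc)⁻¹ * (d * Φ.hom (el 1975) * d⁻¹) * Φ.hom pc := by group
      _ = t := by rw [h19, mul_assoc, ← htc, inv_mul_cancel_left]
  have h0t : γ0 * t * γ0⁻¹ = Φ.hom pa := by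
    rw [hγ0, hpa, hdt]
    calc (Φ.hom pc)⁻¹ * d * Φ.hom pc * t * ((Φ.hom pc)⁻¹ * d * Φ.hom pc)⁻¹
        = (Φ.hom pc)⁻¹ * d * (Φ.hom pc * t) * (Φ.hom pc)⁻¹ * d⁻¹ * Φ.hom pc := by group
      _ = _ := by rw [htc]; group
  -- make it fix `e`
  let Y : Subgroup PH := Subgroup.centralizer ({pa} : Set PH)
  have hY : ∀ x, x ∈ Y ↔ Commute x pa := fun x => Subgroup.mem_centralizer_singleton_iff
  have hYc : Nat.card ↥Y = 30720 := by
    refine (Nat.card_eq_of_bijective (fun n : Fin 30720 => (⟨yP n, (hY _).mpr (yP_comm n.2)⟩ : ↥Y))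
      ⟨fun a b h => Fin.ext (yP_injective a.2 b.2 (congrArg Subtype.val h)), fun y => ?_⟩).symm.trans
      (Nat.card_fin _)
    obtain ⟨n, hn, h⟩ := exists_y ((hY _).mp y.2)
    exact ⟨⟨n, hn⟩, Subtype.ext h⟩
  obtain ⟨-, -, -, -, -, -, -, -, -, -, -, -, -, -, hae, he5, he1, -⟩ := base_facts
  obtain ⟨e0, he0c, he0⟩ : ∃ e0, Commute e0 pa ∧ Φ.hom e0 = γ0 * Φ.hom pe * γ0⁻¹ := by
    obtain ⟨x', hx'⟩ := Φ.exists_of_commute (u := γ0 * Φ.hom pe * γ0⁻¹) (by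
      have h := (hae.symm.map Φ.hom).eq
      have e : Commute (γ0 * Φ.hom pe * γ0⁻¹) (γ0 * Φ.hom pa * γ0⁻¹) := by
        show γ0 * Φ.hom pe * γ0⁻¹ * (γ0 * Φ.hom pa * γ0⁻¹) = γ0 * Φ.hom pa * γ0⁻¹ * (γ0 * Φ.hom pe * γ0⁻¹)
        calc _ = γ0 * (Φ.hom pe * Φ.hom pa) * γ0⁻¹ := by group
          _ = _ := by rw [h]; group
      exact Eq.mp (congrArg (Commute _) h0a) e)
    refine ⟨x', Φ.hom_inj ?_, hx'⟩
    have h := (Φ.commute_hom pe).eq
    rw [map_mul, map_mul, hx', ← h0t]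
    calc γ0 * Φ.hom pe * γ0⁻¹ * (γ0 * t * γ0⁻¹) = γ0 * (Φ.hom pe * t) * γ0⁻¹ := by group
      _ = _ := by rw [h]; group
  have he05 : e0 ^ 5 = 1 := Φ.hom_inj (by
    rw [map_pow, he0, conj_pow, ← map_pow, he5, map_one]; group)
  have he01 : e0 ≠ 1 := fun h => he1 (Φ.hom_inj (by
    rw [h, map_one] at he0; rw [map_one]; exact conj_eq_one_iff.mp he0.symm))
  obtain ⟨c1, hc1, j, hj⟩ : ∃ c1, Commute c1 pa ∧ ∃ j < 5, c1 * e0 * c1⁻¹ = pe ^ j := by
    let E : ↥Y := ⟨pe, (hY _).mpr hae.symm⟩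
    have hE : orderOf E = 5 := orderOf_eq_prime (Subtype.ext he5) fun h => he1 (congrArg Subtype.val h)
    have hEi : ¬ 5 ∣ (Subgroup.zpowers E).index := by
      have h := (Subgroup.zpowers E).card_mul_index
      rw [Nat.card_zpowers, hE, hYc] at h
      omega
    have hxp : IsPGroup 5 (Subgroup.zpowers (⟨e0, (hY _).mpr he0c⟩ : ↥Y)) :=
      IsPGroup.of_card (n := 1) (by
        rw [Nat.card_zpowers, pow_one]
        exact orderOf_eq_prime (Subtype.ext he05) fun h => he01 (congrArg Subtype.val h))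
    obtain ⟨P, hP⟩ := hxp.exists_le_sylow
    obtain ⟨c1, hc1⟩ := MulAction.exists_smul_eq ↥Y P
      ((IsPGroup.of_card (G := ↥(Subgroup.zpowers E)) (n := 1)
        (by rw [Nat.card_zpowers, hE, pow_one])).toSylow hEi)
    have hmem : MulAut.conj c1 ⟨e0, (hY _).mpr he0c⟩ ∈ ((c1 • P : Sylow 5 ↥Y) : Subgroup ↥Y) := by
      rw [Sylow.coe_subgroup_smul]
      exact Subgroup.smul_mem_pointwise_smul _ (MulAut.conj c1) _ (hP (Subgroup.mem_zpowers _))
    rw [hc1] at hmem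
    obtain ⟨k, hk⟩ := Subgroup.mem_zpowers_iff.mp
      (show MulAut.conj c1 ⟨e0, (hY _).mpr he0c⟩ ∈ Subgroup.zpowers E from hmem)
    refine ⟨c1.1, (hY _).mp c1.2, (k % (5 : ℕ)).toNat, by omega, ?_⟩
    rw [show k = (k % (5 : ℕ)) + (5 : ℕ) * (k / (5 : ℕ)) from (Int.emod_add_mul_ediv k _).symm, zpow_add,
      zpow_mul, zpow_natCast E, ← hE, pow_orderOf_eq_one, one_zpow, mul_one, hE] at hk
    have hk' := congrArg Subtype.val hk
    rw [show k % ((5 : ℕ) : ℤ) = ((k % ((5 : ℕ) : ℤ)).toNat : ℤ) from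
      (Int.toNat_of_nonneg (Int.emod_nonneg _ (by norm_num))).symm, zpow_natCast] at hk'
    exact hk'.symm
  obtain ⟨c2, hc2, hj2⟩ : ∃ c2, Commute c2 pa ∧ c2 * pe ^ j * c2⁻¹ = pe := by
    have hy := yP_comm (show 134 < 30720 by norm_num)
    have hy2 : (yP 134)⁻¹ * pe * yP 134 = pe * pe := by
      rw [mul_assoc, extra_facts.2.2.1, inv_mul_cancel_left]
    have hd2 : ∀ k : ℕ, (yP 134)⁻¹ * pe ^ k * yP 134 = pe ^ (2 * k) := fun k => by
      have h : ((yP 134)⁻¹ * pe * (yP 134)⁻¹⁻¹) ^ k = (yP 134)⁻¹ * pe ^ k * (yP 134)⁻¹⁻¹ := conj_pow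
      simp only [inv_inv] at h
      rw [← h, hy2, pow_mul, pow_two]
    have hpw : ∀ k, pe ^ k = pe ^ (k % 5) := fun k => by
      conv_lhs => rw [← Nat.mod_add_div k 5, pow_add, pow_mul, he5, one_pow, mul_one]
    obtain ⟨hj5, hje⟩ := hj
    have hj0 : j ≠ 0 := fun h => by
      rw [h, pow_zero] at hje
      exact he01 (conj_eq_one_iff.mp hje)
    have h1 : yP 134 * pe ^ (2 * j) * (yP 134)⁻¹ = pe ^ j := by rw [← hd2]; group
    interval_cases j
    · exact absurd rfl hj0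
    · exact ⟨1, Commute.one_left _, by rw [one_mul, inv_one, mul_one, pow_one]⟩
    · refine ⟨yP 134, hy, ?_⟩
      calc yP 134 * pe ^ 2 * (yP 134)⁻¹ = yP 134 * pe ^ (2 * 1) * (yP 134)⁻¹ := by rw [Nat.mul_one]
        _ = pe := by rw [← hd2]; simp only [pow_one]; group
    · refine ⟨(yP 134)⁻¹, hy.inv_left, ?_⟩
      rw [inv_inv, hd2, hpw, show 2 * 3 % 5 = 1 by norm_num, pow_one]
    · refine ⟨yP 134 * yP 134, hy.mul_left hy, ?_⟩
      calc yP 134 * yP 134 * pe ^ 4 * (yP 134 * yP 134)⁻¹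
          = yP 134 * (yP 134 * pe ^ (2 * 2) * (yP 134)⁻¹) * (yP 134)⁻¹ := by
            rw [show 2 * 2 = 4 by norm_num]; group
        _ = yP 134 * pe ^ (2 * 1) * (yP 134)⁻¹ := by rw [← hd2, Nat.mul_one]; group
        _ = pe := by rw [← hd2]; simp only [pow_one]; group
  refine ⟨Φ.hom (c2 * c1) * γ0, ?_, ?_, ?_⟩
  · calc _ = Φ.hom (c2 * c1) * (γ0 * Φ.hom pa * γ0⁻¹) * (Φ.hom (c2 * c1))⁻¹ := by group
      _ = t := by rw [h0a, (Φ.commute_hom _).eq, mul_inv_cancel_right]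
  · calc _ = Φ.hom (c2 * c1) * (γ0 * t * γ0⁻¹) * (Φ.hom (c2 * c1))⁻¹ := by group
      _ = _ := by rw [h0t, ((hc2.mul_left hc1).map Φ.hom).eq, mul_inv_cancel_right]
  · calc _ = Φ.hom (c2 * c1) * (γ0 * Φ.hom pe * γ0⁻¹) * (Φ.hom (c2 * c1))⁻¹ := by group
      _ = Φ.hom (c2 * (c1 * e0 * c1⁻¹) * c2⁻¹) := by
        rw [← he0]; simp only [map_mul, map_inv]; group
      _ = _ := by rw [hj.2, hj2]

/-- the element of the group attached to `h` is conjugate to `t` -/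
def Tt (h : PH) : Prop := IsConj t (Φ.hom h)

theorem tt_conj (g h : PH) : Tt Φ (g⁻¹ * h * g) ↔ Tt Φ h := by
  have e : IsConj (Φ.hom h) (Φ.hom (g⁻¹ * h * g)) :=
    isConj_iff.mpr ⟨(Φ.hom g)⁻¹, by simp only [map_mul, map_inv, inv_inv]⟩
  exact ⟨fun hh => hh.trans e.symm, fun hh => hh.trans e⟩

variable {Φ}

theorem Swap.tt_iff {γ : G} (hγ : Swap Φ γ) {x x' : PH} (h : Φ.hom x' = γ * Φ.hom x * γ⁻¹) :
    Tt Φ x' ↔ Tt Φ x := by
  have e : IsConj (Φ.hom x) (Φ.hom x') := isConj_iff.mpr ⟨γ, h.symm⟩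
  exact ⟨fun hh => hh.trans e.symm, fun hh => hh.trans e⟩

theorem Swap.tt_pa {γ : G} (hγ : Swap Φ γ) : Tt Φ pa := isConj_iff.mpr ⟨γ, hγ.t_a⟩

theorem Swap.tt_hP {γ : G} (hγ : Swap Φ γ) (i : ℕ) : Tt Φ (hP i) :=
  (tt_conj Φ (gP i) pa).mpr hγ.tt_pa

theorem pa_iP : pa * iP = pc⁻¹ * el 690 * pc := by
  have e : el 1975 * iP = el 690 := by rw [← counts.2.2, mul_assoc, iP_sq, mul_one]
  rw [extra_facts.1, mul_assoc, ← iP_comm, ← e]
  simp only [mul_assoc]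

theorem not_tt_pa_iP [Finite G] : ¬ Tt Φ (pa * iP) := by
  rw [pa_iP, tt_conj]
  intro h
  obtain ⟨g, hg⟩ := isConj_iff.mp h
  exact Φ.not_conj_690 g hg

theorem not_tt_hP_iP [Finite G] (i : ℕ) : ¬ Tt Φ (hP i * iP) := by
  rw [show hP i * iP = (gP i)⁻¹ * (pa * iP) * gP i by
    rw [hP, mul_assoc _ (gP i) iP, ← iP_comm (gP i)]; group, tt_conj]
  exact not_tt_pa_iP

theorem pb_conj : pb = pr⁻¹ * pa * pr := by
  obtain ⟨-, -, -, -, -, -, -, -, -, -, -, -, -, -, -, -, -, -, -, -, -, -, -, -, -, -, -, -, -, har, -⟩ :=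
    base_facts
  rw [mul_assoc, har, inv_mul_cancel_left]

/-- the image of `b` is one of the listed elements -/
theorem Swap.image_b [Finite G] {γ : G} (hγ : Swap Φ γ) :
    ∃ n < 30720, Φ.hom (yP n) = γ * Φ.hom pb * γ⁻¹ ∧ Tt Φ (yP n) ∧ ¬ Tt Φ (yP n * pa) ∧
      ((∃ e ∈ pCases, e.1 = n) ∨ ∃ e ∈ qCases, e.1 = n) := by
  obtain ⟨-, -, -, -, -, -, -, hbb, hab, -, -, -, -, -, hae, -, -, -, -, -, -, -, -, haW, haWe, -, -,
    heb, -⟩ := base_facts
  obtain ⟨v, hvc, hv⟩ := hγ.transport hab.symm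
  obtain ⟨n, hn, rfl⟩ := exists_y hvc
  have hsq : yP n * yP n = 1 := Φ.hom_inj (by
    rw [map_mul, map_one, hv, show γ * Φ.hom pb * γ⁻¹ * (γ * Φ.hom pb * γ⁻¹) =
      γ * (Φ.hom pb * Φ.hom pb) * γ⁻¹ by group, ← map_mul, hbb, map_one]; group)
  have hmap : ∀ w : List ℕ,
      Φ.hom (evEB pe (yP n) w) = γ * Φ.hom (evEB pe pb w) * γ⁻¹ := fun w => by
    rw [map_evEB, map_evEB, hv]
    conv_lhs => rw [← hγ.e_e]
    exact (map_evEB (MulAut.conj γ).toMonoidHom (Φ.hom pe) (Φ.hom pb) w).symm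
  have hgy := good_yW hn
  have hinv : n ∈ invList := by
    have h := inv_ok hn
    simp only [invOK, strict_eq, Bool.or_eq_true, Bool.not_eq_true', List.contains_iff_mem] at h
    refine h.resolve_left fun hne => ?_
    exact (eqW_not (good_append hgy hgy) good_nil).mp hne (by rw [AW_append, AW_nil]; exact hsq)
  have hev : evEB pe (yP n) aWord = iP := hγ.map_a (by rw [hmap, ← AW_evEB haW, haWe])
  have h6 : (pe * yP n) ^ 6 = 1 := Φ.hom_inj (by
    rw [map_pow, map_mul, hv, map_one]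
    conv_lhs => rw [← hγ.e_e, show γ * Φ.hom pe * γ⁻¹ * (γ * Φ.hom pb * γ⁻¹) =
      γ * (Φ.hom pe * Φ.hom pb) * γ⁻¹ by group, conj_pow, ← map_mul, ← map_pow, heb, map_one]
    group)
  refine ⟨n, hn, hv, (hγ.tt_iff hv).mpr (by rw [pb_conj, tt_conj]; exact hγ.tt_pa), ?_, ?_⟩
  · have hbi : Φ.hom (yP n * pa) = γ * Φ.hom (pb * iP) * γ⁻¹ := by
      rw [map_mul, hv, ← hγ.t_a, map_mul, Φ.hom_iP]; group
    rw [hγ.tt_iff hbi, show pb * iP = pr⁻¹ * (pa * iP) * pr by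
      rw [pb_conj, mul_assoc _ pr iP, ← iP_comm pr]; group, tt_conj]
    exact not_tt_pa_iP
  · have h := cand_ok
    simp only [candOK, List.all_eq_true, Bool.and_eq_true, Bool.or_eq_true, Bool.not_eq_true',
      List.any_eq_true] at h
    rcases (h n hinv).2 with ((h | h) | ⟨e, he, h⟩) | ⟨e, he, h⟩
    · exfalso
      exact (eqW_not (good_substB haW hgy) (good_cons (by norm_num) (good_cons (by norm_num) good_nil))).mp h
        (by rw [AW_substB haW, iP_AW]; exact hev)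
    · exfalso
      exact (eqW_not (good_powW (good_cons (by norm_num) hgy) 6) good_nil).mp h
        (by rw [AW_powW, AW_cons, AW_nil]; exact h6)
    · exact Or.inl ⟨e, he, Nat.eq_of_beq_eq_true h⟩
    · exact Or.inr ⟨e, he, Nat.eq_of_beq_eq_true h⟩

theorem Swap.image_word {γ : G} (hγ : Swap Φ γ) {v : PH} (hv : Φ.hom v = γ * Φ.hom pb * γ⁻¹)
    (w : List ℕ) : Φ.hom (evEB pe v w) = γ * Φ.hom (evEB pe pb w) * γ⁻¹ := by
  rw [map_evEB, map_evEB, hv]
  conv_lhs => rw [← hγ.e_e]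
  exact (map_evEB (MulAut.conj γ).toMonoidHom (Φ.hom pe) (Φ.hom pb) w).symm

/-- the image of `z` -/
theorem Swap.image_z [Finite G] {γ : G} (hγ : Swap Φ γ) {v : List ℕ} (hgv : Good v)
    (hv : Φ.hom (AW v) = γ * Φ.hom pb * γ⁻¹) {zl : List (ℕ × ℕ × ℕ)} (hzl : zImgOK v zl = true) :
    ∃ k < 30720, Φ.hom (yP k) = γ * Φ.hom pz * γ⁻¹ ∧ yP k * yP k = 1 ∧
      ∃ j, ((k, 4, j) ∈ zl ∧ Tt Φ pz) ∨ ((k, 5, j) ∈ zl ∧ ¬ Tt Φ pz) := by
  obtain ⟨-, -, -, -, -, -, haa, -, -, -, -, -, hza, -, -, -, -, -, -, -, -, -, -, -, -, -, -, -, -, -,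
    -, -, -, hF, -⟩ := base_facts
  obtain ⟨-, -, -, hzz, hz1, hzA, hzi, hzia, -⟩ := extra_facts
  obtain ⟨z', hz'c, hz'⟩ := hγ.transport hza
  obtain ⟨k, hk, rfl⟩ := exists_y hz'c
  have hsq : yP k * yP k = 1 := Φ.hom_inj (by
    rw [map_mul, map_one, hz', show γ * Φ.hom pz * γ⁻¹ * (γ * Φ.hom pz * γ⁻¹) =
      γ * (Φ.hom pz * Φ.hom pz) * γ⁻¹ by group, ← map_mul, hzz, map_one]; group)
  refine ⟨k, hk, hz', hsq, ?_⟩
  have hgy := good_yW hk
  have hinv : k ∈ invList := by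
    have h := inv_ok hk
    simp only [invOK, strict_eq, Bool.or_eq_true, Bool.not_eq_true', List.contains_iff_mem] at h
    refine h.resolve_left fun hne => ?_
    exact (eqW_not (good_append hgy hgy) good_nil).mp hne (by rw [AW_append, AW_nil]; exact hsq)
  simp only [zImgOK, List.all_eq_true, Bool.or_eq_true, Bool.not_eq_true', List.any_eq_true,
    Bool.and_eq_true] at hzl
  rcases hzl k hinv with h | ⟨⟨k', kind, j⟩, he, hk', hkind⟩
  · exfalso
    rw [← Bool.not_eq_true, List.all_eq_true] at h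
    refine h fun f hf => ?_
    obtain ⟨hfm, hfc⟩ := hF f hf
    rw [commW_iff hgy (good_substB hfm hgv), AW_substB hfm]
    refine Φ.hom_inj ?_
    have e : Φ.hom (evEB pe pb f) * Φ.hom pz = Φ.hom pz * Φ.hom (evEB pe pb f) := by
      rw [← map_mul, ← map_mul, ← AW_evEB hfm, hfc.eq]
    rw [map_mul, map_mul, hγ.image_word hv, ← yP, hz']
    calc γ * Φ.hom pz * γ⁻¹ * (γ * Φ.hom (evEB pe pb f) * γ⁻¹)
        = γ * (Φ.hom pz * Φ.hom (evEB pe pb f)) * γ⁻¹ := by group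
      _ = _ := by rw [← e]; group
  · obtain rfl : k' = k := Nat.eq_of_beq_eq_true hk'
    have hinj : ∀ {x : PH}, Φ.hom (yP k') = γ * Φ.hom x * γ⁻¹ → pz = x := fun {x} h =>
      Φ.hom_inj (mul_left_cancel (mul_right_cancel (hz'.symm.trans h)))
    simp only [kindOK, Bool.or_eq_true, Bool.and_eq_true, Nat.blt_eq] at hkind
    rcases hkind with ((((⟨-, h⟩ | ⟨-, h⟩) | ⟨-, h⟩) | ⟨-, h⟩) | ⟨⟨hn, hj⟩, h⟩) | ⟨⟨hn, hj⟩, h⟩
    · exfalso
      have e : yP k' = 1 := (eqW_iff hgy good_nil).mp h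
      exact hz1 (hinj (by rw [e, map_one]; group))
    · exfalso
      have e : yP k' = AW [0, 0] := (eqW_iff hgy (good_cons (by norm_num) (good_cons (by norm_num) good_nil))).mp h
      exact hzA (hinj (by rw [e, iP_AW, hγ.a_t, Φ.hom_iP]))
    · exfalso
      have e : yP k' = pa := (eqW_iff hgy (good_cons (by norm_num) good_nil)).mp h
      exact hzi (hinj (by rw [e, Φ.hom_iP, hγ.t_a]))
    · exfalso
      have e : yP k' = AW [5, 0, 0] := (eqW_iff hgy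
        (good_cons (by norm_num) (good_cons (by norm_num) (good_cons (by norm_num) good_nil)))).mp h
      rw [AW_cons, iP_AW] at e
      refine hzia (hinj ?_)
      rw [e, map_mul, map_mul]
      show Φ.hom pa * Φ.hom iP = _
      rw [Φ.hom_iP]
      calc Φ.hom pa * t = γ * t * γ⁻¹ * (γ * Φ.hom pa * γ⁻¹) := by rw [hγ.t_a, hγ.a_t]
        _ = _ := by group
    · obtain rfl : kind = 4 := Nat.eq_of_beq_eq_true hn
      refine ⟨j, Or.inl ⟨he, ?_⟩⟩
      rw [← hγ.tt_iff hz', show yP k' = hP j from ((eqW_iff hgy (good_hW hj)).mp h).trans (AW_hW hj)]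
      exact hγ.tt_hP j
    · obtain rfl : kind = 5 := Nat.eq_of_beq_eq_true hn
      refine ⟨j, Or.inr ⟨he, ?_⟩⟩
      have e := (eqW_iff (good_append hgy (good_cons (by norm_num) (good_cons (by norm_num) good_nil)))
        (good_hW hj)).mp h
      rw [AW_append, iP_AW, AW_hW hj] at e
      rw [← hγ.tt_iff hz', show yP k' = hP j * iP by
        rw [← e, mul_assoc, iP_sq, mul_one]; rfl]
      exact not_tt_hP_iP j

end

end CfsgLib.HNType.Five
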