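import Cfsg.Agent.Lib.HNType.Variant

/-!
The involution centraliser of a simple group of type HN is the subgroup of `x`, `y` and `z` in the
presented group.
-/

set_option autoImplicit false
set_option maxRecDepth 100000

namespace CfsgLib.HNType

open CfsgLib.DCoset CfsgLib.HN

/-- An involution centraliser with a self-centralising double cover of HS of index two in a simple
group is the subgroup of `x, y, z` of the presented group, the central involution being `x²`. -/
theorem exists_cent_equiv {G : Type*} [Group G] [Finite G] [IsSimpleGroup G] (t : G)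
    (ht : orderOf t = 2) (M : Subgroup (Subgroup.centralizer ({t} : Set G))) [M.Normal]
    (hM : M.index = 2)
    (hout : Subgroup.centralizer (M : Set (Subgroup.centralizer ({t} : Set G))) ≤ M)
    (hcov : Cfsg.IsNonsplitDoubleCover M Cfsg.Spor.HS) :
    ∃ φ : ↥subH ≃* ↥(Subgroup.centralizer ({t} : Set G)), (φ ⟨gi, gi_mem⟩ : G) = t := by
  classical
  have htC : t ∈ Subgroup.centralizer ({t} : Set G) := Subgroup.mem_centralizer_singleton_iff.mpr rfl
  have htz : (⟨t, htC⟩ : ↥(Subgroup.centralizer ({t} : Set G))) ∈ Subgroup.center ↥(Subgroup.centralizer ({t} : Set G)) := Subgroup.mem_center_iff.mpr fun c =>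
    Subtype.ext (Subgroup.mem_centralizer_singleton_iff.mp c.2)
  have ht1 : (⟨t, htC⟩ : ↥(Subgroup.centralizer ({t} : Set G))) ≠ 1 := fun h => by
    rw [show t = 1 from congrArg Subtype.val h, orderOf_one] at ht
    exact absurd ht (by norm_num)
  obtain ⟨e, f, he, hbij, hfi, -, hmul⟩ := exists_model M hM hout hcov htz ht1
  obtain rfl : e = 1 := by
    refine he.resolve_right fun het => ?_
    have hT : Twist f e := ⟨hbij, by rw [het], by rw [hfi, het], fun x y h => (hmul x y).1 h,
      fun x y hx hy => (hmul x y).2 hx hy⟩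
    have hcore := CfsgLib.ZStar.commutatorsInCore_of_isolated (hT.isolated ht)
    haveI : (Cfsg.pPrimeCore 2 G).Normal := CfsgLib.Transfer.pPrimeCore_normal 2 G
    rcases (inferInstance : (Cfsg.pPrimeCore 2 G).Normal).eq_bot_or_eq_top with h | h
    · have htc : t ∈ Subgroup.center G := Subgroup.mem_center_iff.mpr fun g => by
        have h1 : t * g * t⁻¹ * g⁻¹ = 1 := Subgroup.mem_bot.mp (h ▸ hcore g)
        rw [mul_inv_eq_one, mul_inv_eq_iff_eq_mul] at h1
        exact h1.symm
      rcases (inferInstance : (Subgroup.center G).Normal).eq_bot_or_eq_top with hc | hc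
      · exact ht1 (Subtype.ext (Subgroup.mem_bot.mp (hc ▸ htc)))
      · have hMtop : M = ⊤ := eq_top_iff.mpr fun c _ => hout (Subgroup.mem_centralizer_iff.mpr
          fun m _ => Subtype.ext (Subgroup.mem_center_iff.mp (hc ▸ Subgroup.mem_top (c : G)) (m : G)))
        rw [hMtop, Subgroup.index_top] at hM
        exact absurd hM (by norm_num)
    · have hco := CfsgLib.Transfer.pPrimeCore_coprime (G := G) 2
      rw [h, Subgroup.card_top] at hco
      have hd : 2 ∣ Nat.card G := ht ▸ orderOf_dvd_natCard t
      have h2 := Nat.dvd_gcd hd (dvd_refl 2)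
      rw [hco] at h2
      exact absurd h2 (by norm_num)
  have hm : ∀ x y, f (x * y) = f x * f y := fun x y => by
    by_cases h : x ∈ kP ∨ y ∈ kP
    · exact ((hmul x y).1 h).symm
    · push_neg at h
      rw [(hmul x y).2 h.1 h.2, mul_one]
  refine ⟨(MulEquiv.ofBijective toP ⟨toP_injective, toP_surjective⟩).trans
    (MulEquiv.ofBijective (MonoidHom.mk' f hm) hbij), ?_⟩
  have e1 : toP ⟨gi, gi_mem⟩ = iP := Subtype.ext (by rw [toP_gi, iP_val])
  show (f (toP ⟨gi, gi_mem⟩) : G) = t
  rw [e1, hfi]

end CfsgLib.HNType
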