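import Cfsg.Agent.Lib.HNType.SylCheck

/-!
A Sylow 2-subgroup of the group on 1408 points: involutions, centre and roots in the twisted group.
-/

set_option autoImplicit false
set_option maxRecDepth 100000

namespace CfsgLib.HNType

open CfsgLib.CosetEnum CfsgLib.DCoset CfsgLib.HN

/-- the group on 1408 points -/
abbrev PH : Type := ↥valid.P

/-- a word in the letters as an element -/
noncomputable def wordP (w : List ℕ) : PH := ⟨prodW valid.pgen w, valid.prodW_mem w⟩

/-- the central involution -/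
noncomputable def iP : PH := wordP [0, 0]

/-- image of a point -/
noncomputable def img (x : PH) (p : Fin space.C.N) : ℕ := (x.1.unop p : ℕ)

theorem img_word {w : List ℕ} (hw : ∀ g ∈ w, g < 5) (p : Fin space.C.N) :
    img (wordP w) p = space.C.run p w := valid.pgen_apply hw p

theorem img_mul (x y : PH) (p : Fin space.C.N) : img (x * y) p = img y (x.1.unop p) :=
  congrArg Fin.val (valid.unop_mul_apply x.1 y.1 p)

theorem img_one (p : Fin space.C.N) : img 1 p = p := rfl

theorem base_mem {b : ℕ} (hb : b < 6) : basePt b ∈ HN.base := by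
  have hl : b < HN.base.length := lt_of_lt_of_eq hb rfl
  rw [basePt, List.getD_eq_getElem _ _ hl]
  exact List.getElem_mem hl

theorem base_lt {b : ℕ} (hb : b < 6) : basePt b < space.C.N := based.1 _ (base_mem hb)

/-- base point `b` as a point -/
noncomputable def bp {b : ℕ} (hb : b < 6) : Fin space.C.N := ⟨basePt b, base_lt hb⟩

theorem bp_val {b : ℕ} (hb : b < 6) : ((bp hb : Fin space.C.N) : ℕ) = basePt b := rfl

theorem eq_of_base {x y : PH} (h : ∀ b, ∀ hb : b < 6, img x (bp hb) = img y (bp hb)) : x = y := by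
  obtain ⟨w, hw, hwe⟩ := lowValid.exists_word (x * y⁻¹)
  have h1 : (x * y⁻¹).1 = 1 := by
    rw [← hwe]
    refine based.2 w hw fun c hc => ?_
    obtain ⟨b, hb, rfl⟩ : ∃ b, b < 6 ∧ basePt b = c := by
      obtain ⟨b, hb, e⟩ := List.getElem_of_mem hc
      exact ⟨b, lt_of_lt_of_eq hb rfl, by rw [basePt, List.getD_eq_getElem _ _ hb, e]⟩
    rw [← bp_val hb, ← valid.pgen_apply hw (bp hb), hwe]
    show ((x.1 * (y.1)⁻¹).unop (bp hb) : ℕ) = basePt b
    rw [valid.unop_mul_apply, show x.1.unop (bp hb) = y.1.unop (bp hb) from Fin.ext (h b hb),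
      MulOpposite.unop_inv, Equiv.Perm.inv_def, Equiv.symm_apply_apply]
    rfl
  exact mul_inv_eq_one.mp (Subtype.ext h1)

/-- generator `j` of the Sylow subgroup -/
noncomputable def sG (j : ℕ) : PH := wordP (sylW.getD j [])

theorem tab_spec {j : ℕ} (hj : j < 4) :
    (∀ g ∈ sylW.getD j [], g < 5) ∧ ∀ p : Fin space.C.N, img (sG j) p = tApp j p := by
  have h := tab_ok
  simp only [tabOK, List.all_eq_true, List.mem_range, Bool.and_eq_true, Nat.blt_eq] at h
  obtain ⟨hl, ht⟩ := h j hj
  refine ⟨hl, fun p => ?_⟩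
  rw [sG, img_word hl]
  exact (Nat.eq_of_beq_eq_true (Cert.allBelow_spec ht p p.2)).symm

/-- the product of a word in the generators -/
noncomputable def sProd (l : List ℕ) : PH := (l.map sG).prod

theorem img_sProd : ∀ {l : List ℕ}, (∀ j ∈ l, j < 4) → ∀ p : Fin space.C.N,
    img (sProd l) p = tWord l p
  | [], _, p => rfl
  | j :: l, h, p => by
    rw [List.forall_mem_cons] at h
    rw [sProd, List.map_cons, List.prod_cons, img_mul, tWord, strict_eq, ← (tab_spec h.1).2 p]
    exact img_sProd h.2 _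

/-- element `k` -/
noncomputable def el (k : ℕ) : PH := sProd (sylWord k)

structure ElRec (k : ℕ) : Prop where
  word : ∀ j ∈ sylWord k, j < 4
  key : ∀ b, ∀ hb : b < 6, img (el k) (bp hb) = sylKey k b
  step : ∀ j < 4, el k * sG j = el (sylMul k j)
  tsq : el k * el k * (bif inK k then 1 else iP) = el (sylTSq k)

theorem mod2048 (a : ℕ) : a % 2048 < 2048 := Nat.mod_lt _ (by norm_num)

theorem mul_lt2048 (k j : ℕ) : sylMul k j < 2048 := mod2048 _

theorem tsq_lt2048 (k : ℕ) : sylTSq k < 2048 := mod2048 _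

theorem at_lt2048 (i : ℕ) : sylAt i < 2048 := mod2048 _

theorem el_key {k : ℕ} (hk : k < 2048) :
    (∀ j ∈ sylWord k, j < 4) ∧ ∀ b, ∀ hb : b < 6, img (el k) (bp hb) = sylKey k b := by
  have h := Cert.allBelow_spec el_ok k hk
  simp only [elOK, strict_eq, Bool.and_eq_true, List.all_eq_true, List.mem_range, Nat.blt_eq] at h
  refine ⟨h.1, fun b hb => ?_⟩
  rw [el, img_sProd h.1]
  exact Nat.eq_of_beq_eq_true (h.2 b hb).1.1

theorem el_spec {k : ℕ} (hk : k < 2048) : ElRec k := by
  obtain ⟨hw, hkey⟩ := el_key hk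
  have h := Cert.allBelow_spec el_ok k hk
  simp only [elOK, strict_eq, Bool.and_eq_true, List.all_eq_true, List.mem_range, Nat.blt_eq] at h
  refine ⟨hw, hkey, fun j hj => eq_of_base fun b hb => ?_, eq_of_base fun b hb => ?_⟩
  · rw [img_mul, (tab_spec hj).2, show ((el k).1.unop (bp hb) : ℕ) = sylKey k b from hkey b hb,
      (el_key (mul_lt2048 _ _)).2 b hb]
    exact Nat.eq_of_beq_eq_true ((h.2 b hb).1.2 j hj)
  · have e1 : img (el k * el k) (bp hb) = tWord (sylWord k) (sylKey k b) := by
      rw [img_mul]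
      show img (sProd (sylWord k)) _ = _
      rw [img_sProd hw, show ((el k).1.unop (bp hb) : ℕ) = sylKey k b from hkey b hb]
    rw [(el_key (tsq_lt2048 _)).2 b hb, ← Nat.eq_of_beq_eq_true (h.2 b hb).2]
    cases inK k
    · rw [cond_false, cond_false, img_mul, iP, img_word (by simp)]
      exact congrArg (fun n => space.C.run n [0, 0]) e1
    · rw [cond_true, cond_true, mul_one, e1]

theorem el_zero : el 0 = 1 := by
  have h := cent_ok
  simp only [centOK, Bool.and_eq_true, List.isEmpty_iff] at h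
  rw [el, h.1.1.1.1.2]; rfl

/-- the Sylow subgroup -/
noncomputable def T : Subgroup PH := Subgroup.closure {x | ∃ j < 4, sG j = x}

theorem el_mem {k : ℕ} (hk : k < 2048) : el k ∈ T := by
  refine list_prod_mem fun x hx => ?_
  obtain ⟨j, hj, rfl⟩ := List.mem_map.mp hx
  exact Subgroup.subset_closure ⟨j, (el_key hk).1 j hj, rfl⟩

instance finite_PH : Finite PH := Nat.finite_of_card_ne_zero (by rw [card_P]; norm_num)

theorem exists_el {x : PH} (hx : x ∈ T) : ∃ k < 2048, el k = x := by
  rw [T, ← Subgroup.mem_toSubmonoid, Subgroup.closure_toSubmonoid_of_finite] at hx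
  induction hx using Submonoid.closure_induction_right with
  | one => exact ⟨0, by norm_num, el_zero⟩
  | mul_right x _ y hy ih =>
    obtain ⟨j, hj, rfl⟩ := hy
    obtain ⟨k, hk, rfl⟩ := ih
    exact ⟨sylMul k j, mul_lt2048 _ _, ((el_spec hk).step j hj).symm⟩

theorem el_at_inj {i j : ℕ} (hi : i < 2048) (hj : j < 2048) (h : el (sylAt i) = el (sylAt j)) :
    i = j := by
  have hkey : ∀ b, ∀ hb : b < 6, sylKey (sylAt i) b = sylKey (sylAt j) b := fun b hb => by
    rw [← (el_key (at_lt2048 _)).2 b hb, ← (el_key (at_lt2048 _)).2 b hb]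
    exact congrArg (fun x => img x (bp hb)) h
  have hn : keyNum (sylAt i) = keyNum (sylAt j) := by
    simp only [keyNum, hkey 0 (by norm_num), hkey 1 (by norm_num), hkey 2 (by norm_num),
      hkey 3 (by norm_num), hkey 4 (by norm_num), hkey 5 (by norm_num)]
  have hmono : ∀ a b : ℕ, a < b → b < 2048 → keyNum (sylAt a) < keyNum (sylAt b) := by
    intro a b hab
    induction b, hab using Nat.le_induction with
    | base =>
      intro hb
      have h := Cert.allBelow_spec sort_ok a (by omega)
      simpa [sortOK, strict_eq] using h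
    | succ b hb ih =>
      intro hb'
      refine (ih (by omega)).trans ?_
      have h := Cert.allBelow_spec sort_ok b (by omega)
      simpa [sortOK, strict_eq] using h
  rcases lt_trichotomy i j with hlt | rfl | hlt
  · exact absurd hn (hmono i j hlt hj).ne
  · rfl
  · exact absurd hn (hmono j i hlt hi).ne'

/-- the elements, numbered -/
noncomputable def elT (k : Fin 2048) : ↥T := ⟨el k, el_mem k.2⟩

theorem card_T : Nat.card ↥T = 2048 := by
  refine le_antisymm ?_ ?_
  · refine (Nat.card_le_card_of_surjective elT fun x => ?_).trans (Nat.card_fin _).le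
    obtain ⟨k, hk, e⟩ := exists_el x.2
    exact ⟨⟨k, hk⟩, Subtype.ext e⟩
  · have h : Function.Injective fun i : Fin 2048 => (⟨el (sylAt i), el_mem (mod2048 _)⟩ : ↥T) :=
      fun i j e => Fin.ext (el_at_inj i.2 j.2 (congrArg Subtype.val e))
    exact (Nat.card_fin 2048).ge.trans (Nat.card_le_card_of_injective _ h)

theorem elT_bijective : Function.Bijective elT := by
  refine (Nat.bijective_iff_surjective_and_card _).mpr ⟨fun x => ?_, by rw [card_T, Nat.card_fin]⟩
  obtain ⟨k, hk, e⟩ := exists_el x.2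
  exact ⟨⟨k, hk⟩, Subtype.ext e⟩

theorem el_inj {k l : ℕ} (hk : k < 2048) (hl : l < 2048) (h : el k = el l) : k = l :=
  congrArg Fin.val (elT_bijective.1 (a₁ := ⟨k, hk⟩) (a₂ := ⟨l, hl⟩) (Subtype.ext h))

theorem inK_iff {k : ℕ} (hk : k < 2048) : inK k = true ↔ el k ∈ kP := by
  have hkey : ((el k).1.unop valid.zero : ℕ) = sylKey k 0 := by
    rw [← (el_key hk).2 0 (by norm_num), show (bp (b := 0) (by norm_num) : Fin space.C.N) = valid.zero
      from Fin.ext (by decide +kernel : basePt 0 = 0)]
    rfl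
  rw [inK, beq_iff_eq, ← hkey, mem_kP]
  refine ⟨fun h => (keeps_or_flips (el k).2).resolve_right fun hf => ?_, fun h => h valid.zero⟩
  have e := hf valid.zero
  rw [show (valid.zero : Fin space.C.N).val = 0 from rfl, h] at e
  cases hb : colP 0 <;> simp [hb] at e

theorem iP_eq : iP = el 564 := by
  refine eq_of_base fun b hb => ?_
  have h := cent_ok
  simp only [centOK, Bool.and_eq_true, List.all_eq_true, List.mem_range] at h
  rw [iP, img_word (by simp), (el_key (by norm_num)).2 b hb]
  exact (Nat.eq_of_beq_eq_true (h.1.1.1.2 b hb)).symm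

theorem iP_val : iP.1 = x2 := by
  show prodW valid.pgen [0, 0] = _
  simp [x2, prodW_cons]

theorem iP_comm (x : PH) : iP * x = x * iP := by
  refine Subtype.ext ?_
  rw [Subgroup.coe_mul, Subgroup.coe_mul, iP_val]
  exact x2_comm x.2

theorem iP_sq : iP * iP = 1 := by
  have h := (el_spec (k := 564) (by norm_num)).tsq
  rw [show inK 564 = true by decide +kernel, cond_true, mul_one,
    show sylTSq 564 = 0 by decide +kernel, el_zero, ← iP_eq] at h
  exact h

theorem comm4_spec {k : ℕ} (hk : k < 2048) : comm4 k = true ↔ ∀ x ∈ T, Commute x (el k) := by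
  have he : ∀ j < 4, ∀ b, ∀ hb : b < 6,
      (Nat.beq (sylKey (sylMul k j) b) (tWord (sylWord k) (tApp j (basePt b))) = true ↔
        img (el k * sG j) (bp hb) = img (sG j * el k) (bp hb)) := by
    intro j hj b hb
    rw [(el_spec hk).step j hj, (el_key (mul_lt2048 _ _)).2 b hb, img_mul (sG j) (el k), el,
      img_sProd (el_key hk).1,
      show ((sG j).1.unop (bp hb) : ℕ) = tApp j (basePt b) from (tab_spec hj).2 (bp hb)]
    exact ⟨Nat.eq_of_beq_eq_true, fun h => by rw [h]; exact Nat.beq_refl _⟩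
  simp only [comm4, List.all_eq_true, List.mem_range]
  refine ⟨fun h x hx => ?_, fun h j hj b hb => (he j hj b hb).mpr ?_⟩
  · induction hx using Subgroup.closure_induction with
    | mem y hy =>
      obtain ⟨j, hj, rfl⟩ := hy
      exact (eq_of_base fun b hb => (he j hj b hb).mp (h j hj b hb)).symm
    | one => exact Commute.one_left _
    | mul a b _ _ ha hb => exact ha.mul_left hb
    | inv a _ ha => exact ha.inv_left
  · exact congrArg (fun x => img x (bp hb)) (h _ (Subgroup.subset_closure ⟨j, hj, rfl⟩)).eq.symm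

theorem central_three {z : ℕ} (hz : z = 564 ∨ z = 690 ∨ z = 1975) :
    ∀ x ∈ T, Commute x (el z) := by
  have h := cent_ok
  simp only [centOK, Bool.and_eq_true] at h
  rcases hz with rfl | rfl | rfl
  · exact (comm4_spec (by norm_num)).mp h.1.1.1.1.1.1.1
  · exact (comm4_spec (by norm_num)).mp h.1.1.1.1.1.1.2
  · exact (comm4_spec (by norm_num)).mp h.1.1.1.1.1.2

theorem central_cases {k : ℕ} (hk : k < 2048) (hc : ∀ x ∈ T, Commute x (el k)) :
    k = 0 ∨ k = 564 ∨ k = 690 ∨ k = 1975 := by
  have h := Cert.allBelow_spec class_ok k hk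
  simp only [classOK, strict_eq, Bool.and_eq_true, Bool.or_eq_true, Bool.not_eq_true'] at h
  rcases h.2 with (((h | h) | h) | h) | h
  · rw [(comm4_spec hk).mpr hc] at h; cases h
  · exact Or.inl (Nat.eq_of_beq_eq_true h)
  · exact Or.inr (Or.inl (Nat.eq_of_beq_eq_true h))
  · exact Or.inr (Or.inr (Or.inl (Nat.eq_of_beq_eq_true h)))
  · exact Or.inr (Or.inr (Or.inr (Nat.eq_of_beq_eq_true h)))

theorem exists_conj_T {x : PH} (hx : x ^ 4 = 1) : ∃ c : PH, c * x * c⁻¹ ∈ T := by
  have : Fact (Nat.Prime 2) := ⟨Nat.prime_two⟩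
  have hT : IsPGroup 2 T := IsPGroup.of_card (n := 11) (by rw [card_T]; norm_num)
  have hidx : ¬ 2 ∣ T.index := by
    have h := T.card_mul_index
    rw [card_T, card_P] at h
    omega
  have hxp : IsPGroup 2 (Subgroup.zpowers x) := by
    rintro ⟨y, hy⟩
    obtain ⟨m, rfl⟩ := Subgroup.mem_zpowers_iff.mp hy
    exact ⟨2, Subtype.ext (show (x ^ m) ^ 2 ^ 2 = 1 by
      rw [← zpow_natCast, zpow_comm, zpow_natCast, show (2 : ℕ) ^ 2 = 4 from rfl, hx, one_zpow])⟩
  obtain ⟨P, hP⟩ := hxp.exists_le_sylow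
  obtain ⟨c, hc⟩ := MulAction.exists_smul_eq PH P (hT.toSylow hidx)
  refine ⟨c, ?_⟩
  have hmem : MulAut.conj c x ∈ ((c • P : Sylow 2 PH) : Subgroup PH) := by
    rw [Sylow.coe_subgroup_smul]
    exact Subgroup.smul_mem_pointwise_smul _ (MulAut.conj c) _ (hP (Subgroup.mem_zpowers _))
  rw [hc] at hmem
  exact hmem

theorem kP_normal : kP.Normal := Subgroup.normal_of_index_eq_two index_kP

theorem conj_mem_kP {x : PH} (c : PH) : c * x * c⁻¹ ∈ kP ↔ x ∈ kP := by
  refine ⟨fun h => ?_, fun h => kP_normal.conj_mem x h c⟩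
  have := kP_normal.conj_mem _ h c⁻¹
  rwa [show c⁻¹ * (c * x * c⁻¹) * c⁻¹⁻¹ = x by group] at this

/-- No element outside the subgroup of index two squares to the central involution. -/
theorem no_outer_root {x : PH} (hx : x ∉ kP) : x * x ≠ iP := by
  intro h
  obtain ⟨c, hc⟩ := exists_conj_T (x := x) (by
    rw [show x ^ 4 = (x * x) * (x * x) by simp [pow_succ, mul_assoc], h, iP_sq])
  obtain ⟨k, hk, e⟩ := exists_el hc
  have hK : inK k = false := by
    rw [← Bool.not_eq_true, inK_iff hk, e, conj_mem_kP]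
    exact hx
  have hsq : el k * el k = iP := by
    rw [e, show c * x * c⁻¹ * (c * x * c⁻¹) = c * (x * x) * c⁻¹ by group, h, ← iP_comm,
      mul_inv_cancel_right]
  have ht := (el_spec hk).tsq
  rw [hK, cond_false, hsq, iP_sq, ← el_zero] at ht
  have h0 := el_inj (by norm_num) (mod2048 _) ht
  have hc' := Cert.allBelow_spec class_ok k hk
  simp only [classOK, strict_eq, Bool.and_eq_true, Bool.or_eq_true, Bool.not_eq_true'] at hc'
  rcases hc'.1.1 with h1 | h1
  · rw [hK] at h1; cases h1
  · rw [show sylTSq k = 0 from h0.symm, Nat.beq_refl] at h1; cases h1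

/-- An involution of the subgroup of index two is conjugate to one of three central involutions of
the Sylow subgroup. -/
theorem inner_involution {x : PH} (hxK : x ∈ kP) (hx : x * x = 1) (hx1 : x ≠ 1) :
    ∃ d : PH, d * x * d⁻¹ = el 564 ∨ d * x * d⁻¹ = el 690 ∨ d * x * d⁻¹ = el 1975 := by
  obtain ⟨c, hc⟩ := exists_conj_T (x := x) (by
    rw [show x ^ 4 = (x * x) * (x * x) by simp [pow_succ, mul_assoc], hx, one_mul])
  obtain ⟨k, hk, e⟩ := exists_el hc
  have hK : inK k = true := by rw [inK_iff hk, e, conj_mem_kP]; exact hxK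
  have ht := (el_spec hk).tsq
  rw [hK, cond_true, mul_one, e, show c * x * c⁻¹ * (c * x * c⁻¹) = c * (x * x) * c⁻¹ by group, hx,
    mul_one, mul_inv_cancel, ← el_zero] at ht
  have h0 := el_inj (by norm_num) (mod2048 _) ht
  have hc' := Cert.allBelow_spec class_ok k hk
  simp only [classOK, strict_eq, Bool.and_eq_true, Bool.or_eq_true, Bool.not_eq_true',
    List.any_eq_true] at hc'
  rcases hc'.1.2 with ((h | h) | h) | ⟨u, hu, h⟩
  · refine absurd ?_ hx1
    rw [Nat.eq_of_beq_eq_true h, el_zero] at e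
    exact conj_eq_one_iff.mp e.symm
  · rw [hK] at h; cases h
  · rw [show sylTSq k = 0 from h0.symm, Nat.beq_refl] at h; cases h
  have hu' := List.all_eq_true.mp conj_ok u hu
  simp only [conjOK, Bool.and_eq_true, Bool.or_eq_true, List.all_eq_true, List.mem_range,
    Nat.blt_eq] at hu'
  obtain ⟨⟨⟨hu1, hw⟩, hz⟩, heq⟩ := hu'
  obtain ⟨k', w, z⟩ := u
  have hk' : k' = k := Nat.eq_of_beq_eq_true h
  subst hk'
  have hz' : z = 564 ∨ z = 690 ∨ z = 1975 := by
    rcases hz with (hz | hz) | hz
    exacts [Or.inl (Nat.eq_of_beq_eq_true hz), Or.inr (Or.inl (Nat.eq_of_beq_eq_true hz)),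
      Or.inr (Or.inr (Nat.eq_of_beq_eq_true hz))]
  have hzlt : z < 2048 := by rcases hz' with rfl | rfl | rfl <;> norm_num
  have hg : wordP w * el k' = el z * wordP w := eq_of_base fun b hb => by
    rw [img_mul, img_mul, el, img_sProd (el_key hk).1, img_word hw]
    have e1 : ((wordP w).1.unop (bp hb) : ℕ) = space.C.run (basePt b) w := img_word hw (bp hb)
    have e2 : ((el z).1.unop (bp hb) : ℕ) = sylKey z b := (el_key hzlt).2 b hb
    rw [e1, e2]
    exact Nat.eq_of_beq_eq_true (heq b hb)
  refine ⟨wordP w * c, ?_⟩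
  have hd : wordP w * c * x * (wordP w * c)⁻¹ = el z := by
    rw [show wordP w * c * x * (wordP w * c)⁻¹ = wordP w * (c * x * c⁻¹) * (wordP w)⁻¹ by group,
      ← e, hg, mul_inv_cancel_right]
  rw [hd]
  rcases hz' with rfl | rfl | rfl
  exacts [Or.inl rfl, Or.inr (Or.inl rfl), Or.inr (Or.inr rfl)]

open scoped Classical in
/-- the roots of element `z` in the twisted group -/
theorem card_roots {z : ℕ} (hz : z < 2048) :
    Nat.card {x : ↥T // (x : PH) * x * (if (x : PH) ∈ kP then 1 else iP) = el z} = rootCount z := by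
  have he : ∀ k : Fin 2048, Nat.beq (sylTSq k) z = true ↔
      ((elT k : PH) * elT k * (if (elT k : PH) ∈ kP then 1 else iP) = el z) := by
    intro k
    have h := (el_spec k.2).tsq
    have hb : (bif inK k then (1 : PH) else iP) = if el k ∈ kP then 1 else iP := by
      cases hK : inK k
      · rw [cond_false, if_neg]; rw [← inK_iff k.2, hK]; simp
      · rw [cond_true, if_pos ((inK_iff k.2).mp hK)]
    rw [hb] at h
    show _ ↔ el k * el k * (if el k ∈ kP then 1 else iP) = el z
    rw [h]
    exact ⟨fun e => congrArg el (Nat.eq_of_beq_eq_true e),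
      fun e => by rw [el_inj (tsq_lt2048 _) hz e]; exact Nat.beq_refl _⟩
  rw [← Nat.card_congr (Equiv.subtypeEquiv (p := fun k : Fin 2048 => Nat.beq (sylTSq k) z = true)
    (Equiv.ofBijective elT elT_bijective) he), Nat.card_eq_fintype_card, Fintype.card_subtype]
  rw [rootCount, ← List.toFinset_card_of_nodup (List.nodup_range.filter _)]
  refine Finset.card_bij (fun k _ => k.1) (fun k hk => ?_) (fun a _ b _ e => Fin.ext e) fun k hk => ?_
  · simp only [List.mem_toFinset, List.mem_filter, List.mem_range]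
    exact ⟨k.2, (Finset.mem_filter.mp hk).2⟩
  · simp only [List.mem_toFinset, List.mem_filter, List.mem_range] at hk
    exact ⟨⟨k, hk.1⟩, Finset.mem_filter.mpr ⟨Finset.mem_univ _, hk.2⟩, rfl⟩

theorem roots_iP : rootCount 564 = 288 := by
  have h := cent_ok
  simp only [centOK, Bool.and_eq_true] at h
  exact Nat.eq_of_beq_eq_true h.1.1.2

theorem roots_ne {z : ℕ} (hz : z = 690 ∨ z = 1975) : rootCount z ≠ 288 := by
  have h := cent_ok
  simp only [centOK, Bool.and_eq_true, Bool.not_eq_true'] at h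
  intro e
  rcases hz with rfl | rfl
  · have h1 := h.1.2; rw [e] at h1; cases h1
  · have h1 := h.2; rw [e] at h1; cases h1

end CfsgLib.HNType
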