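import Cfsg.Agent.Lib.HN.Out
import Cfsg.Agent.Lib.HNType.Syl

/-!
A group with a non-split double cover of HS of index two and self-centralising is determined by
the square of an element outside.
-/

set_option autoImplicit false
set_option maxRecDepth 100000

namespace CfsgLib.HNType

open CfsgLib.DCoset CfsgLib.HN
open scoped commutatorElement

/-- the derived subgroup of a central extension of a perfect group is perfect and still onto -/
theorem perfect_derived {A Q : Type*} [Group A] [Group Q] (σ : A →* Q) (hs : Function.Surjective σ)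
    (hc : σ.ker ≤ Subgroup.center A) (hQ : commutator Q = ⊤) :
    commutator ↥(commutator A) = ⊤ ∧ ∀ q, ∃ a ∈ commutator A, σ a = q := by
  have honto : (commutator A).map σ = ⊤ := by
    rw [commutator_def, Subgroup.map_commutator, Subgroup.map_top_of_surjective σ hs, ← commutator_def, hQ]
  have hq : ∀ q, ∃ a ∈ commutator A, σ a = q := fun q =>
    Subgroup.mem_map.1 (honto ▸ Subgroup.mem_top q)
  refine ⟨Subgroup.map_injective (Subgroup.subtype_injective _) ?_, hq⟩
  rw [Subgroup.map_subtype_commutator, ← MonoidHom.range_eq_map, Subgroup.range_subtype]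
  refine le_antisymm (Subgroup.commutator_le.2 fun a ha b hb =>
    Subgroup.commutator_mem_commutator (Subgroup.mem_top a) (Subgroup.mem_top b)) ?_
  conv_lhs => rw [commutator_def]
  refine Subgroup.commutator_le.2 fun a _ b _ => ?_
  obtain ⟨a', ha', ea⟩ := hq (σ a)
  obtain ⟨b', hb', eb⟩ := hq (σ b)
  obtain ⟨k, hk, rfl⟩ : ∃ k ∈ σ.ker, a = a' * k :=
    ⟨a'⁻¹ * a, by rw [MonoidHom.mem_ker, map_mul, map_inv, ea, inv_mul_cancel], by group⟩
  obtain ⟨l, hl, rfl⟩ : ∃ l ∈ σ.ker, b = b' * l :=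
    ⟨b'⁻¹ * b, by rw [MonoidHom.mem_ker, map_mul, map_inv, eb, inv_mul_cancel], by group⟩
  have hkc := fun x => Subgroup.mem_center_iff.1 (hc hk) x
  have hlc := fun x => Subgroup.mem_center_iff.1 (hc hl) x
  have e : ⁅a' * k, b' * l⁆ = ⁅a', b'⁆ := by
    simp only [commutatorElement_def, mul_inv_rev]
    calc a' * k * (b' * l) * (k⁻¹ * a'⁻¹) * (l⁻¹ * b'⁻¹)
        = a' * (k * b') * l * k⁻¹ * a'⁻¹ * l⁻¹ * b'⁻¹ := by group
      _ = a' * b' * (k * l) * k⁻¹ * a'⁻¹ * l⁻¹ * b'⁻¹ := by rw [← hkc b']; group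
      _ = a' * b' * (l * a'⁻¹) * l⁻¹ * b'⁻¹ := by rw [← hkc l]; group
      _ = _ := by rw [← hlc a'⁻¹]; group
  rw [e]
  exact Subgroup.commutator_mem_commutator ha' hb'

theorem hs_perfect : commutator HSGrp = ⊤ := by
  haveI := simple_hs
  obtain ⟨σ, hs, -⟩ := exists_subKHom
  rw [commutator_def, ← Subgroup.map_top_of_surjective σ hs, ← Subgroup.map_commutator,
    ← commutator_def, commutator_subK]

/-- a finite perfect central extension of HS in any universe -/
theorem ker_le_two' {Γ : Type*} [Group Γ] [Finite Γ] (σ : Γ →* HSGrp) (hs : Function.Surjective σ)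
    (hc : σ.ker ≤ Subgroup.center Γ) (hp : commutator Γ = ⊤) : Nat.card σ.ker ≤ 2 := by
  let r : Γ →* Equiv.Perm (Fin (Nat.card Γ)) :=
    (Equiv.permCongrHom (Finite.equivFin Γ)).toMonoidHom.comp (MulAction.toPermHom Γ Γ)
  have hr : Function.Injective r :=
    (Equiv.permCongrHom (Finite.equivFin Γ)).injective.comp MulAction.toPerm_injective
  let φ : ↥r.range ≃* Γ := (MonoidHom.ofInjective hr).symm
  have hc' : (σ.comp φ.toMonoidHom).ker ≤ Subgroup.center ↥r.range := fun x hx => by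
    rw [Subgroup.mem_center_iff]
    intro y
    refine φ.injective ?_
    rw [map_mul, map_mul]
    exact Subgroup.mem_center_iff.mp (hc (show σ (φ x) = 1 from hx)) (φ y)
  have h := ker_le_two (σ.comp φ.toMonoidHom) (hs.comp φ.surjective) hc'
    (commutator_of_equiv φ hp)
  refine le_of_eq_of_le (Nat.card_congr ?_).symm h
  exact φ.toEquiv.subtypeEquiv fun x => Iff.rfl

/-- a lift of a surjection onto HS that is a bijection by counting -/
theorem bijective_lift {A Z : Type*} [Group A] [Group Z] [Finite A] [Finite Z] (π : A →* HSGrp)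
    (hπ : Function.Surjective π) (τ : Z →* HSGrp) (p : A →* Z)
    (hτc : ∀ k, τ k = 1 → k ∈ Subgroup.center Z) (hZ : commutator Z = ⊤) (hp : ∀ x, τ (p x) = π x)
    (hcard : Nat.card A ≤ Nat.card Z) : Function.Bijective p := by
  have hps : Function.Surjective p := by
    rw [← MonoidHom.range_eq_top, eq_top_iff, ← hZ, commutator_def, Subgroup.commutator_le]
    intro a _ b _
    obtain ⟨a', ea⟩ := hπ (τ a)
    obtain ⟨b', eb⟩ := hπ (τ b)
    obtain ⟨k, hk, rfl⟩ : ∃ k, τ k = 1 ∧ a = p a' * k :=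
      ⟨(p a')⁻¹ * a, by rw [map_mul, map_inv, hp, ea, inv_mul_cancel], by group⟩
    obtain ⟨l, hl, rfl⟩ : ∃ l, τ l = 1 ∧ b = p b' * l :=
      ⟨(p b')⁻¹ * b, by rw [map_mul, map_inv, hp, eb, inv_mul_cancel], by group⟩
    refine ⟨⁅a', b'⁆, ?_⟩
    have hkc := fun x => Subgroup.mem_center_iff.1 (hτc k hk) x
    have hlc := fun x => Subgroup.mem_center_iff.1 (hτc l hl) x
    rw [map_commutatorElement]
    simp only [commutatorElement_def, mul_inv_rev]
    symm
    calc p a' * k * (p b' * l) * (k⁻¹ * (p a')⁻¹) * (l⁻¹ * (p b')⁻¹)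
        = p a' * (k * p b') * l * k⁻¹ * (p a')⁻¹ * l⁻¹ * (p b')⁻¹ := by group
      _ = p a' * p b' * (k * l) * k⁻¹ * (p a')⁻¹ * l⁻¹ * (p b')⁻¹ := by rw [← hkc (p b')]; group
      _ = p a' * p b' * (l * (p a')⁻¹) * l⁻¹ * (p b')⁻¹ := by rw [← hkc l]; group
      _ = _ := by rw [← hlc (p a')⁻¹]; group
  exact (Nat.bijective_iff_surjective_and_card p).mpr
    ⟨hps, le_antisymm hcard (Nat.card_le_card_of_surjective p hps)⟩

theorem center_hs : Subgroup.center HSGrp = ⊥ := by
  haveI := simple_hs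
  rcases (inferInstance : (Subgroup.center HSGrp).Normal).eq_bot_or_eq_top with h | h
  · exact h
  · exfalso
    have := hs_perfect
    rw [commutator_def, Subgroup.commutator_eq_bot_iff_le_centralizer.mpr] at this
    · exact bot_ne_top this
    · intro a _
      exact Subgroup.mem_centralizer_iff.mpr fun b _ =>
        (Subgroup.mem_center_iff.mp (h ▸ Subgroup.mem_top a) b)

/-- A finite non-split double cover of HS is perfect, and is the group of `x, y` and `c`. -/
theorem exists_subK_equiv {M : Type*} [Group M] [Finite M]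
    (h : Cfsg.IsNonsplitDoubleCover M ↥Cfsg.Spor.HS) : Nonempty (↥subK ≃* M) := by
  classical
  obtain ⟨h2, ⟨i⟩, hns⟩ := h
  obtain ⟨j⟩ := nonempty_equiv_spor
  let σ : M →* HSGrp := (i.trans j.symm).toMonoidHom.comp (QuotientGroup.mk' _)
  have hs : Function.Surjective σ := (i.trans j.symm).surjective.comp (QuotientGroup.mk'_surjective _)
  have hkerσ : σ.ker = Subgroup.center M := by
    ext a
    rw [MonoidHom.mem_ker, show σ a = (i.trans j.symm) (QuotientGroup.mk a) from rfl,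
      map_eq_one_iff _ (i.trans j.symm).injective, QuotientGroup.eq_one_iff]
  have hmul : ∀ b : M, ∀ b' ∈ commutator M, σ b' = σ b → b'⁻¹ * b ∈ Subgroup.center M := by
    intro b b' _ e
    rw [← hkerσ, MonoidHom.mem_ker, map_mul, map_inv, e, inv_mul_cancel]
  obtain ⟨-, hq⟩ := perfect_derived σ hs hkerσ.le hs_perfect
  have hM : commutator M = ⊤ := by
    by_contra hne
    refine hns (commutator M) ?_
    have hdisj : Disjoint (Subgroup.center M) (commutator M) := by
      rw [Subgroup.disjoint_def]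
      intro a ha ha'
      by_contra h1
      refine hne ?_
      rw [eq_top_iff]
      intro b _
      obtain ⟨b', hb', eb⟩ := hq (σ b)
      rcases card_two_mem h2 ha h1 (hmul b b' hb' eb) with e | e
      · rw [inv_mul_eq_one.1 e] at hb'; exact hb'
      · rw [inv_mul_eq_iff_eq_mul.1 e]; exact mul_mem hb' ha'
    refine Subgroup.isComplement'_of_disjoint_and_mul_eq_univ hdisj (Set.eq_univ_of_forall fun b => ?_)
    obtain ⟨b', hb', eb⟩ := hq (σ b)
    refine ⟨b'⁻¹ * b, hmul b b' hb' eb, b', hb', ?_⟩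
    show b'⁻¹ * b * b' = b
    rw [← Subgroup.mem_center_iff.1 (hmul b b' hb' eb) b', mul_inv_cancel_left]
  obtain ⟨ρ, hρs, hρc, hρ2⟩ := exists_subKHom
  let F : Subgroup (↥subK × M) := (ρ.comp (MonoidHom.fst _ M)).eqLocus (σ.comp (MonoidHom.snd _ M))
  let π : F →* HSGrp := (ρ.comp (MonoidHom.fst _ M)).comp F.subtype
  have hπs : Function.Surjective π := fun q => by
    obtain ⟨a, rfl⟩ := hρs q
    obtain ⟨b, hb⟩ := hs (ρ a)
    exact ⟨⟨(a, b), hb.symm⟩, rfl⟩
  have hπc : π.ker ≤ Subgroup.center F := fun x hx => by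
    have h1 : ρ x.1.1 = 1 := hx
    have h2' : σ x.1.2 = 1 := (show ρ x.1.1 = σ x.1.2 from x.2) ▸ h1
    rw [Subgroup.mem_center_iff]
    intro y
    refine Subtype.ext (Prod.ext ?_ ?_)
    · exact Subgroup.mem_center_iff.1 ((hρc _).mp h1) _
    · exact Subgroup.mem_center_iff.1 (hkerσ ▸ (MonoidHom.mem_ker.2 h2')) _
  obtain ⟨hD, honto⟩ := perfect_derived π hπs hπc hs_perfect
  let π' : commutator F →* HSGrp := π.comp (commutator F).subtype
  have hπ's : Function.Surjective π' := fun q => by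
    obtain ⟨a, ha, e⟩ := honto q
    exact ⟨⟨a, ha⟩, e⟩
  have hKfin : Finite ↥subK := by
    haveI : Finite G := finite_G
    infer_instance
  have hk2 : Nat.card π'.ker ≤ 2 := ker_le_two' π' hπ's
    (fun x hx => Subgroup.mem_center_iff.2 fun y => Subtype.ext (Subgroup.mem_center_iff.1 (hπc hx) y.1)) hD
  have hcard : Nat.card (commutator F) ≤ Nat.card HSGrp * 2 := by
    rw [Subgroup.card_eq_card_quotient_mul_card_subgroup π'.ker,
      Nat.card_congr (QuotientGroup.quotientKerEquivOfSurjective π' hπ's).toEquiv]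
    exact Nat.mul_le_mul_left _ hk2
  have hcardK : Nat.card ↥subK = Nat.card HSGrp * 2 := by
    rw [Subgroup.card_eq_card_quotient_mul_card_subgroup ρ.ker,
      Nat.card_congr (QuotientGroup.quotientKerEquivOfSurjective ρ hρs).toEquiv, hρ2]
  have hcardM : Nat.card M = Nat.card HSGrp * 2 := by
    rw [Subgroup.card_eq_card_quotient_mul_card_subgroup σ.ker,
      Nat.card_congr (QuotientGroup.quotientKerEquivOfSurjective σ hs).toEquiv, hkerσ, h2]
  let p1 : commutator F →* ↥subK := (MonoidHom.fst _ M).comp (F.subtype.comp (commutator F).subtype)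
  let p2 : commutator F →* M := (MonoidHom.snd _ M).comp (F.subtype.comp (commutator F).subtype)
  have b1 := bijective_lift π' hπ's ρ p1 (fun k => (hρc k).mp) commutator_subK (fun x => rfl)
    (hcard.trans hcardK.ge)
  have b2 := bijective_lift π' hπ's σ p2 (fun k hk => hkerσ.le hk) hM (fun x => x.1.2.symm)
    (hcard.trans hcardM.ge)
  exact ⟨(MulEquiv.ofBijective p1 b1).symm.trans (MulEquiv.ofBijective p2 b2)⟩

theorem gi_mem_subK : gi ∈ subK := mul_mem mem_x mem_x

theorem gz_not_mem : gz ∉ subK := fun h => by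
  have hle : subH ≤ subK := by
    rw [subH, MonoidHom.map_closure, Subgroup.closure_le]
    rintro _ ⟨a, rfl | rfl | rfl, rfl⟩
    · exact mem_x
    · exact mem_y
    · exact h
  have h2 := index_kH
  rw [kH_eq, Subgroup.subgroupOf_eq_top.mpr hle, Subgroup.index_top] at h2
  exact absurd h2 (by norm_num)

/-- conjugation by `z` -/
noncomputable def theta : MulAut ↥subK where
  toFun k := ⟨gz * k.1 * gz⁻¹, z_conj_mem k.2⟩
  invFun k := ⟨gz * k.1 * gz⁻¹, z_conj_mem k.2⟩
  left_inv k := Subtype.ext (by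
    show gz * (gz * k.1 * gz⁻¹) * gz⁻¹ = k.1
    simp only [gz_inv, mul_assoc, zz', zz, mul_one])
  right_inv k := Subtype.ext (by
    show gz * (gz * k.1 * gz⁻¹) * gz⁻¹ = k.1
    simp only [gz_inv, mul_assoc, zz', zz, mul_one])
  map_mul' a b := Subtype.ext (by
    show gz * (a.1 * b.1) * gz⁻¹ = gz * a.1 * gz⁻¹ * (gz * b.1 * gz⁻¹)
    group)

theorem theta_apply (k : ↥subK) : (theta k : G) = gz * k * gz⁻¹ := rfl

theorem theta_theta (k : ↥subK) : theta (theta k) = k := theta.left_inv k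

theorem theta_not_conj (h : ↥subK) : theta ≠ MulAut.conj h := fun e => by
  refine gz_not_mem ?_
  have hc : ∀ a ∈ subK, Commute ((h : G)⁻¹ * gz) a := fun a ha => by
    have e1 : gz * a * gz⁻¹ = h * a * (h : G)⁻¹ :=
      congrArg Subtype.val (DFunLike.congr_fun e (⟨a, ha⟩ : ↥subK))
    show (h : G)⁻¹ * gz * a = a * ((h : G)⁻¹ * gz)
    calc (h : G)⁻¹ * gz * a = (h : G)⁻¹ * (gz * a * gz⁻¹) * gz := by group
      _ = (h : G)⁻¹ * (h * a * (h : G)⁻¹) * gz := by rw [e1]
      _ = _ := by group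
  have hm := centralises_subK (mul_mem (inv_mem (subK_le h.2)) gz_mem) hc
  simpa using mul_mem h.2 hm

section

variable {H : Type*} [Group H] (M : Subgroup H) [M.Normal]

/-- An element outside the subgroup acting as `z` does. -/
theorem exists_twin (hind : M.index = 2) (hout : Subgroup.centralizer (M : Set H) ≤ M)
    (ψ : ↥subK ≃* ↥M) :
    ∃ s : H, s ∉ M ∧ ∀ k : ↥subK, s * ψ k * s⁻¹ = (ψ (theta k) : H) := by
  obtain ⟨σ, hs, hc, -⟩ := exists_subKHom
  obtain ⟨c, hcM⟩ : ∃ c, c ∉ M := by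
    by_contra h
    push_neg at h
    rw [(Subgroup.eq_top_iff' M).mpr h, Subgroup.index_top] at hind
    exact absurd hind (by norm_num)
  let θ : MulAut ↥subK := ψ.trans ((MulAut.conjNormal c).trans ψ.symm)
  have hθ : ∀ k, c * ψ k * c⁻¹ = (ψ (θ k) : H) := fun k => by
    show _ = (ψ (ψ.symm (MulAut.conjNormal c (ψ k))) : H)
    rw [MulEquiv.apply_symm_apply, MulAut.conjNormal_apply]
  obtain ⟨η, hη⟩ := exists_induced hs hc θ
  obtain ⟨η', hη'⟩ := exists_induced hs hc theta
  have inner : ∀ (ζ : MulAut HSGrp) (φ : MulAut ↥subK), (∀ k, ζ (σ k) = σ (φ k)) →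
      ζ ∈ Cfsg.Inn HSGrp → ∃ h, φ = MulAut.conj h := by
    rintro ζ φ hζ ⟨b, rfl⟩
    obtain ⟨h, rfl⟩ := hs b
    refine ⟨h, MulEquiv.ext fun a => ?_⟩
    have := trivial_mod_center hc ((MulAut.conj h)⁻¹ * φ) (fun k => by
      rw [MulAut.mul_apply, MulAut.inv_def, MulAut.conj_symm_apply, map_mul, map_mul, map_inv,
        ← hζ, MulAut.conj_apply]
      group) a
    rw [MulAut.mul_apply, MulAut.inv_def, MulEquiv.symm_apply_eq] at this
    exact this
  have hn' : η' ∉ Cfsg.Inn HSGrp := fun h => by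
    obtain ⟨g, e⟩ := inner η' theta hη' h
    exact theta_not_conj g e
  have hn : η ∉ Cfsg.Inn HSGrp := fun h => by
    obtain ⟨g, e⟩ := inner η θ hη h
    refine hcM ?_
    have hmem : (ψ g : H)⁻¹ * c ∈ M := hout (Subgroup.mem_centralizer_iff.mpr fun m hm => by
      obtain ⟨k, hk⟩ := ψ.surjective ⟨m, hm⟩
      have e1 : c * m * c⁻¹ = ψ g * m * (ψ g : H)⁻¹ := by
        have e2 := hθ k
        rw [e, MulAut.conj_apply, map_mul, map_mul, map_inv, hk] at e2
        simpa using e2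
      calc m * ((ψ g : H)⁻¹ * c) = (ψ g : H)⁻¹ * (ψ g * m * (ψ g : H)⁻¹) * c := by group
        _ = (ψ g : H)⁻¹ * (c * m * c⁻¹) * c := by rw [e1]
        _ = _ := by group)
    simpa using mul_mem (ψ g).2 hmem
  obtain ⟨e⟩ := nonempty_equiv_spor
  obtain ⟨g, hg⟩ := inner (η * η'⁻¹) (θ * theta⁻¹) (fun k => by
    rw [MulAut.mul_apply, MulAut.mul_apply]
    obtain ⟨l, rfl⟩ := theta.surjective k
    rw [← hη' l, MulAut.inv_def, MulAut.inv_def, MulEquiv.symm_apply_apply,
      MulEquiv.symm_apply_apply, hη]) (out_two e Cfsg.Agent.S2072.result hn' hn)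
  refine ⟨(ψ g : H)⁻¹ * c, fun h => hcM ?_, fun k => ?_⟩
  · simpa using mul_mem (ψ g).2 h
  · have e1 : θ k = g * theta k * g⁻¹ := by
      have := DFunLike.congr_fun hg (theta k)
      rwa [MulAut.mul_apply, MulAut.inv_def, MulEquiv.symm_apply_apply, MulAut.conj_apply] at this
    calc (ψ g : H)⁻¹ * c * ψ k * ((ψ g : H)⁻¹ * c)⁻¹
        = (ψ g : H)⁻¹ * (c * ψ k * c⁻¹) * ψ g := by group
      _ = _ := by rw [hθ, e1, map_mul, map_mul, map_inv]; push_cast; group

/-- The index two extension is a twist of the group on 1408 points by a central element `e`. -/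
theorem exists_model [Finite H] (hind : M.index = 2) (hout : Subgroup.centralizer (M : Set H) ≤ M)
    (hcov : Cfsg.IsNonsplitDoubleCover ↥M ↥Cfsg.Spor.HS) {t : H} (ht : t ∈ Subgroup.center H)
    (ht1 : t ≠ 1) :
    ∃ (e : H) (f : PH → H), (e = 1 ∨ e = t) ∧ Function.Bijective f ∧ f iP = t ∧
      (∀ x, f x ∈ M ↔ x ∈ kP) ∧
      ∀ x y, (x ∈ kP ∨ y ∈ kP → f x * f y = f (x * y)) ∧
        (x ∉ kP → y ∉ kP → f x * f y = f (x * y) * e) := by
  classical
  obtain ⟨ψ⟩ := exists_subK_equiv hcov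
  obtain ⟨s, hs, hsk⟩ := exists_twin M hind hout ψ
  have htM : t ∈ M := hout (Subgroup.mem_centralizer_iff.mpr fun m _ => (Subgroup.mem_center_iff.mp ht m))
  have htc : (⟨t, htM⟩ : ↥M) ∈ Subgroup.center ↥M :=
    Subgroup.mem_center_iff.mpr fun m => Subtype.ext (Subgroup.mem_center_iff.mp ht m.1)
  have ht1' : (⟨t, htM⟩ : ↥M) ≠ 1 := fun h => ht1 (congrArg Subtype.val h)
  have hgi : (⟨gi, gi_mem_subK⟩ : ↥subK) ∈ Subgroup.center ↥subK := by
    rw [Subgroup.mem_center_iff]
    intro k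
    suffices h : (⟨k, subK_le k.2⟩ : ↥subH) * ⟨gi, gi_mem⟩ = ⟨gi, gi_mem⟩ * ⟨k, subK_le k.2⟩ from
      Subtype.ext (congrArg (fun a : ↥subH => a.1) h :)
    refine toP_injective ?_
    rw [map_mul, map_mul]
    refine Subtype.ext ?_
    rw [Subgroup.coe_mul, Subgroup.coe_mul, toP_gi]
    exact (x2_comm (toP _).2).symm
  have hψi : (ψ ⟨gi, gi_mem_subK⟩ : H) = t := by
    have hmem : ψ ⟨gi, gi_mem_subK⟩ ∈ Subgroup.center ↥M := by
      rw [Subgroup.mem_center_iff]
      intro m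
      obtain ⟨k, rfl⟩ := ψ.surjective m
      rw [← map_mul, ← map_mul, Subgroup.mem_center_iff.mp hgi k]
    rcases card_two_mem hcov.1 htc ht1' hmem with h | h
    · exact absurd (congrArg Subtype.val ((map_eq_one_iff _ ψ.injective).mp h)) gi_ne_one
    · rw [h]
  obtain ⟨hs2, e, he, hee⟩ : s * s ∈ M ∧ ∃ e, (e = 1 ∨ e = t) ∧ s * s = e := by
    have hmem : s * s ∈ M := Subgroup.mul_self_mem_of_index_two hind s
    refine ⟨hmem, s * s, ?_, rfl⟩
    have hc : (⟨s * s, hmem⟩ : ↥M) ∈ Subgroup.center ↥M := by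
      rw [Subgroup.mem_center_iff]
      intro m
      obtain ⟨k, rfl⟩ := ψ.surjective m
      refine Subtype.ext ?_
      show (ψ k : H) * (s * s) = s * s * ψ k
      have e1 : s * (s * ψ k * s⁻¹) * s⁻¹ = ψ k := by rw [hsk, hsk, theta_theta]
      calc (ψ k : H) * (s * s) = s * (s * ψ k * s⁻¹) * s⁻¹ * (s * s) := by rw [e1]
        _ = _ := by group
    rcases card_two_mem hcov.1 htc ht1' hc with h | h
    · exact Or.inl (congrArg Subtype.val h)
    · exact Or.inr (congrArg Subtype.val h)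
  let T₀ : ↥subH ≃* PH := MulEquiv.ofBijective toP ⟨toP_injective, toP_surjective⟩
  have hK : ∀ x, x ∈ kP ↔ (T₀.symm x).1 ∈ subK := fun x => by
    rw [← Subgroup.mem_subgroupOf, ← kH_eq]
    show _ ↔ toP (T₀.symm x) ∈ kP
    rw [show toP (T₀.symm x) = x from T₀.apply_symm_apply x]
  have hz : ∀ h : ↥subH, h.1 ∉ subK → h.1 * gz ∈ subK := fun h hh => by
    have h1 : h ∉ kH := by rwa [kH_eq, Subgroup.mem_subgroupOf]
    have h2 : (⟨gz, gz_mem⟩ : ↥subH) ∉ kH := by
      rw [kH_eq, Subgroup.mem_subgroupOf]; exact gz_not_mem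
    have := (Subgroup.mul_mem_iff_of_index_two index_kH).mpr (iff_of_false h1 h2)
    rwa [kH_eq, Subgroup.mem_subgroupOf] at this
  let f₀ : ↥subH → H := fun h => if hh : h.1 ∈ subK then ψ ⟨h.1, hh⟩ else ψ ⟨h.1 * gz, hz h hh⟩ * s
  have f_in : ∀ (h : ↥subH) (k : ↥subK), h.1 = k.1 → f₀ h = ψ k := fun h k e => by
    have hh : h.1 ∈ subK := e ▸ k.2
    simp only [f₀, dif_pos hh]
    rw [show (⟨h.1, hh⟩ : ↥subK) = k from Subtype.ext e]
  have f_out : ∀ (h : ↥subH) (k : ↥subK), h.1 = k.1 * gz → f₀ h = ψ k * s := fun h k e => by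
    have hh : h.1 ∉ subK := fun hh => gz_not_mem (by
      simpa [e] using mul_mem (inv_mem k.2) hh)
    simp only [f₀, dif_neg hh]
    rw [show (⟨h.1 * gz, hz h hh⟩ : ↥subK) = k from
      Subtype.ext (show h.1 * gz = k.1 by rw [e, mul_assoc, zz, mul_one])]
  have split : ∀ h : ↥subH, (∃ k : ↥subK, h.1 = k.1) ∨ ∃ k : ↥subK, h.1 = k.1 * gz := fun h => by
    by_cases hh : h.1 ∈ subK
    · exact Or.inl ⟨⟨_, hh⟩, rfl⟩
    · exact Or.inr ⟨⟨_, hz h hh⟩, by rw [mul_assoc, zz, mul_one]⟩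
  have hswap : ∀ l : ↥subK, gz * l.1 = (theta l).1 * gz := fun l => by
    rw [theta_apply, inv_mul_cancel_right]
  have hsw : ∀ l : ↥subK, s * ψ l = ψ (theta l) * s := fun l => by
    rw [← hsk, inv_mul_cancel_right]
  have hin : ∀ a b : ↥subH, a.1 ∈ subK ∨ b.1 ∈ subK → f₀ a * f₀ b = f₀ (a * b) := by
    intro a b hab
    rcases split a with ⟨k, hk⟩ | ⟨k, hk⟩ <;> rcases split b with ⟨l, hl⟩ | ⟨l, hl⟩
    · rw [f_in a k hk, f_in b l hl, f_in (a * b) (k * l) (by simp [hk, hl]), map_mul]; rfl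
    · rw [f_in a k hk, f_out b l hl,
        f_out (a * b) (k * l) (by simp [hk, hl, mul_assoc]), map_mul, ← mul_assoc]; rfl
    · rw [f_out a k hk, f_in b l hl, f_out (a * b) (k * theta l)
        (by rw [Subgroup.coe_mul, hk, hl, mul_assoc, hswap, ← mul_assoc]; rfl), map_mul, mul_assoc,
        hsw, ← mul_assoc]
      rfl
    · exfalso
      rcases hab with h | h
      · exact gz_not_mem (by simpa [hk] using mul_mem (inv_mem k.2) h)
      · exact gz_not_mem (by simpa [hl] using mul_mem (inv_mem l.2) h)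
  have hout' : ∀ a b : ↥subH, a.1 ∉ subK → b.1 ∉ subK → f₀ a * f₀ b = f₀ (a * b) * e := by
    intro a b ha hb
    obtain ⟨k, hk⟩ : ∃ k : ↥subK, a.1 = k.1 * gz := (split a).resolve_left fun ⟨k, hk⟩ =>
      ha (hk ▸ k.2)
    obtain ⟨l, hl⟩ : ∃ l : ↥subK, b.1 = l.1 * gz := (split b).resolve_left fun ⟨l, hl⟩ =>
      hb (hl ▸ l.2)
    rw [f_out a k hk, f_out b l hl, f_in (a * b) (k * theta l) (by
      rw [Subgroup.coe_mul, Subgroup.coe_mul, hk, hl, mul_assoc, ← mul_assoc gz, hswap,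
        mul_assoc _ gz, zz, mul_one]), map_mul, ← hee, mul_assoc, ← mul_assoc s, hsw,
      mul_assoc _ s, ← mul_assoc, ← mul_assoc]
    push_cast
    group
  have hmem : ∀ a : ↥subH, f₀ a ∈ M ↔ a.1 ∈ subK := fun a => by
    rcases split a with ⟨k, hk⟩ | ⟨k, hk⟩
    · rw [f_in a k hk, hk]
      exact iff_of_true (ψ k).2 k.2
    · rw [f_out a k hk, hk]
      refine iff_of_false (fun h => hs ?_) (fun h => gz_not_mem ?_)
      · simpa using mul_mem (inv_mem (ψ k).2) h
      · simpa using mul_mem (inv_mem k.2) h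
  have hbij : Function.Bijective f₀ := by
    refine ⟨fun a b h => ?_, fun x => ?_⟩
    · have hiff := (hmem a).symm.trans ((h ▸ Iff.rfl : f₀ a ∈ M ↔ f₀ b ∈ M).trans (hmem b))
      rcases split a with ⟨k, hk⟩ | ⟨k, hk⟩ <;> rcases split b with ⟨l, hl⟩ | ⟨l, hl⟩
      · rw [f_in a k hk, f_in b l hl] at h
        exact Subtype.ext (by rw [hk, hl, ψ.injective (Subtype.ext h)])
      · exact absurd (hiff.mp (hk ▸ k.2)) fun hb => gz_not_mem (by
          simpa [hl] using mul_mem (inv_mem l.2) hb)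
      · exact absurd (hiff.mpr (hl ▸ l.2)) fun ha => gz_not_mem (by
          simpa [hk] using mul_mem (inv_mem k.2) ha)
      · rw [f_out a k hk, f_out b l hl] at h
        exact Subtype.ext (by rw [hk, hl, ψ.injective (Subtype.ext (mul_right_cancel h))])
    · by_cases hx : x ∈ M
      · obtain ⟨k, hk⟩ := ψ.surjective ⟨x, hx⟩
        exact ⟨⟨k, subK_le k.2⟩, by rw [f_in _ k rfl, hk]⟩
      · obtain ⟨k, hk⟩ := ψ.surjective ⟨x * s⁻¹, (Subgroup.mul_mem_iff_of_index_two hind).mpr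
          (iff_of_false hx (by simpa using hs))⟩
        exact ⟨⟨k.1 * gz, mul_mem (subK_le k.2) gz_mem⟩, by
          rw [f_out _ k rfl, hk]; exact inv_mul_cancel_right x s⟩
  refine ⟨e, f₀ ∘ T₀.symm, he, hbij.comp T₀.symm.bijective, ?_,
    fun x => (hmem _).trans (hK x).symm, fun x y => ⟨fun h => ?_, fun hx hy => ?_⟩⟩
  · have : T₀.symm iP = ⟨gi, gi_mem⟩ := by
      rw [MulEquiv.symm_apply_eq]
      exact Subtype.ext (by rw [iP_val, ← toP_gi]; rfl)
    rw [Function.comp_apply, this, f_in _ ⟨gi, gi_mem_subK⟩ rfl, hψi]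
  · simp only [Function.comp_apply, map_mul]
    exact hin _ _ (h.imp (hK x).mp (hK y).mp)
  · simp only [Function.comp_apply, map_mul]
    exact hout' _ _ (fun h => hx ((hK x).mpr h)) fun h => hy ((hK y).mpr h)

end

end CfsgLib.HNType
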