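import Cfsg.Agent.Lib.HNType.FiveDefs
import Cfsg.Agent.Lib.HNType.FiveCheckP2

/-!
The checks on the cases of the first branch hold: part 3.
-/

set_option autoImplicit false
set_option maxRecDepth 100000
set_option maxHeartbeats 4000000
set_option Elab.async false

namespace CfsgLib.HNType.Five

open CfsgLib.CosetEnum CfsgLib.DCoset

theorem pCases_ok_6 : ((pCases.drop 12).take 2).all pCaseOK = true := by decide +kernel
theorem pCases_ok_7 : ((pCases.drop 14).take 2).all pCaseOK = true := by decide +kernel

end CfsgLib.HNType.Five
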