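import Cfsg.Agent.Lib.HNType.FiveDefs
import Cfsg.Agent.Lib.HNType.FiveCheckP3

/-!
The checks on the cases of the first branch hold: part 4.
-/

set_option autoImplicit false
set_option maxRecDepth 100000
set_option maxHeartbeats 4000000
set_option Elab.async false

namespace CfsgLib.HNType.Five

open CfsgLib.CosetEnum CfsgLib.DCoset

theorem pCases_ok_8 : ((pCases.drop 16).take 2).all pCaseOK = true := by decide +kernel
theorem pCases_ok_9 : ((pCases.drop 18).take 2).all pCaseOK = true := by decide +kernel

end CfsgLib.HNType.Five
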