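import Cfsg.Agent.Lib.HNType.FiveDefs
import Cfsg.Agent.Lib.HNType.FiveCheckQ1

/-!
The checks on the cases of the second branch hold: part 2.
-/

set_option autoImplicit false
set_option maxRecDepth 100000
set_option maxHeartbeats 4000000
set_option Elab.async false

namespace CfsgLib.HNType.Five

open CfsgLib.CosetEnum CfsgLib.DCoset

theorem qCases_ok_4 : ((qCases.drop 8).take 2).all qCaseOK = true := by decide +kernel
theorem qCases_ok_5 : ((qCases.drop 10).take 2).all qCaseOK = true := by decide +kernel

end CfsgLib.HNType.Five
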