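import Cfsg.Agent.Lib.HNType.SylDefs

/-!
The checks hold.
-/

set_option autoImplicit false
set_option maxRecDepth 100000
set_option maxHeartbeats 4000000

namespace CfsgLib.HNType

open CfsgLib.CosetEnum CfsgLib.DCoset

theorem tab_ok : tabOK = true := by decide +kernel
theorem el_ok : Cert.allBelow 2048 elOK = true := by decide +kernel
theorem sort_ok : Cert.allBelow 2047 sortOK = true := by decide +kernel
theorem class_ok : Cert.allBelow 2048 classOK = true := by decide +kernel
theorem conj_ok : sylConj.all conjOK = true := by decide +kernel
theorem cent_ok : centOK = true := by decide +kernel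

end CfsgLib.HNType
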