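import Cfsg.Agent.Lib.HN.Order
import Cfsg.Agent.Lib.HNType.SylCheck
import Cfsg.Agent.Lib.HNType.FiveData

/-!
The element of order five in a group of HN type: the checks.
-/

set_option autoImplicit false

namespace CfsgLib.HNType.Five

open CfsgLib.CosetEnum CfsgLib.DCoset CfsgLib.HN CfsgLib.HNType

/-- image of a point under atom `j` -/
noncomputable def fApp (j x : ℕ) : ℕ := pget ((fiveTab.getD (j / 8) []).getD (j % 8) 0) x

/-- image of a point under the canonical element of order three -/
noncomputable def qApp (x : ℕ) : ℕ := pget qTab x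

/-- image of a point under a word in the atoms -/
noncomputable def fWord : List ℕ → ℕ → ℕ
  | [], x => x
  | j :: l, x => strict (fApp j x) fun y => fWord l y

/-- two words give the same element -/
noncomputable def eqW (l m : List ℕ) : Bool :=
  (List.range 6).all fun b => Nat.beq (fWord l (basePt b)) (fWord m (basePt b))

/-- two words give commuting elements -/
noncomputable def commW (l m : List ℕ) : Bool := eqW (l ++ m) (m ++ l)

/-- a power of a word -/
def powW (l : List ℕ) (k : ℕ) : List ℕ := (List.replicate k l).flatten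

/-- the inverse of a word in the letters -/
def winv (w : List ℕ) : List ℕ :=
  w.reverse.map fun c => bif c == 0 then 1 else bif c == 1 then 0 else bif c == 2 then 3 else
    bif c == 3 then 2 else c

/-- a word in the two generators of U -/
def blk (w : List ℕ) : List ℕ := w.flatMap fun c => bif c == 0 then [2] else [1, 2, 0]

/-- element `n` of the centraliser of `a` -/
noncomputable def yW (n : ℕ) : List ℕ := (sylWord (n / 15)).map (12 + ·) ++ [16 + n % 15]

/-- the conjugating word of element `n` of the class of `a` -/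
def clsW (n : ℕ) : List ℕ := decPath clsLen ((clsPath >>> (64 * n)) % 2 ^ 64)

/-- element `n` of the class of `a` -/
def hW (n : ℕ) : List ℕ := winv (clsW n) ++ 5 :: clsW n

/-- a word in `e` and `b` with another element in place of `b` -/
def substB (w v : List ℕ) : List ℕ := w.flatMap fun j => bif j == 6 then v else [j]

/-- a word given by letters -/
def lets (w : List ℕ) : Bool := w.all fun c => Nat.blt c 5

/-- a word is a power of another one -/
noncomputable def isPow (s p : List ℕ) : Bool := (List.range 5).any fun j => eqW p (powW s j)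

/-- the tables of the atoms -/
noncomputable def tabOK : Bool :=
  Nat.beq fiveW.length 47 &&
  ((List.range 47).all fun j => lets (fiveW.getD j []) &&
    Cert.allBelow 1408 fun x => Nat.beq (fApp j x) (space.C.run x (fiveW.getD j []))) &&
  (qStarW.all fun j => Nat.blt j 47) &&
  Cert.allBelow 1408 fun x => Nat.beq (qApp x) (fWord qStarW x)

/-- the label of the orbit of a point -/
def orbLab (x : ℕ) : ℕ := (orbTab >>> (8 * x)) % 256

/-- the Sylow subgroup and the representatives of its cosets -/
noncomputable def cosetOK : Bool :=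
  ((List.range 4).all fun j =>
    (fiveW.getD (12 + j) [] == winv cW ++ sylW.getD j [] ++ cW) && lets (sylW.getD j []) &&
      commW [12 + j] [5] && Cert.allBelow 1408 fun x => Nat.beq (orbLab (fApp (12 + j) x)) (orbLab x)) &&
  lets cW &&
  ((List.range 15).all fun j => commW [16 + j] [5] && eqW [16 + j, 31 + j] [] &&
    (List.range 15).all fun i => !Nat.blt i j ||
      sepPts.any fun e => Nat.beq e.1 i && Nat.beq e.2.1 j && Nat.blt e.2.2 1408 &&
        !Nat.beq (orbLab (fWord [16 + i, 31 + j] e.2.2)) (orbLab e.2.2))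

/-- image of base point `b` under element `n` of the class of `a` -/
def clsKey (n b : ℕ) : ℕ := (clsKeys >>> (72 * n + 12 * b)) % 4096

/-- the six images as one number -/
def clsNum (n : ℕ) : ℕ :=
  clsKey n 0 + 4096 * (clsKey n 1 + 4096 * (clsKey n 2 + 4096 * (clsKey n 3 + 4096 * (clsKey n 4 + 4096 * clsKey n 5))))

/-- element `n` of the class -/
noncomputable def clsOK (n : ℕ) : Bool := strict n fun n =>
  lets (clsW n) && (List.range 6).all fun b => Nat.beq (fWord (hW n) (basePt b)) (clsKey n b)

/-- the order of the class -/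
noncomputable def clsSortOK (n : ℕ) : Bool := strict n fun n => Nat.blt (clsNum n) (clsNum (n + 1))

/-- the involutions of the centraliser of `a` -/
noncomputable def invOK (n : ℕ) : Bool := strict n fun n =>
  !eqW (yW n ++ yW n) [] || invList.contains n

/-- the square roots of `a` -/
noncomputable def sqOK (n : ℕ) : Bool := strict n fun n =>
  !eqW (yW n ++ yW n) [5] || sqList.contains n

/-- the centraliser of the canonical element of order three -/
noncomputable def lOK (n : ℕ) : Bool := strict n fun n =>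
  !((List.range 6).all fun b =>
    Nat.beq (fWord (yW n) (qApp (basePt b))) (qApp (fWord (yW n) (basePt b)))) || lList.contains n

/-- elements of order five inverted by `a` and commuting with `e` -/
noncomputable def pOK (n : ℕ) : Bool := strict n fun n =>
  !commW (5 :: hW n) [8] || eqW (5 :: hW n) [] || !eqW (powW (5 :: hW n) 5) [] || pList.contains n

/-- the class elements commuting with `z` -/
noncomputable def zcOK (n : ℕ) : Bool := strict n fun n => !commW (hW n) [4] || zcList.contains n

/-- the possible images of `b` -/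
noncomputable def candOK : Bool := invList.all fun n =>
  Nat.blt n 30720 &&
  (!eqW (substB aWord (yW n)) [0, 0] || !eqW (powW (8 :: yW n) 6) [] ||
    (pCases.any fun e => Nat.beq e.1 n) || qCases.any fun e => Nat.beq e.1 n)

/-- what an element commuting with the image of the centraliser of `z` is -/
noncomputable def kindOK (g : List ℕ) (kind j : ℕ) : Bool :=
  (Nat.beq kind 0 && eqW g []) || (Nat.beq kind 1 && eqW g [0, 0]) || (Nat.beq kind 2 && eqW g [5]) ||
  (Nat.beq kind 3 && eqW g [5, 0, 0]) ||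
  (Nat.beq kind 4 && Nat.blt j 5775 && eqW g (hW j)) ||
  (Nat.beq kind 5 && Nat.blt j 5775 && eqW (g ++ [0, 0]) (hW j))

/-- the images of `z` -/
noncomputable def zImgOK (v : List ℕ) (zl : List (ℕ × ℕ × ℕ)) : Bool :=
  invList.all fun k => !(fWords.all fun f => commW (yW k) (substB f v)) ||
    zl.any fun e => Nat.beq e.1 k && kindOK (yW k) e.2.1 e.2.2

/-- a case of the first branch -/
noncomputable def pCaseOK (e : ℕ × List ℕ × List ℕ × ℕ × ℕ × ℕ × List (ℕ × ℕ × ℕ) × List (ℕ × ℕ)) :
    Bool :=
  let v := yW e.1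
  let cv := e.2.1
  let cd := e.2.2.1
  let s := 5 :: hW e.2.2.2.1
  let t1 := 5 :: hW e.2.2.2.2.1
  let t2 := 5 :: hW e.2.2.2.2.2.1
  let zl := e.2.2.2.2.2.2.1
  let ks := e.2.2.2.2.2.2.2
  let qv := substB qWord v
  Nat.blt e.1 30720 && lets cv && lets cd && Nat.blt e.2.2.2.1 5775 && Nat.blt e.2.2.2.2.1 5775 &&
  Nat.blt e.2.2.2.2.2.1 5775 &&
  eqW v (winv cv ++ 4 :: cv) && eqW (v ++ [5]) (winv cd ++ yW d0Idx ++ cd) &&
  commW s [8] && commW s v && eqW (powW s 5) [] && !eqW s [] && eqW (5 :: s ++ 5 :: s) [] &&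
  (pList.all fun m => !commW (5 :: hW m) v || isPow s (5 :: hW m)) &&
  (zcList.all fun m =>
    let p := 5 :: (winv cv ++ hW m ++ cv)
    !commW p v || !commW p qv || !eqW (powW p 5) [] || isPow t1 p || isPow t2 p) &&
  zImgOK v zl &&
  zl.all fun g => !Nat.beq g.2.1 4 ||
    ks.any fun k => Nat.beq k.1 g.1 && Nat.blt k.2 5 && !Nat.beq k.2 0 &&
      eqW (powW (yW g.1 ++ powW s k.2) 3) [] &&
      sqList.all fun x =>
        !eqW (powW s k.2 ++ yW x) (yW x ++ (powW s k.2 ++ powW s k.2)) ||
          !eqW (powW (powW (yW g.1 ++ yW x) 3 ++ powW s k.2) 3) []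

/-- membership in the group of order 48 -/
noncomputable def inE (v gq h : List ℕ) : Bool :=
  [[], [0, 0], v, 0 :: 0 :: v, [5], [5, 0, 0], 5 :: v, 5 :: 0 :: 0 :: v].any fun u =>
    (List.range 6).any fun j => eqW h (u ++ powW gq j)

/-- a case of the second branch, for one image of `z` -/
noncomputable def qSubOK (v : List ℕ) (e : ℕ × List ℕ × ℕ × ℕ × ℕ × List (ℕ × List ℕ)) : Bool :=
  let g := yW e.1
  let c := yW e.2.2.1 ++ e.2.1
  let c' := winv e.2.1 ++ yW e.2.2.2.1
  let qv := substB qWord v
  let gq := g ++ qv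
  let el := fun m => c' ++ yW m ++ c
  let wit := e.2.2.2.2.2
  Nat.blt e.1 30720 && lets e.2.1 && Nat.blt e.2.2.1 30720 && Nat.blt e.2.2.2.1 30720 &&
  eqW (c ++ c') [] && eqW (c ++ g) ([5, 0, 0] ++ c) && eqW (qStarW ++ c) (c ++ qv) &&
  eqW (powW gq 6) [] &&
  (lList.all fun m =>
    let h := el m
    (commW h v || eqW (h ++ v) (v ++ g ++ h)) &&
    ((List.range 6).all fun j => !eqW (h ++ [5]) (5 :: powW gq j ++ h) || inE v gq h) &&
    (!eqW (h ++ h) [] || inE v gq h ||
      wit.any fun w => Nat.beq w.1 m && lets w.2 && eqW h (winv w.2 ++ 4 :: w.2))) &&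
  lList.contains e.2.2.2.2.1 && !commW (el e.2.2.2.2.1) v &&
  wit.any fun w => lList.contains w.1 && eqW (el w.1 ++ el w.1) [] && !inE v gq (el w.1)

/-- a case of the second branch -/
noncomputable def qCaseOK
    (e : ℕ × List ℕ × List ℕ × List (ℕ × ℕ × ℕ) × List (ℕ × List ℕ × ℕ × ℕ × ℕ × List (ℕ × List ℕ))) :
    Bool :=
  let v := yW e.1
  let dv := e.2.1
  let cva := e.2.2.1
  let zl := e.2.2.2.1
  let qq := e.2.2.2.2
  Nat.blt e.1 30720 && lets dv && lets cva &&
  eqW v (winv dv ++ yW d0Idx ++ dv) && eqW (v ++ [5]) (winv cva ++ 4 :: cva) &&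
  zImgOK v zl &&
  (zl.all fun g => !Nat.beq g.2.1 5 || qq.any fun k => Nat.beq k.1 g.1) && qq.all (qSubOK v)

/-- the facts on the chosen elements -/
noncomputable def baseOK : Bool :=
  (fiveW.getD 5 [] == blk aBlocks) && (fiveW.getD 6 [] == blk bBlocks) &&
  (fiveW.getD 7 [] == blk qBlocks) && (fiveW.getD 8 [] == blk eBlocks) &&
  (fiveW.getD 9 [] == blk rhoBlocks) &&
  (fiveW.getD 11 [] == [2, 2, 2, 0, 2, 0, 2, 0] ++ winv [2, 2, 2, 0, 2, 0, 2]) &&
  eqW [5, 5] [] && eqW [6, 6] [] && commW [5] [6] && commW [5] [7] && commW [6] [7] &&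
  commW [4] [7] && commW [4] [5] && commW [4] [6] && commW [5] [8] && eqW (powW [8] 5) [] &&
  !eqW [8] [] && !eqW [5] [] && !eqW [5] [0, 0] && !eqW [6] [] && !eqW [6] [5] &&
  !eqW [7] [] && eqW (powW [7] 3) [] &&
  (aWord.all fun j => Nat.beq j 8 || Nat.beq j 6) && eqW aWord [5] &&
  (qWord.all fun j => Nat.beq j 8 || Nat.beq j 6) && eqW qWord [7] &&
  eqW (powW [8, 6] 6) [] && eqW [9, 10] [] && eqW [5, 9] [9, 6] && eqW [6, 9] [9, 5, 6] &&
  commW [9] [7] && commW [9] [4] &&
  (fWords.all fun f => (f.all fun j => Nat.beq j 8 || Nat.beq j 6) && commW f [4]) &&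
  (genU.all fun w => w.all fun j => Nat.beq j 8 || Nat.beq j 6 || Nat.beq j 9 || Nat.beq j 10) &&
  eqW (genU.getD 0 []) [2] && eqW (genU.getD 1 []) [1, 2, 0] &&
  commW [11] [5] && eqW [11, 11] [0, 0] &&
  eqW (blk wBlocks) ([2, 2, 2, 0, 2, 0, 2] ++ [0, 0]) &&
  eqW (powW [4, 11] 3) (winv [2, 1, 2, 0] ++ 4 :: [2, 1, 2, 0]) &&
  lets zaW && lets ztW &&
  eqW [4, 5] (winv zaW ++ yW d0Idx ++ zaW) && eqW [4, 0, 0] (winv ztW ++ 4 :: ztW) &&
  commW [46] [4] && commW [46] [7] &&
  [[], [5], [6], [5, 6]].all fun u => (List.range 6).all fun j =>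
    !eqW [46, 5] (u ++ powW [4, 7] j ++ [46])

end CfsgLib.HNType.Five
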