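import Cfsg.Agent.Lib.Invol.Dihedral
import Cfsg.Agent.Lib.ZStar.Main
import Cfsg.Agent.Lib.Transfer.Basic

/-!
A configuration of involutions that no finite group has: a four-group whose three centralisers
coincide, an involution with two kinds of conjugates inside, and an involution of the other kind.
-/

set_option autoImplicit false

namespace CfsgLib.HNType

/-- In a finite group let `u₁, u₂, u₃ = u₁ u₂` be three involutions with the same centraliser `D`,
`σ ∈ D` an involution of both kinds `P`, `Q`, such that every involution of `D` outside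
`⟨u₁, u₂⟩` of kind `P` lies in `σ⟨u₁, u₂⟩`, the `uᵢ` are not of kind `Q`, `σ` is self-centralising
in `D` up to the four-group, and some involution of `D` lies outside both cosets. Then some
centralising element of `σ` moves every `uᵢ` inside the four-group. -/
theorem no_two_kinds {H : Type*} [Group H] [Finite H] {σ u1 u2 : H} (P Q : H → Prop)
    (hP : ∀ g x, P x → P (g * x * g⁻¹)) (hQ : ∀ g x, Q x → Q (g * x * g⁻¹))
    (hσ : σ * σ = 1) (hσ1 : σ ≠ 1) (hσP : P σ) (h1 : u1 * u1 = 1) (h2 : u2 * u2 = 1)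
    (h12 : Commute u1 u2) (hu1 : u1 ≠ 1) (hu2 : u2 ≠ 1) (hu3 : u1 ≠ u2)
    (hP' : ∀ u, u = u1 ∨ u = u2 ∨ u = u1 * u2 → P u ∧ ¬ Q u)
    (hC : ∀ u, u = u1 ∨ u = u2 ∨ u = u1 * u2 → ∀ g, (Commute g u ↔ Commute g u1))
    (hσD : Commute σ u1)
    (hσQ' : ∀ u, (u = 1 ∨ u = u1 ∨ u = u2 ∨ u = u1 * u2) → Q (σ * u))
    (hPD : ∀ h, Commute h u1 → h * h = 1 → P h →
      (∃ u, (u = 1 ∨ u = u1 ∨ u = u2 ∨ u = u1 * u2) ∧ (h = u ∨ h = σ * u)))
    (hσC : ∀ h, Commute h u1 → Commute h σ →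
      (∃ u, (u = 1 ∨ u = u1 ∨ u = u2 ∨ u = u1 * u2) ∧ (h = u ∨ h = σ * u)))
    (hk : ∃ k, Commute k u1 ∧ k * k = 1 ∧
      ¬ (∃ u, (u = 1 ∨ u = u1 ∨ u = u2 ∨ u = u1 * u2) ∧ (k = u ∨ k = σ * u)))
    (hl : ∀ u, u = u1 ∨ u = u2 ∨ u = u1 * u2 → ∃ l, Commute l σ ∧
      ¬ (l * u * l⁻¹ = 1 ∨ l * u * l⁻¹ = u1 ∨ l * u * l⁻¹ = u2 ∨ l * u * l⁻¹ = u1 * u2)) :
    False := by
  classical
  have hσQ : Q σ := by simpa using hσQ' 1 (Or.inl rfl)
  have hU : ∀ u, (u = 1 ∨ u = u1 ∨ u = u2 ∨ u = u1 * u2) →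
      u * u = 1 ∧ ∀ g, Commute g u1 → Commute g u := by
    rintro u (rfl | h)
    · exact ⟨one_mul 1, fun g _ => Commute.one_right g⟩
    · refine ⟨?_, fun g hg => (hC u h g).mpr hg⟩
      rcases h with rfl | rfl | rfl
      · exact h1
      · exact h2
      · rw [show u1 * u2 * (u1 * u2) = u1 * (u2 * u1) * u2 by group, ← h12.eq,
          show u1 * (u1 * u2) * u2 = (u1 * u1) * (u2 * u2) by group, h1, h2, one_mul]
  have h3 : u1 * u2 ≠ 1 := fun h => hu3 (by
    calc u1 = u1 * (u2 * u2) := by rw [h2, mul_one]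
      _ = u2 := by rw [← mul_assoc, h, one_mul])
  have hne : ∀ u, u = u1 ∨ u = u2 ∨ u = u1 * u2 → u ≠ 1 := by
    rintro u (rfl | rfl | rfl) <;> assumption
  have hσU : ∀ u, (u = 1 ∨ u = u1 ∨ u = u2 ∨ u = u1 * u2) → σ * u * (σ * u) = 1 := fun u hu => by
    rw [show σ * u * (σ * u) = σ * (u * σ) * u by group, ← ((hU u hu).2 σ hσD).eq,
      show σ * (σ * u) * u = σ * σ * (u * u) by group, hσ, (hU u hu).1, one_mul]
  -- `D` permutes the coset of `σ`
  have horb : ∀ g, Commute g u1 →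
      ∃ u, (u = 1 ∨ u = u1 ∨ u = u2 ∨ u = u1 * u2) ∧ g * σ * g⁻¹ = σ * u := by
    intro g hg
    obtain ⟨u, hu, h⟩ := hPD (g * σ * g⁻¹)
      (((hg.mul_left hσD)).mul_left hg.inv_left)
      (by rw [show g * σ * g⁻¹ * (g * σ * g⁻¹) = g * (σ * σ) * g⁻¹ by group, hσ]; group) (hP g σ hσP)
    rcases h with h | h
    · exfalso
      rcases hu with rfl | hu
      · exact hσ1 (conj_eq_one_iff.mp h)
      · refine (hP' u hu).2 ?_
        rw [← h]
        exact hQ g σ hσQ
    · exact ⟨u, hu, h⟩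
  -- centralisers of involutions of `D` outside both cosets
  have hcj : ∀ j, Commute j u1 → j * j = 1 →
      ¬ (∃ u, (u = 1 ∨ u = u1 ∨ u = u2 ∨ u = u1 * u2) ∧ (j = u ∨ j = σ * u)) →
      ∀ g, Commute g j → Commute g u1 := by
    intro j hj hjj hjE g0 hg0
    obtain ⟨w, hw, hjw⟩ := horb j hj
    have hw1 : w ≠ 1 := by
      intro h
      rw [h, mul_one, mul_inv_eq_iff_eq_mul] at hjw
      exact hjE (hσC j hj hjw)
    have hw' : w = u1 ∨ w = u2 ∨ w = u1 * u2 := hw.resolve_left hw1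
    let S : Subgroup H := Subgroup.centralizer ({j} : Set H)
    have hmem : ∀ u, (u = 1 ∨ u = u1 ∨ u = u2 ∨ u = u1 * u2) → u ∈ S := fun u hu =>
      Subgroup.mem_centralizer_singleton_iff.mpr ((hU u hu).2 j hj).symm.eq
    have hiso : ∀ u, (u = u1 ∨ u = u2 ∨ u = u1 * u2) → ∀ g : H, g ∈ S →
        Commute u (g * u * g⁻¹) → g * u * g⁻¹ = u := by
      intro u hu g hg hcomm
      have hgu : Commute (g * u * g⁻¹) u1 := (hC u hu _).mp hcomm.symm
      have huu : g * u * g⁻¹ * (g * u * g⁻¹) = 1 := by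
        rw [show g * u * g⁻¹ * (g * u * g⁻¹) = g * (u * u) * g⁻¹ by group, (hU u (Or.inr hu)).1]
        group
      have hv : g * u * g⁻¹ = u1 ∨ g * u * g⁻¹ = u2 ∨ g * u * g⁻¹ = u1 * u2 := by
        obtain ⟨v, hv, h⟩ := hPD _ hgu huu (hP g u (hP' u hu).1)
        rcases h with h | h
        · rw [h]
          refine hv.resolve_left fun h0 => hne u hu ?_
          rw [h0] at h
          exact conj_eq_one_iff.mp h
        · exfalso
          refine (hP' u hu).2 ?_
          have hmv : Q (σ * v) := hσQ' v hv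
          rw [show u = g⁻¹ * (g * u * g⁻¹) * g⁻¹⁻¹ by group, h]
          exact hQ g⁻¹ _ hmv
      -- `g` normalises `D`
      have hgD : ∀ x, Commute x u1 → Commute (g * x * g⁻¹) u1 := fun x hx => by
        refine (hC _ hv _).mp ?_
        have hxu : Commute x u := (hU u (Or.inr hu)).2 x hx
        show g * x * g⁻¹ * (g * u * g⁻¹) = g * u * g⁻¹ * (g * x * g⁻¹)
        rw [show g * x * g⁻¹ * (g * u * g⁻¹) = g * (x * u) * g⁻¹ by group, hxu.eq]; group
      obtain ⟨v, hv', hgv⟩ : ∃ v, (v = 1 ∨ v = u1 ∨ v = u2 ∨ v = u1 * u2) ∧ g * σ * g⁻¹ = σ * v := by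
        obtain ⟨v, hv', h⟩ := hPD _ (hgD σ hσD)
          (by rw [show g * σ * g⁻¹ * (g * σ * g⁻¹) = g * (σ * σ) * g⁻¹ by group, hσ]; group) (hP g σ hσP)
        rcases h with h | h
        · exfalso
          rcases hv' with rfl | hv'
          · exact hσ1 (conj_eq_one_iff.mp h)
          · refine (hP' v hv').2 ?_
            rw [← h]; exact hQ g σ hσQ
        · exact ⟨v, hv', h⟩
      have hgj : g * j * g⁻¹ = j := by
        rw [Subgroup.mem_centralizer_singleton_iff.mp hg, mul_inv_cancel_right]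
      have hjv : j * v * j⁻¹ = v := by
        rw [((hU v hv').2 j hj).eq, mul_inv_cancel_right]
      have hgw : g * w * g⁻¹ = w := by
        have e1 : g * (σ⁻¹ * (j * σ * j⁻¹)) * g⁻¹ =
            (g * σ * g⁻¹)⁻¹ * ((g * j * g⁻¹) * (g * σ * g⁻¹) * (g * j * g⁻¹)⁻¹) := by group
        rw [hjw, inv_mul_cancel_left, hgj, hgv] at e1
        rw [e1, show j * (σ * v) * j⁻¹ = j * σ * j⁻¹ * (j * v * j⁻¹) by group, hjw, hjv]
        rw [show (σ * v)⁻¹ * (σ * w * v) = v⁻¹ * (w * v) by group]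
        rw [((hU v hv').2 w ((hU w hw).2 u1 (Commute.refl u1)).symm).eq, inv_mul_cancel_left]
      have hgc : Commute g w := by
        rw [mul_inv_eq_iff_eq_mul] at hgw; exact hgw
      have := (hU u (Or.inr hu)).2 g ((hC w hw' g).mp hgc)
      rw [this.eq, mul_inv_cancel_right]
    -- each involution of the four-group is central modulo the odd core of `S`
    have hcore : ∀ u, (hu : u = u1 ∨ u = u2 ∨ u = u1 * u2) →
        CfsgLib.ZStar.CommutatorsInCore (⟨u, hmem u (Or.inr hu)⟩ : ↥S) := fun u hu => by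
      refine CfsgLib.ZStar.commutatorsInCore_of_isolated ⟨?_, fun g hg => Subtype.ext ?_⟩
      · exact CfsgLib.Invol.orderOf_two_of_mul_self (Subtype.ext (hU u (Or.inr hu)).1)
          fun h => hne u hu (congrArg Subtype.val h)
      · exact hiso u hu g.1 g.2 (congrArg Subtype.val hg.eq)
    let O := Cfsg.pPrimeCore 2 ↥S
    haveI hOn : O.Normal := CfsgLib.Transfer.pPrimeCore_normal 2 ↥S
    have hOodd : ∀ x : ↥O, x * x = 1 → x = 1 := fun x hx => by
      have h := CfsgLib.Transfer.pPrimeCore_coprime (G := ↥S) 2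
      have hd : orderOf x ∣ Nat.gcd (Nat.card ↥O) 2 :=
        Nat.dvd_gcd (orderOf_dvd_natCard x) (orderOf_dvd_of_pow_eq_one (by rw [pow_two, hx]))
      rw [h] at hd
      exact orderOf_eq_one_iff.mp (Nat.dvd_one.mp hd)
    have hO1 : ∀ x : ↥S, x ∈ O → Commute (x : H) u1 → x = 1 := by
      intro x hx hxu
      have hsqinj : ∀ y : ↥O, y * y = 1 → y = 1 := hOodd
      obtain ⟨v, hv, hxv⟩ := horb x hxu
      have hxx : ((x * x : ↥S) : H) * σ * ((x * x : ↥S) : H)⁻¹ = σ := by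
        have hxvv : (x : H) * v * (x : H)⁻¹ = v := by
          rw [((hU v hv).2 _ hxu).eq, mul_inv_cancel_right]
        rw [Subgroup.coe_mul, show (x : H) * x * σ * ((x : H) * x)⁻¹ = x * (x * σ * (x : H)⁻¹) * (x : H)⁻¹ by group,
          hxv, show (x : H) * (σ * v) * (x : H)⁻¹ = x * σ * (x : H)⁻¹ * (x * v * (x : H)⁻¹) by group, hxv, hxvv,
          mul_assoc, (hU v hv).1, mul_one]
      obtain ⟨u, hu, h⟩ := hσC (x * x : ↥S) (hxu.mul_left hxu) (by
        rw [mul_inv_eq_iff_eq_mul] at hxx; exact hxx)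
      have hsq : ((x * x : ↥S) : H) * (x * x : ↥S) = 1 := by
        rcases h with h | h <;> rw [h]
        exacts [(hU u hu).1, hσU u hu]
      have h4 : (⟨x, hx⟩ : ↥O) * ⟨x, hx⟩ = 1 :=
        hOodd _ (Subtype.ext (Subtype.ext hsq))
      exact congrArg Subtype.val (hOodd _ h4)
    have hinv : ∀ u, (hu : u = u1 ∨ u = u2 ∨ u = u1 * u2) → ∀ x : ↥S, x ∈ O →
        u * (x : H) * u = (x : H)⁻¹ := by
      intro u hu x hx
      have huS : u ∈ S := hmem u (Or.inr hu)
      have huu := (hU u (Or.inr hu)).1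
      let c : ↥O → ↥O := fun y => ⟨y.1⁻¹ * (⟨u, huS⟩ * y.1 * ⟨u, huS⟩),
        mul_mem (inv_mem y.2) (by
          have h := hOn.conj_mem y.1 y.2 ⟨u, huS⟩
          rwa [inv_eq_of_mul_eq_one_right (show (⟨u, huS⟩ : ↥S) * ⟨u, huS⟩ = 1 from Subtype.ext huu)] at h)⟩
      have hc : Function.Injective c := fun y y' h => by
        have h' : (y.1 : H)⁻¹ * (u * y.1 * u) = (y'.1 : H)⁻¹ * (u * y'.1 * u) :=
          congrArg (fun z : ↥O => ((z : ↥S) : H)) h
        have hcomm : Commute ((y'.1 : H) * (y.1 : H)⁻¹) u := by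
          have e : (y'.1 : H) * (y.1 : H)⁻¹ * u = u * ((y'.1 : H) * (y.1 : H)⁻¹) := by
            calc (y'.1 : H) * (y.1 : H)⁻¹ * u
                = (y'.1 : H) * ((y.1 : H)⁻¹ * (u * y.1 * u)) * (u⁻¹ * (y.1 : H)⁻¹ * u⁻¹) * u := by group
              _ = u * y'.1 * u * (u⁻¹ * (y.1 : H)⁻¹ * u⁻¹) * u := by rw [h']; group
              _ = _ := by group
          exact e
        have := hO1 (y'.1 * y.1⁻¹) (mul_mem y'.2 (inv_mem y.2)) ((hC u hu _).mp hcomm)
        exact (Subtype.ext (mul_inv_eq_one.mp this)).symm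
      obtain ⟨y, hy⟩ := hc.bijective_of_finite.2 ⟨x, hx⟩
      have hy' : (y.1 : H)⁻¹ * (u * y.1 * u) = x := congrArg (fun z : ↥O => ((z : ↥S) : H)) hy
      have hui : u⁻¹ = u := inv_eq_of_mul_eq_one_right huu
      rw [← hy', mul_inv_rev, mul_inv_rev, mul_inv_rev, inv_inv, hui]
      calc u * ((y.1 : H)⁻¹ * (u * y.1 * u)) * u
          = u * (y.1 : H)⁻¹ * u * y.1 * (u * u) := by group
        _ = _ := by rw [huu]; group
    have hOtriv : ∀ x : ↥S, x ∈ O → x = 1 := fun x hx => hO1 x hx (by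
      have e1 := hinv u1 (Or.inl rfl) x hx
      have e3 : u1 * u2 * (x : H) * (u1 * u2) = (x : H)⁻¹ := hinv _ (Or.inr (Or.inr rfl)) x hx
      have e2 := hinv u2 (Or.inr (Or.inl rfl)) x hx
      have hxi : u1 * (x : H)⁻¹ * u1 = (x : H)⁻¹ := by
        calc u1 * (x : H)⁻¹ * u1 = u1 * (u2 * x * u2) * u1 := by rw [e2]
          _ = u1 * u2 * x * (u2 * u1) := by group
          _ = _ := by rw [← h12.eq, e3]
      have hui : u1⁻¹ = u1 := inv_eq_of_mul_eq_one_right h1
      have hx2 : (x : H) = (x : H)⁻¹ := by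
        calc (x : H) = (u1 * (x : H)⁻¹ * u1)⁻¹ := by rw [hxi, inv_inv]
          _ = u1 * x * u1 := by rw [mul_inv_rev, mul_inv_rev, inv_inv, hui]; group
          _ = _ := e1
      show (x : H) * u1 = u1 * x
      calc (x : H) * u1 = (x : H)⁻¹ * u1 := by rw [← hx2]
        _ = u1 * x * (u1 * u1) := by rw [← e1]; group
        _ = _ := by rw [h1, mul_one])
    have h := hcore u1 (Or.inl rfl) ⟨g0, Subgroup.mem_centralizer_singleton_iff.mpr hg0.eq⟩
    have h' := congrArg Subtype.val (hOtriv _ h)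
    simp only [Subgroup.coe_mul, Subgroup.coe_inv, Subgroup.coe_one] at h'
    rw [mul_inv_eq_one, mul_inv_eq_iff_eq_mul] at h'
    exact h'.symm
  obtain ⟨k, hku, hkk, hkE⟩ := hk
  have hk1 : k ≠ 1 := fun h => hkE ⟨1, Or.inl rfl, Or.inl h⟩
  have hkP : ¬ P k := fun h => hkE (hPD k hku hkk h)
  -- all conjugates of `σ` lie in the coset
  have hall : ∀ g, ∃ u, (u = 1 ∨ u = u1 ∨ u = u2 ∨ u = u1 * u2) ∧ g * σ * g⁻¹ = σ * u := by
    intro g
    have hs : g * σ * g⁻¹ * (g * σ * g⁻¹) = 1 := by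
      rw [show g * σ * g⁻¹ * (g * σ * g⁻¹) = g * (σ * σ) * g⁻¹ by group, hσ]; group
    have hs2 : orderOf (g * σ * g⁻¹) = 2 :=
      CfsgLib.Invol.orderOf_two_of_mul_self hs fun h => hσ1 (conj_eq_one_iff.mp h)
    have hk2 : orderOf k = 2 := CfsgLib.Invol.orderOf_two_of_mul_self hkk hk1
    have heven : Even (orderOf (g * σ * g⁻¹ * k)) := by
      by_contra ho
      rw [Nat.not_even_iff_odd] at ho
      obtain ⟨n, hn⟩ := CfsgLib.Invol.exists_zpow_conj_of_odd hs2 hk2 ho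
      rw [← hn] at hkP
      exact hkP (hP _ _ (hP g σ hσP))
    have hi2 := CfsgLib.Invol.orderOf_centralInvol (g * σ * g⁻¹) k heven
    have hiσ := CfsgLib.Invol.centralInvol_comm_left hs2 hk2 heven
    have hik := CfsgLib.Invol.centralInvol_comm_right hs2 hk2 heven
    generalize CfsgLib.Invol.centralInvol (g * σ * g⁻¹) k = i at hi2 hiσ hik
    have hi1 : i ≠ 1 := fun h => by rw [h, orderOf_one] at hi2; exact absurd hi2 (by norm_num)
    have hii : i * i = 1 := by rw [← pow_two, ← hi2, pow_orderOf_eq_one]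
    have hiD : Commute i u1 := hcj k hku hkk hkE i hik
    have hgD : Commute (g * σ * g⁻¹) u1 := by
      by_cases hE : ∃ u, (u = 1 ∨ u = u1 ∨ u = u2 ∨ u = u1 * u2) ∧ (i = u ∨ i = σ * u)
      · obtain ⟨u, hu, h | h⟩ := hE
        · rcases hu with rfl | hu
          · exact absurd h hi1
          · rw [h] at hiσ; exact (hC u hu _).mp hiσ.symm
        · exfalso
          rw [h] at hik
          have hku' : Commute k u := (hU u hu).2 k hku
          have hks : Commute k σ := by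
            have := hik.symm.mul_right hku'
            rwa [mul_assoc, (hU u hu).1, mul_one] at this
          exact hkE (hσC k hku hks)
      · exact hcj i hiD hii hE _ hiσ.symm
    obtain ⟨u, hu, h | h⟩ := hPD _ hgD hs (hP g σ hσP)
    · exfalso
      rcases hu with rfl | hu
      · exact hσ1 (conj_eq_one_iff.mp h)
      · exact (hP' u hu).2 (h ▸ hQ g σ hσQ)
    · exact ⟨u, hu, h⟩
  obtain ⟨w, hw, hkw⟩ := hall k
  have hw1 : w ≠ 1 := fun h => by
    rw [h, mul_one, mul_inv_eq_iff_eq_mul] at hkw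
    exact hkE (hσC k hku hkw)
  obtain ⟨l, hlσ, hlw⟩ := hl w (hw.resolve_left hw1)
  obtain ⟨u, hu, h⟩ := hall (l * k)
  refine hlw ?_
  have e : l * w * l⁻¹ = u := by
    refine mul_left_cancel (a := σ) ?_
    calc σ * (l * w * l⁻¹) = l * σ * l⁻¹ * (l * w * l⁻¹) := by rw [hlσ.eq, mul_inv_cancel_right]
      _ = l * (σ * w) * l⁻¹ := by group
      _ = l * (k * σ * k⁻¹) * l⁻¹ := by rw [hkw]
      _ = σ * u := by rw [← h]; group
  rw [e]; exact hu

end CfsgLib.HNType
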