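import Mathlib

/-!
The outer involutions of the Sylow subgroup: certified data.
-/

set_option autoImplicit false
set_option linter.style.longLine false

namespace CfsgLib.HNType

/-- for each outer involution: a conjugating word and the representative reached -/
def fusConj : List (ℕ × List ℕ × ℕ) :=
  [(1,[],1),
    (5,[4,3,0],1),
    (20,[2,0,2,0,2,2,2,0,2,2,4,3,4],1),
    (28,[2,2,0,2,2,0,3,3,0,3,0,4,3],101),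
    (39,[0,3,0,2,0,2,0,4,2,0,3,0],101),
    (45,[0,3,3,0,3,0,2,2,0,2,2],101),
    (101,[],101),
    (109,[4,3,4,2,4],101),
    (146,[0,4,2,0,3,0,4],101),
    (158,[3,3],101),
    (165,[3,0,4,3,4,3,0],101),
    (167,[0,3,4,3,0,4,3,3,0,3,3],1),
    (170,[2,0,3,3,4,2,0,4,3,3,0,3],101),
    (178,[3,3,0,2,2,0,3,3,0,3,3],101),
    (186,[3,3,0,2,4,3,3,0],101),
    (200,[4,3,0,2,4,2,0,2,0,2,2],101),
    (201,[0,2,2,0,2,2,2,4,2,4,3,3],101),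
    (208,[2,4,2,0,2],1),
    (211,[0,3,0,2,2,4,3,4,2,2,0,4],101),
    (213,[2,0,2,4,3,3,4,3,0,4,3,3],101),
    (225,[0,2,4,2,0,3,3,4,3],101),
    (234,[0,3,4,3,3,0,2,2,0],1),
    (242,[3,0,4,2,0,3,3,0,3,3,0,3],101),
    (247,[0,4,2,2,0,2,0,2],101),
    (261,[0,2,0,3,0,2,2,0,3,3,4,3,0,3],101),
    (274,[0,3,4,3,0,3,0,2,2,2,0,4],101),
    (276,[0,2,4,2,0,3,3,0,3,3,0,3,0],101),
    (284,[3,0,2,2,4,3,0,3,3],101),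
    (286,[0,3,0,2,4,2,0,2,4,2,0,3,0],101),
    (293,[0,2,2,0,2,2,2,0,4,3,0,3,0,2],101),
    (305,[0,2,0,4,2,2,4,2,2,0,2,2,0,3],101),
    (312,[0,3,0,2,4,2,0,2,4,2,2],101),
    (323,[2,0,4,2,0,3,3,0,3,3,4,3],101),
    (330,[0,2,0,4,2,2,4,2,2,0,2,2,4,3],101),
    (333,[4,3,3,0,4,3,4,3,0,3,3],101),
    (338,[0,2,2,0,3,3,4,3,0,4,3,0,4,2],101),
    (341,[0,2,2,0,2,2,0,4,2,0,2,4,2,0],101),
    (344,[0,4,3,4,3,3,0,3,3,0,3],101),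
    (351,[0,3,4,3,3,0,2,2,2,4,3],1),
    (354,[2,0,3,3,4,2,0,4,3,3,4,3],101),
    (361,[3,0,4,2,4,3,3,0,4,3,3],101),
    (362,[0,3,4,2,2,2,0,2,2,4,2,2],101),
    (366,[0,3,0,4],1),
    (370,[0,3,0,2,0,2,0,2,4,3,4],101),
    (377,[0,3,3,0,3,0,3,0,4,3],101),
    (383,[3,0,2,2,0,2,0,4,2,0,2,2],101),
    (389,[0,3,0,2,0,2,2,0,4,3,0,3,0,4],101),
    (397,[2,0,3,4,3,0,2,4,2,4,2,2],101),
    (401,[2,2],101),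
    (406,[0,3,4,2,2,2,0,2,2,4,2,0,3,0],101),
    (414,[0,2,4,2,0,3,4,3,0,3,0,4,2],101),
    (416,[4,3,0,2,4,2,2,0,2,2,4,2,2],101),
    (422,[2,0,3,0,2,4,2,2,0,3,0,3],101),
    (425,[0,3,0,3,0,3,3,0],1),
    (428,[2,2,2,0,2,0,3,0,3,3],101),
    (449,[0,2,4,2,4,2,2,0,3,4,3,3,4,2],101),
    (453,[3,4,2,4,3,4,3],101),
    (454,[0,3,3,0,3,0,3,0,3,4,3,4,2],101),
    (512,[3,3,4,3,4,2,4],101),
    (524,[2,0,2,0,2,0,2,4,2],1),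
    (539,[2,0,3,0,3,0,3],1),
    (545,[0,3,0,3,0,3,0,3],1),
    (576,[0,3,4,3,0,3,0,3,4],1),
    (628,[0,3,0,4,3,0,3,3,0],101),
    (632,[0,3,4,3,3,0,2,2,2,0],1),
    (668,[4,3,0,3,4,3,3,0,4,3,4],101),
    (699,[0,3,0,2,0,2,2,0,3,0],1),
    (714,[0,3,4,3,3,0,3,3,4,3,3,0],1),
    (758,[0,4,3,0,3,4,2,2,0,2],101),
    (774,[0,4,2,4,2,0,2],101),
    (801,[3,0,3,0,2,0,4,3,4],101),
    (803,[2,4,2,0,4,2,4],101),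
    (821,[0,2,4,3,0,3,0,4],101),
    (826,[4,2,0,2,0,2,4,2,2],1),
    (845,[2,2,4,2,4,3,4],101),
    (860,[4,2,0,3,0,3,3,0,2,0,2],1),
    (876,[0,2,4,3,3,0],101),
    (885,[0,3,0,2,0,2,2,4,2,2,4],1),
    (924,[0,3,0,2,0,2,2,4,2,0,2,0],1),
    (926,[0,2,4,3,3,0,4],101),
    (956,[0,3,0,3,0,3,4,3],1),
    (965,[0,3,4,2,4,3,3],101),
    (978,[4,2,2,2,0,2,2,4,2,2],1),
    (984,[0,3,0,3,0,3,4],101),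
    (995,[4,2,0,2,0,2,0,3],101),
    (1015,[0,2,0,4,2,0,2,4],101),
    (1025,[0,4,2,0,2,2,0,4,2,2,0],101),
    (1028,[4,3,3,0,2,0,2,2,4,2,0,2,0],1),
    (1030,[0,2,4,3,4],101),
    (1039,[3,0,3,0,2,0,4,3],101),
    (1046,[0,2,0,2,2,2,0,2,0,3],101),
    (1051,[4],1),
    (1064,[0,2,0,3,4,3,0,3,0,3],101),
    (1066,[0,3,0,3,0,3,4,3,3],1),
    (1071,[3,0,2,2,4,3,0,4,3,0,3],101),
    (1072,[0,2],1),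
    (1077,[2,0,3,0,2,4,2,2,0,3,4,3],101),
    (1084,[0,3,0,2,4,2,2,0,4,3,3],101),
    (1094,[3,3,0,3,4,3,0,4,3,3],101),
    (1099,[0,3,0,2,0,2,2,0,3,0],101),
    (1101,[2,0,3,4,3,0,4,3,3],101),
    (1107,[0,3,0,2,2,4,3,0,3,4,3],101),
    (1110,[0,3,0,2,0,3,3,0,4,3],101),
    (1115,[0,4,3,3,0,3,4,3,0,4,3,3],101),
    (1132,[0,2,2,0,2,2,2,0,3,0,3,4],101),
    (1147,[2,0,3,3,0,3,0,4,3,0,3],101),
    (1149,[2,2,0,2,2,0,3,3,0,3,3],101),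
    (1157,[2,0,3,0,2,4,2,0,2,2,4,3],101),
    (1167,[0,2,2,0,2,2,0,2,2,0,3,4],101),
    (1174,[0,3,3,0,3,4,3,3,0,2,0,2,2],101),
    (1181,[0,3,0,3,0,3,3,0,3,3],1),
    (1183,[0,4,2,0,3,0],101),
    (1192,[0,3,0,2,0,2,2,4,2,0,2,4],101),
    (1201,[0,3,3,4,2,0,4,2,2,4,3,4],101),
    (1213,[2,0,3,0,2,4,2,0,2,2,0,3],101),
    (1222,[2,4,2,0,3,4,3,3,0,3,3,0,2,2],101),
    (1231,[0,3,0,2,4,2,0,2,2,4,3,4],101),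
    (1239,[4,3,0,2,4,2,2,0,2,2,0,2,2],101),
    (1257,[2,0,3,4,3,0,4,3,0,4,3],101),
    (1265,[0,3,4,3,3,0,2,2,4,2,2],1),
    (1267,[0,3,0,4,2,0,3,3,0,3,4,3],101),
    (1275,[3,0,2,2,0,2,0,2,2,2],101),
    (1277,[0,3,0,2,4,2,0,4,2,0,2,2,4],1),
    (1288,[4,3,3,0,4],1),
    (1298,[0,2,0,4,2,2,2,4,3,0,3,0,3],101),
    (1305,[0,2,0,3,4,3,0,3,0,3,0,2,0,2],101),
    (1306,[0,3,4,3,0,4,3,0,3],101),
    (1312,[0,3,4,3,3,0,3,3,4,3],1),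
    (1324,[2,0,3,3,0,2,2,0,2,0,4,2,2],101),
    (1325,[0,2,2,0,2,2,2,0,4,3,0,3,3,0],101),
    (1334,[3,3,0,3,0,2,0,2,2,4,2,0,2,4],101),
    (1338,[0,4,3,0,3,4,2,0],101),
    (1346,[3,0,3,4,3,0,2,4,2,0,2,2],101),
    (1348,[4,2,4,3,4],101),
    (1351,[2,0,3,3,0,3,3,0,3,3,4],1),
    (1353,[0,3,0,2,0,2,0,4,2,2],101),
    (1359,[2,0,3,4,3,0,2,2,0,2,0,4],101),
    (1362,[0,3,0,2,0,2,2,0,4,3,4],1),
    (1367,[0,3,0,2,4,2,0,2,0,2,0,3,0],101),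
    (1375,[0,2,0,3,4,3,0,3,4,3,0,2,0],101),
    (1386,[0,2,0,3,4,3,0,3,4,3],101),
    (1393,[0,2,2,2,0,3,3,4,3,4],1),
    (1400,[3,0,3,3,0,2,2,0,2,0,4,2,2],101),
    (1403,[0,3,0,2,4,2,0,2,0,2,2],101),
    (1416,[4,2,0,3,4,3,0,3,4,3],101),
    (1418,[0,2,0,2,0,4,3,0,2,2,0,2,2],101),
    (1439,[0,3,0,2,0,2,4,2,4,3,4],101),
    (1443,[0,3,0,2,4,2,0,4,2,0,4,3,3],101),
    (1451,[3,0,3,4,3,0,2,4,2,4,2,2],101),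
    (1454,[3,0,3,4,3,0,2,0,2,2,0,3,0,3],101),
    (1458,[0,3,0,4,2,4,3,0,4,3,3],101),
    (1464,[0,3,0,2,2,4,3,4,3,3,4,3,0],101),
    (1478,[0,3,0,4,2,4,3,3,0,3,4,3],101),
    (1480,[0,2,2,4,2,2,0,4,2,2,0],1),
    (1483,[3,0,2,4,2,2,2,0,4,3,3],101),
    (1504,[0,3,4,2,2,2,0,2,2,2,4,3,4],101),
    (1517,[0,2,4,2,0,2,2,2,4,2,4,2],101),
    (1518,[2,4,2,0,3,4,3,3,0,3,4,3,4],101),
    (1520,[0,2,0,3,4,3,0,3,0,3,0,2,0],101),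
    (1533,[4,2,0,3,4,3,0,3,0,3],101),
    (1544,[0,3,0,2,0,2,0,2,0,2,2,4],101),
    (1547,[2,4,2,0,3],1),
    (1551,[0,3,3,4,2,0,4,2,4,2,2],101),
    (1561,[0,4,3,4,3,3,0,3,3,4,3],101),
    (1585,[0,2,0,4,3,4,3,3,4,3,0,3,4,3],101),
    (1594,[0,2,4,2,0,3,3,0,3],101),
    (1606,[0,2,0,3,4,3,3,4,3,0,3,4,3],101),
    (1613,[0,3,4,3,0,3,0,3,0,4,2],101),
    (1614,[0,4,2,0,3,4,3,0,4,3,3],101),
    (1628,[2,0,2,2,0,2,0,2,0,2,2,4],1),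
    (1641,[0,2,0,3,4,3,0,3,4,3,0,2,0,2],101),
    (1654,[0,3,4,2,2,2,0,3,3,4,3,3],101),
    (1677,[2,0,3,3,4,2,0,2,2,2],101),
    (1682,[0,3,4,3,4,3,3,0,3],1),
    (1689,[0,3,0,2,0,2,2,2],101),
    (1693,[2,0,2,0,2,0,4,3,0,3,0,3],101),
    (1766,[0,2,0,3,3,0,4,3,4],101),
    (1779,[3,0,4,3,0,2,0,2],101),
    (1788,[2,0,3,0],101),
    (1795,[0,4,3,0,4,3,4,3,0],101),
    (1809,[4,2,0,2,0,2,0],1),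
    (1834,[0,3,4,3,0,4,3,0,3,3,0],1),
    (1847,[2,4,3,4,2,4,2],101),
    (1851,[0,3,0,3,0,3,4,3,4],1),
    (1867,[2,0,4],1),
    (1876,[0,3,0,4,3,0,3,0,2],101),
    (1881,[0,2,0,3,3,4,3,3,0,3,4,3,0],1),
    (1890,[4,3,3,4,3,3,0,4,3,4,3,0],1),
    (1901,[2,0,2,0,2,2,2,0,2,2,4,3],1),
    (1914,[4,3,3,0,2,0,2,2,0,3,0],1),
    (1920,[0,2,2,2,0,3,3,4,3],1),
    (1922,[3,0,4,3,3,0,3,0],101),
    (1940,[3,0,3,4,2,0],101),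
    (1944,[0,3,0,3,3,0,3,0,3,0,3],1),
    (1962,[0,4,2,2],101),
    (1970,[2,4,2,2,4,2,2,0,3],1),
    (1981,[0,3,0,2,0,2,0,4,2,2],1),
    (1984,[0,3,0,2,4,2,0,2,0,2,2],1),
    (1993,[4,2,0,3,4,3,0,3,0,3],1),
    (1995,[4,2,0,2,0,2,4],1),
    (2003,[4,2,0,3,0,3,0,4,3],1),
    (2010,[2,4,2,2,0,4,2,2,0],1),
    (2012,[0,3,0,3,0,3,0,3,3],1),
    (2022,[0,3,3,0,3,0,3,3],101),
    (2028,[0,2,4,2,2,2,0,3,3,0,2,2,0,2,0],101),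
    (2031,[0,2,2,0,3,3,0,4,3,0,3,0,3,4],101),
    (2036,[3,3,0,3,3,0,3,0,3,3],101),
    (2045,[2,0,3,3,0,3,0,4,3,4,3],101)]

/-- for each representative `r`: two elements commuting with it, their commutator `a`, and an
element conjugating `r` to `a * r` -/
def fusReps : List (ℕ × ℕ × ℕ × ℕ × ℕ) :=
  [(1,2,11,690,49),(101,17,95,164,10)]

end CfsgLib.HNType
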