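import Cfsg.Agent.Lib.HNType.SylCheck
import Cfsg.Agent.Lib.HNType.FusionData

/-!
Checks on the outer involutions and the square roots of the central involutions.
-/

set_option autoImplicit false
set_option maxRecDepth 100000
set_option maxHeartbeats 4000000

namespace CfsgLib.HNType

open CfsgLib.CosetEnum CfsgLib.DCoset CfsgLib.HN

/-- image of base point `b` under the product of element `k` and element `l` -/
noncomputable def mulKey (k l b : ℕ) : ℕ := tWord (sylWord l) (sylKey k b)

/-- a conjugating word of an outer involution -/
noncomputable def outConjOK (e : ℕ × List ℕ × ℕ) : Bool :=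
  Nat.blt e.1 2048 && (e.2.1.all fun g => Nat.blt g 5) && (fusReps.any fun r => Nat.beq r.1 e.2.2) &&
  (List.range 6).all fun b =>
    Nat.beq (tWord (sylWord e.1) (space.C.run (basePt b) e.2.1)) (space.C.run (sylKey e.2.2 b) e.2.1)

/-- the checks of a representative -/
noncomputable def repOK (e : ℕ × ℕ × ℕ × ℕ × ℕ) : Bool :=
  let r := e.1
  let p := e.2.1
  let q := e.2.2.1
  let a := e.2.2.2.1
  let w := e.2.2.2.2
  Nat.blt r 2048 && Nat.blt p 2048 && Nat.blt q 2048 && Nat.blt a 2048 && Nat.blt w 2048 &&
  !inK r && Nat.beq (sylTSq r) 564 && inK a && Nat.beq (sylTSq a) 0 && !Nat.beq a 0 &&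
  (List.range 6).all fun b =>
    Nat.beq (mulKey p r b) (mulKey r p b) && Nat.beq (mulKey q r b) (mulKey r q b) &&
    Nat.beq (mulKey p q b) (tWord (sylWord a) (mulKey q p b)) &&
    Nat.beq (mulKey r w b) (tWord (sylWord r) (mulKey w a b))

/-- every outer involution is listed -/
noncomputable def outClassOK (k : ℕ) : Bool := strict k fun k =>
  inK k || !Nat.beq (sylTSq k) 564 || fusConj.any fun e => Nat.beq e.1 k

/-- the number of square roots of element `z`, the product of `z` and `564` being `z'` -/
noncomputable def sqCount (z z' : ℕ) : ℕ :=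
  ((List.range 2048).filter fun k => Nat.beq (sylTSq k) (bif inK k then z else z')).length

/-- the counts and the product -/
noncomputable def countOK : Bool :=
  Nat.beq (sqCount 564 0) 80 && Nat.beq (sqCount 690 1975) 112 &&
  (List.range 6).all fun b => Nat.beq (mulKey 690 564 b) (sylKey 1975 b)

theorem fusConj_ok : fusConj.all outConjOK = true := by decide +kernel
theorem fusReps_ok : fusReps.all repOK = true := by decide +kernel
theorem outClass_ok : Cert.allBelow 2048 outClassOK = true := by decide +kernel
theorem count_ok : countOK = true := by decide +kernel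

end CfsgLib.HNType
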