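import Cfsg.Agent.Lib.HNType.Cent
import Cfsg.Agent.Lib.HNType.FusionCheck

/-!
The fusion of the central involution: it is conjugate to one class of inner involutions.
-/

set_option autoImplicit false
set_option maxRecDepth 100000

namespace CfsgLib.HNType

open CfsgLib.CosetEnum CfsgLib.DCoset CfsgLib.HN
open scoped commutatorElement Pointwise

theorem img_el_mul {k l : ℕ} (hk : k < 2048) (hl : l < 2048) {b : ℕ} (hb : b < 6) :
    img (el k * el l) (bp hb) = mulKey k l b := by
  rw [img_mul, mulKey, ← (el_key hk).2 b hb]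
  exact img_sProd (el_key hl).1 _

theorem img_el_mul₃ {k l m : ℕ} (hk : k < 2048) (hl : l < 2048) (hm : m < 2048) {b : ℕ}
    (hb : b < 6) : img (el k * el l * el m) (bp hb) = tWord (sylWord m) (mulKey k l b) := by
  rw [img_mul, ← img_el_mul hk hl hb]
  exact img_sProd (el_key hm).1 _

theorem sq_out {k : ℕ} (hk : k < 2048) (hK : inK k = false) :
    el k * el k = el (sylTSq k) * iP := by
  have h := (el_spec hk).tsq
  rw [hK, cond_false] at h
  rw [← h, mul_assoc _ iP iP, iP_sq, mul_one]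

/-- An outer involution is conjugate to its product with a commutator of two elements commuting
with it, the commutator being an inner involution. -/
theorem outer_witness {x : PH} (hxK : x ∉ kP) (hx : x * x = 1) :
    ∃ p q a w : PH, Commute p x ∧ Commute q x ∧ p * q = q * p * a ∧ a ∈ kP ∧ a * a = 1 ∧ a ≠ 1 ∧
      x * w = w * (a * x) := by
  obtain ⟨c, hc⟩ := exists_conj_T (x := x) (by
    rw [show x ^ 4 = (x * x) * (x * x) by simp [pow_succ, mul_assoc], hx, one_mul])
  obtain ⟨k, hk, e⟩ := exists_el hc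
  have hK : inK k = false := by
    rw [← Bool.not_eq_true, inK_iff hk, e, conj_mem_kP]; exact hxK
  have hsq : el k * el k = 1 := by
    rw [e, show c * x * c⁻¹ * (c * x * c⁻¹) = c * (x * x) * c⁻¹ by group, hx, mul_one, mul_inv_cancel]
  have hts : sylTSq k = 564 := by
    refine el_inj (tsq_lt2048 _) (by norm_num) ?_
    rw [← (el_spec hk).tsq, hK, cond_false, hsq, one_mul, iP_eq]
  have h := Cert.allBelow_spec outClass_ok k hk
  simp only [outClassOK, strict_eq, hK, hts, Bool.false_or, Bool.or_eq_true, Bool.not_eq_true',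
    Nat.beq_refl, List.any_eq_true] at h
  rcases h with h | ⟨⟨k', g, r⟩, hu, h⟩
  · cases h
  obtain rfl : k' = k := Nat.eq_of_beq_eq_true h
  have hu' := List.all_eq_true.mp fusConj_ok _ hu
  simp only [outConjOK, Bool.and_eq_true, List.any_eq_true, List.all_eq_true, List.mem_range,
    Nat.blt_eq] at hu'
  obtain ⟨⟨⟨-, hw⟩, ⟨⟨r', p, q, a, w⟩, hrm, hr⟩⟩, heq⟩ := hu'
  obtain rfl : r' = r := Nat.eq_of_beq_eq_true hr
  have hr' := List.all_eq_true.mp fusReps_ok _ hrm
  simp only [repOK, Bool.and_eq_true, Bool.not_eq_true', List.all_eq_true, List.mem_range,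
    Nat.blt_eq] at hr'
  obtain ⟨⟨⟨⟨⟨⟨⟨⟨⟨⟨hr1, hp⟩, hq⟩, ha⟩, hwl⟩, -⟩, -⟩, haK⟩, hat⟩, ha0⟩, hall⟩ := hr'
  have hg : wordP g * el k' = el r' * wordP g := eq_of_base fun b hb => by
    rw [img_mul, img_mul, el, img_sProd (el_key hk).1, img_word hw]
    have e1 : ((wordP g).1.unop (bp hb) : ℕ) = space.C.run (basePt b) g := img_word hw (bp hb)
    have e2 : ((el r').1.unop (bp hb) : ℕ) = sylKey r' b := (el_key hr1).2 b hb
    rw [e1, e2]
    exact Nat.eq_of_beq_eq_true (heq b hb)
  obtain ⟨d, rfl⟩ : ∃ d, x = d⁻¹ * el r' * d := ⟨wordP g * c, by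
    rw [show (wordP g * c)⁻¹ * el r' * (wordP g * c) = c⁻¹ * ((wordP g)⁻¹ * (el r' * wordP g)) * c by
      group, ← hg, inv_mul_cancel_left, e]
    group⟩
  have e1 : el p * el r' = el r' * el p := eq_of_base fun b hb => by
    rw [img_el_mul hp hr1, img_el_mul hr1 hp]; exact Nat.eq_of_beq_eq_true (hall b hb).1.1.1
  have e2 : el q * el r' = el r' * el q := eq_of_base fun b hb => by
    rw [img_el_mul hq hr1, img_el_mul hr1 hq]; exact Nat.eq_of_beq_eq_true (hall b hb).1.1.2
  have e3 : el p * el q = el q * el p * el a := eq_of_base fun b hb => by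
    rw [img_el_mul hp hq, img_el_mul₃ hq hp ha]; exact Nat.eq_of_beq_eq_true (hall b hb).1.2
  have e4 : el r' * el w = el w * el a * el r' := eq_of_base fun b hb => by
    rw [img_el_mul hr1 hwl, img_el_mul₃ hwl ha hr1]; exact Nat.eq_of_beq_eq_true (hall b hb).2
  have hasq : el a * el a = 1 := by
    have h1 := (el_spec ha).tsq
    rwa [haK, cond_true, mul_one, Nat.eq_of_beq_eq_true hat, el_zero] at h1
  have ha1 : el a ≠ 1 := fun h1 => by
    rw [el_inj ha (by norm_num) (h1.trans el_zero.symm), Nat.beq_refl] at ha0; cases ha0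
  refine ⟨d⁻¹ * el p * d, d⁻¹ * el q * d, d⁻¹ * el a * d, d⁻¹ * el w * d, ?_, ?_, ?_, ?_, ?_, ?_, ?_⟩
  · show d⁻¹ * el p * d * (d⁻¹ * el r' * d) = d⁻¹ * el r' * d * (d⁻¹ * el p * d)
    calc _ = d⁻¹ * (el p * el r') * d := by group
      _ = _ := by rw [e1]; group
  · show d⁻¹ * el q * d * (d⁻¹ * el r' * d) = d⁻¹ * el r' * d * (d⁻¹ * el q * d)
    calc _ = d⁻¹ * (el q * el r') * d := by group
      _ = _ := by rw [e2]; group
  · calc _ = d⁻¹ * (el p * el q) * d := by group
      _ = _ := by rw [e3]; group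
  · simpa using kP_normal.conj_mem _ ((inK_iff ha).mp haK) d⁻¹
  · calc _ = d⁻¹ * (el a * el a) * d := by group
      _ = _ := by rw [hasq]; group
  · intro h1
    refine ha1 ?_
    calc el a = d * (d⁻¹ * el a * d) * d⁻¹ := by group
      _ = 1 := by rw [h1]; group
  · calc _ = d⁻¹ * (el r' * el w) * d := by group
      _ = _ := by rw [e4]; group

open scoped _root_.Classical in
/-- the square roots of element `z` -/
theorem card_sq {z z' : ℕ} (hz : z < 2048) (hz' : z' < 2048) (h : el z * iP = el z') :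
    Nat.card {x : ↥T // (x : PH) * x = el z} = sqCount z z' := by
  have he : ∀ k : Fin 2048, Nat.beq (sylTSq k) (bif inK k then z else z') = true ↔
      ((elT k : PH) * elT k = el z) := by
    intro k
    show _ ↔ el k * el k = el z
    cases hK : inK k
    · rw [cond_false, sq_out k.2 hK]
      refine ⟨fun e => by rw [Nat.eq_of_beq_eq_true e, ← h, mul_assoc, iP_sq, mul_one], fun e => ?_⟩
      have e1 : el (sylTSq k) = el z' := by rw [← h, ← e, mul_assoc, iP_sq, mul_one]
      rw [el_inj (tsq_lt2048 _) hz' e1]; exact Nat.beq_refl _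
    · have h1 := (el_spec k.2).tsq
      rw [hK, cond_true, mul_one] at h1
      rw [cond_true, h1]
      exact ⟨fun e => congrArg el (Nat.eq_of_beq_eq_true e),
        fun e => by rw [el_inj (tsq_lt2048 _) hz e]; exact Nat.beq_refl _⟩
  rw [← Nat.card_congr (Equiv.subtypeEquiv
    (p := fun k : Fin 2048 => Nat.beq (sylTSq k) (bif inK k then z else z') = true)
    (Equiv.ofBijective elT elT_bijective) he), Nat.card_eq_fintype_card, Fintype.card_subtype]
  rw [sqCount, ← List.toFinset_card_of_nodup (List.nodup_range.filter _)]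
  refine Finset.card_bij (fun k _ => k.1) (fun k hk => ?_) (fun a _ b _ e => Fin.ext e) fun k hk => ?_
  · simp only [List.mem_toFinset, List.mem_filter, List.mem_range]
    exact ⟨k.2, (Finset.mem_filter.mp hk).2⟩
  · simp only [List.mem_toFinset, List.mem_filter, List.mem_range] at hk
    exact ⟨⟨k, hk.1⟩, Finset.mem_filter.mpr ⟨Finset.mem_univ _, hk.2⟩, rfl⟩

theorem counts : Nat.card {x : ↥T // (x : PH) * x = el 564} = 80 ∧
    Nat.card {x : ↥T // (x : PH) * x = el 690} = 112 ∧ el 690 * iP = el 1975 := by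
  have h := count_ok
  simp only [countOK, Bool.and_eq_true, List.all_eq_true, List.mem_range] at h
  have e : el 690 * iP = el 1975 := eq_of_base fun b hb => by
    rw [iP_eq, img_el_mul (by norm_num) (by norm_num), (el_key (by norm_num)).2 b hb]
    exact Nat.eq_of_beq_eq_true (h.2 b hb)
  refine ⟨?_, ?_, e⟩
  · rw [card_sq (z' := 0) (by norm_num) (by norm_num) (by rw [← iP_eq, iP_sq, el_zero])]
    exact Nat.eq_of_beq_eq_true h.1.1
  · rw [card_sq (by norm_num) (by norm_num) e]
    exact Nat.eq_of_beq_eq_true h.1.2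

/-- An involution centraliser of HN type with its isomorphism to the model. -/
structure Chart {G : Type*} [Group G] (t : G) where
  /-- the isomorphism -/
  toC : PH ≃* ↥(Subgroup.centralizer ({t} : Set G))
  map_iP : (toC iP : G) = t

namespace Chart

variable {G : Type*} [Group G] {t : G} (Φ : Chart t)

/-- the embedding into the group -/
noncomputable def hom : PH →* G := (Subgroup.centralizer ({t} : Set G)).subtype.comp Φ.toC.toMonoidHom

theorem hom_inj : Function.Injective Φ.hom := Subtype.val_injective.comp Φ.toC.injective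

theorem hom_iP : Φ.hom iP = t := Φ.map_iP

theorem exists_of_commute {u : G} (h : Commute u t) : ∃ x, Φ.hom x = u :=
  ⟨Φ.toC.symm ⟨u, Subgroup.mem_centralizer_singleton_iff.mpr h.eq⟩,
    congrArg Subtype.val (Φ.toC.apply_symm_apply _)⟩

theorem commute_hom (x : PH) : Commute (Φ.hom x) t := by
  have h := (show Commute x iP from (iP_comm x).symm).map Φ.hom
  rw [Φ.hom_iP] at h
  exact h

include Φ in
/-- in a simple group the involution is conjugate to another involution of its centraliser -/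
theorem exists_fused [Finite G] [IsSimpleGroup G] (ht : orderOf t = 2) :
    ∃ (g : G) (x : PH), x * x = 1 ∧ x ≠ 1 ∧ x ≠ iP ∧ g * t * g⁻¹ = Φ.hom x := by
  classical
  by_contra hne
  push_neg at hne
  have hiso : Cfsg.IsIsolatedInvolution t := by
    refine ⟨ht, fun g hg => ?_⟩
    obtain ⟨x, hx⟩ := Φ.exists_of_commute hg.symm
    by_contra h
    refine hne g x (Φ.hom_inj ?_) (fun e => ?_) (fun e => h ?_) hx.symm
    · rw [map_mul, map_one, hx, show g * t * g⁻¹ * (g * t * g⁻¹) = g * (t * t) * g⁻¹ by group,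
        ← pow_two t, ← ht, pow_orderOf_eq_one, mul_one, mul_inv_cancel]
    · rw [e, map_one] at hx
      have h1 : t = 1 := conj_eq_one_iff.mp hx.symm
      rw [h1, orderOf_one] at ht
      exact absurd ht (by norm_num)
    · rw [← hx, e, Φ.hom_iP]
  have hcore := CfsgLib.ZStar.commutatorsInCore_of_isolated hiso
  haveI : (Cfsg.pPrimeCore 2 G).Normal := CfsgLib.Transfer.pPrimeCore_normal 2 G
  rcases (inferInstance : (Cfsg.pPrimeCore 2 G).Normal).eq_bot_or_eq_top with h | h
  · have htc : t ∈ Subgroup.center G := Subgroup.mem_center_iff.mpr fun g => by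
      have h1 : t * g * t⁻¹ * g⁻¹ = 1 := Subgroup.mem_bot.mp (h ▸ hcore g)
      rw [mul_inv_eq_one, mul_inv_eq_iff_eq_mul] at h1
      exact h1.symm
    rcases (inferInstance : (Subgroup.center G).Normal).eq_bot_or_eq_top with hc | hc
    · have h1 : t = 1 := by rw [hc] at htc; exact Subgroup.mem_bot.mp htc
      rw [h1, orderOf_one] at ht
      exact absurd ht (by norm_num)
    · obtain ⟨p, q, a, w, -, -, hpq, -, -, ha, -⟩ := outer_witness_exists
      refine ha ?_
      have h1 : Φ.hom (p * q) = Φ.hom (q * p) := by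
        rw [map_mul, map_mul]
        exact (Subgroup.mem_center_iff.mp (hc ▸ Subgroup.mem_top (Φ.hom p)) (Φ.hom q)).symm
      rw [Φ.hom_inj h1] at hpq
      exact mul_left_cancel (a := q * p) (by rw [mul_one]; exact hpq.symm)
  · have hco := CfsgLib.Transfer.pPrimeCore_coprime (G := G) 2
    rw [h, Subgroup.card_top] at hco
    have hd : 2 ∣ Nat.card G := ht ▸ orderOf_dvd_natCard t
    have h2 := Nat.dvd_gcd hd (dvd_refl 2)
    rw [hco] at h2
    exact absurd h2 (by norm_num)
where
  outer_witness_exists : ∃ p q a w : PH, Commute p (el 1) ∧ Commute q (el 1) ∧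
      p * q = q * p * a ∧ a ∈ kP ∧ a * a = 1 ∧ a ≠ 1 ∧ el 1 * w = w * (a * el 1) := by
    refine outer_witness (fun h => ?_) ?_
    · rw [← inK_iff (by norm_num)] at h
      exact absurd h (by decide +kernel)
    · rw [sq_out (by norm_num) (by decide +kernel), show sylTSq 1 = 564 by decide +kernel, ← iP_eq,
        iP_sq]

include Φ in
/-- in a simple group the involution is conjugate to another inner involution of its centraliser -/
theorem exists_fused_inner [Finite G] [IsSimpleGroup G] (ht : orderOf t = 2) :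
    ∃ (g : G) (x : PH), x ∈ kP ∧ x * x = 1 ∧ x ≠ 1 ∧ x ≠ iP ∧ g * t * g⁻¹ = Φ.hom x := by
  obtain ⟨g, x, hx, hx1, hxi, hgx⟩ := Φ.exists_fused ht
  by_cases hxK : x ∈ kP
  · exact ⟨g, x, hxK, hx, hx1, hxi, hgx⟩
  obtain ⟨p, q, a, w, hp, hq, hpq, haK, ha, ha1, hw⟩ := outer_witness hxK hx
  have hmove : ∀ v : PH, Commute v x → ∃ v', Φ.hom v' = g⁻¹ * Φ.hom v * g := fun v hv => by
    refine Φ.exists_of_commute ?_
    have h1 := (hv.map Φ.hom).eq
    rw [← hgx] at h1
    show g⁻¹ * Φ.hom v * g * t = t * (g⁻¹ * Φ.hom v * g)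
    calc g⁻¹ * Φ.hom v * g * t = g⁻¹ * (Φ.hom v * (g * t * g⁻¹)) * g := by group
      _ = _ := by rw [h1]; group
  obtain ⟨p', hp'⟩ := hmove p hp
  obtain ⟨q', hq'⟩ := hmove q hq
  have ha' : Φ.hom (p'⁻¹ * q'⁻¹ * p' * q') = g⁻¹ * Φ.hom a * g := by
    rw [map_mul, map_mul, map_mul, map_inv, map_inv, hp', hq',
      show a = p⁻¹ * q⁻¹ * (q * p * a) by group, ← hpq]
    simp only [map_mul, map_inv]
    group
  obtain ⟨a', ha'd⟩ : ∃ a', a' = p'⁻¹ * q'⁻¹ * p' * q' := ⟨_, rfl⟩
  rw [← ha'd] at ha' 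
  have ha'K : a' ∈ kP := by
    rw [ha'd]
    simp only [Subgroup.mul_mem_iff_of_index_two index_kP, inv_mem_iff]
    tauto
  have ha'sq : a' * a' = 1 := Φ.hom_inj (by
    rw [map_mul, map_one, ha', show g⁻¹ * Φ.hom a * g * (g⁻¹ * Φ.hom a * g)
      = g⁻¹ * (Φ.hom a * Φ.hom a) * g by group, ← map_mul, ha, map_one, mul_one, inv_mul_cancel])
  have ha'1 : a' ≠ 1 := fun h => ha1 (Φ.hom_inj (by
    rw [h, map_one] at ha'
    rw [map_one]
    calc Φ.hom a = g * (g⁻¹ * Φ.hom a * g) * g⁻¹ := by group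
      _ = 1 := by rw [← ha']; group))
  have ha'i : a' ≠ iP := fun h => by
    refine hxK ?_
    have : Φ.hom a = Φ.hom x := by
      calc Φ.hom a = g * (g⁻¹ * Φ.hom a * g) * g⁻¹ := by group
        _ = Φ.hom x := by rw [← ha', h, Φ.hom_iP, hgx]
    exact Φ.hom_inj this ▸ haK
  refine ⟨g⁻¹ * (Φ.hom w)⁻¹ * g, a' * iP, mul_mem ha'K iP_kP, ?_, ?_, ?_, ?_⟩
  · rw [mul_assoc a' iP, ← mul_assoc iP a', iP_comm a', mul_assoc a' iP iP, iP_sq, mul_one, ha'sq]
  · intro h
    exact ha'i (by rw [← mul_one a', ← iP_sq, ← mul_assoc, h, one_mul])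
  · intro h
    exact ha'1 (mul_right_cancel (b := iP) (by rw [h, one_mul]))
  · rw [map_mul, ha', Φ.hom_iP]
    have h1 : Φ.hom x * Φ.hom w = Φ.hom w * (Φ.hom a * Φ.hom x) := by
      rw [← map_mul, hw, map_mul, map_mul]
    calc g⁻¹ * (Φ.hom w)⁻¹ * g * t * (g⁻¹ * (Φ.hom w)⁻¹ * g)⁻¹
        = g⁻¹ * ((Φ.hom w)⁻¹ * ((g * t * g⁻¹) * Φ.hom w)) * g := by group
      _ = g⁻¹ * ((Φ.hom w)⁻¹ * (Φ.hom x * Φ.hom w)) * g := by rw [hgx]
      _ = g⁻¹ * (Φ.hom a * Φ.hom x) * g := by rw [h1, inv_mul_cancel_left]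
      _ = g⁻¹ * Φ.hom a * g * t := by rw [← hgx]; group

include Φ in
/-- The second central involution of the Sylow subgroup is not conjugate to the first. -/
theorem not_conj_690 [Finite G] (g : G) : g * t * g⁻¹ ≠ Φ.hom (el 690) := by
  intro hg
  have : Fact (Nat.Prime 2) := ⟨Nat.prime_two⟩
  have hmove : ∀ v : ↥T, ∃ v', Φ.hom v' = g⁻¹ * Φ.hom v * g := fun v => by
    refine Φ.exists_of_commute ?_
    have h1 := ((central_three (Or.inr (Or.inl rfl)) v.1 v.2).map Φ.hom).eq
    rw [← hg] at h1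
    show g⁻¹ * Φ.hom v * g * t = t * (g⁻¹ * Φ.hom v * g)
    calc g⁻¹ * Φ.hom v * g * t = g⁻¹ * (Φ.hom v * (g * t * g⁻¹)) * g := by group
      _ = _ := by rw [h1]; group
  choose m hm using hmove
  let mh : ↥T →* PH :=
    { toFun := m
      map_one' := Φ.hom_inj (by rw [hm, Subgroup.coe_one, map_one]; group)
      map_mul' := fun u v => Φ.hom_inj (by
        rw [hm, map_mul, hm, hm, Subgroup.coe_mul, map_mul]; group) }
  have hinj : Function.Injective mh := fun u v h => Subtype.ext (Φ.hom_inj (by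
    have h1 : Φ.hom (m u) = Φ.hom (m v) := congrArg Φ.hom h
    rw [hm, hm] at h1
    exact mul_left_cancel (mul_right_cancel h1)))
  have hcard : Nat.card ↥mh.range = 2 ^ 11 := by
    rw [Nat.card_congr (MonoidHom.ofInjective hinj).toEquiv.symm, card_T]; norm_num
  have hidx : ∀ H : Subgroup PH, Nat.card ↥H = 2 ^ 11 → ¬ 2 ∣ H.index := fun H hH => by
    have h := H.card_mul_index
    rw [hH, card_P] at h
    omega
  obtain ⟨c, hc⟩ := MulAction.exists_smul_eq PH ((IsPGroup.of_card hcard).toSylow (hidx _ hcard))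
    ((IsPGroup.of_card (G := ↥T) (n := 11) (by rw [card_T]; norm_num)).toSylow (hidx _ (by rw [card_T]; norm_num)))
  have hmemT : ∀ v, c * m v * c⁻¹ ∈ T := fun v => by
    have h2 := Subgroup.smul_mem_pointwise_smul (m v) (MulAut.conj c) _
      (show m v ∈ mh.range from ⟨v, rfl⟩)
    have h3 : (MulAut.conj c • mh.range : Subgroup PH) = T := by
      have := congrArg (fun P : Sylow 2 PH => (P : Subgroup PH)) hc
      rwa [Sylow.coe_subgroup_smul] at this
    rw [h3] at h2
    exact h2
  let θ : ↥T → ↥T := fun v => ⟨c * m v * c⁻¹, hmemT v⟩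
  have θinj : Function.Injective θ := fun u v h =>
    hinj (mul_left_cancel (mul_right_cancel (congrArg Subtype.val h)))
  have θbij : Function.Bijective θ := θinj.bijective_of_finite
  have hu : m ⟨el 690, el_mem (by norm_num)⟩ = iP := Φ.hom_inj (by
    rw [hm, Φ.hom_iP, ← hg]; group)
  have key : ∀ v : ↥T, (v : PH) * v = el 690 ↔ (θ v : PH) * θ v = el 564 := fun v => by
    have h1 : (θ v : PH) * θ v = c * mh (v * v) * c⁻¹ := by
      show c * m v * c⁻¹ * (c * m v * c⁻¹) = _
      rw [map_mul]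
      show _ = c * (m v * m v) * c⁻¹
      group
    rw [h1, ← iP_eq, show c * mh (v * v) * c⁻¹ = iP ↔ mh (v * v) = iP from
      ⟨fun e => by rw [← mul_left_cancel_iff (a := c), ← mul_right_cancel_iff (a := c⁻¹), e,
        ← iP_comm c, mul_inv_cancel_right],
       fun e => by rw [e, ← iP_comm c, mul_inv_cancel_right]⟩,
      ← hu]
    exact ⟨fun e => congrArg mh (Subtype.ext (e : ((v * v : ↥T) : PH) = el 690) :
      v * v = (⟨el 690, el_mem (by norm_num)⟩ : ↥T)),
      fun e => congrArg Subtype.val (hinj e)⟩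
  have := Nat.card_congr (Equiv.subtypeEquiv (p := fun v : ↥T => (v : PH) * v = el 690)
    (q := fun v : ↥T => (v : PH) * v = el 564) (Equiv.ofBijective θ θbij) key)
  rw [counts.1, counts.2.1] at this
  exact absurd this (by norm_num)

include Φ in
/-- The central involution is conjugate to the third central involution of the Sylow subgroup. -/
theorem exists_conj_1975 [Finite G] [IsSimpleGroup G] (ht : orderOf t = 2) :
    ∃ g : G, g * t * g⁻¹ = Φ.hom (el 1975) := by
  obtain ⟨g, x, hxK, hx, hx1, hxi, hgx⟩ := Φ.exists_fused_inner ht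
  obtain ⟨d, hd⟩ := inner_involution hxK hx hx1
  have hdg : (Φ.hom d * g) * t * (Φ.hom d * g)⁻¹ = Φ.hom (d * x * d⁻¹) := by
    rw [map_mul, map_mul, map_inv, ← hgx]; group
  rcases hd with h | h | h <;> rw [h] at hdg
  · refine absurd ?_ hxi
    rw [← iP_eq] at h
    calc x = d⁻¹ * (d * x * d⁻¹) * d := by group
      _ = iP := by rw [h, mul_assoc, iP_comm d, inv_mul_cancel_left]
  · exact absurd hdg (Φ.not_conj_690 _)
  · exact ⟨_, hdg⟩

end Chart

/-- the chart of a simple group of HN type -/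
theorem exists_chart {G : Type*} [Group G] [Finite G] [IsSimpleGroup G] (t : G)
    (ht : orderOf t = 2) (M : Subgroup (Subgroup.centralizer ({t} : Set G))) [M.Normal]
    (hM : M.index = 2)
    (hout : Subgroup.centralizer (M : Set (Subgroup.centralizer ({t} : Set G))) ≤ M)
    (hcov : Cfsg.IsNonsplitDoubleCover M Cfsg.Spor.HS) : Nonempty (Chart t) := by
  obtain ⟨φ, hφ⟩ := exists_cent_equiv t ht M hM hout hcov
  refine ⟨⟨(MulEquiv.ofBijective toP ⟨toP_injective, toP_surjective⟩).symm.trans φ, ?_⟩⟩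
  have e : (MulEquiv.ofBijective toP ⟨toP_injective, toP_surjective⟩).symm iP = ⟨gi, gi_mem⟩ := by
    rw [MulEquiv.symm_apply_eq]
    exact Subtype.ext (by rw [iP_val, ← toP_gi]; rfl)
  rw [MulEquiv.trans_apply, e, hφ]

end CfsgLib.HNType
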