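import Cfsg.Agent.Lib.HN.Order
import Cfsg.Agent.Lib.HNType.SylData

/-!
A Sylow 2-subgroup of the double cover of HS extended by two: the checks.
-/

set_option autoImplicit false

namespace CfsgLib.HNType

open CfsgLib.CosetEnum CfsgLib.DCoset CfsgLib.HN

/-- a word in the generators, three bits for each letter -/
def decPath : ℕ → ℕ → List ℕ
  | 0, _ => []
  | n + 1, e => bif e == 0 then [] else (e % 8 - 1) :: decPath n (e / 8)

/-- the word of element `k` -/
def sylWord (k : ℕ) : List ℕ := decPath 10 ((sylPath >>> (30 * k)) % 2 ^ 30)

/-- image of a point under generator `j` -/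
noncomputable def tApp (j x : ℕ) : ℕ := pget (sylTab.getD j 0) x

/-- image of a point under a word in the generators -/
noncomputable def tWord : List ℕ → ℕ → ℕ
  | [], x => x
  | j :: l, x => strict (tApp j x) fun y => tWord l y

/-- base point `b` -/
noncomputable def basePt (b : ℕ) : ℕ := HN.base.getD b 0

/-- image of base point `b` under element `k` -/
noncomputable def sylKey (k b : ℕ) : ℕ := (sylKeys >>> (72 * k + 12 * b)) % 4096

/-- the six images as one number -/
noncomputable def keyNum (k : ℕ) : ℕ :=
  sylKey k 0 + 4096 * (sylKey k 1 + 4096 * (sylKey k 2 + 4096 * (sylKey k 3 + 4096 * (sylKey k 4 + 4096 * sylKey k 5))))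

/-- product of element `k` with generator `j` -/
def sylMul (k j : ℕ) : ℕ := (sylNext >>> (44 * k + 11 * j)) % 2048

/-- square of element `k` in the twisted group -/
def sylTSq (k : ℕ) : ℕ := (sylSq >>> (11 * k)) % 2048

/-- position `i` in the order of the keys -/
def sylAt (i : ℕ) : ℕ := (sylSort >>> (11 * i)) % 2048

/-- element `k` lies in the subgroup of index two -/
noncomputable def inK (k : ℕ) : Bool := colP (sylKey k 0) == colP 0

/-- element `k` commutes with the generators -/
noncomputable def comm4 (k : ℕ) : Bool :=
  (List.range 4).all fun j => (List.range 6).all fun b =>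
    Nat.beq (sylKey (sylMul k j) b) (tWord (sylWord k) (tApp j (basePt b)))

/-- the tables of the generators -/
noncomputable def tabOK : Bool :=
  (List.range 4).all fun j => ((sylW.getD j []).all fun g => Nat.blt g 5) &&
    Cert.allBelow 1408 fun x => Nat.beq (tApp j x) (space.C.run x (sylW.getD j []))

/-- the checks of element `k` -/
noncomputable def elOK (k : ℕ) : Bool := strict k fun k =>
  ((sylWord k).all fun j => Nat.blt j 4) &&
  (List.range 6).all fun b =>
    Nat.beq (tWord (sylWord k) (basePt b)) (sylKey k b) &&
    ((List.range 4).all fun j => Nat.beq (tApp j (sylKey k b)) (sylKey (sylMul k j) b)) &&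
    Nat.beq (bif inK k then tWord (sylWord k) (sylKey k b) else space.C.run (tWord (sylWord k) (sylKey k b)) [0, 0])
      (sylKey (sylTSq k) b)

/-- the classification checks of element `k` -/
noncomputable def classOK (k : ℕ) : Bool := strict k fun k =>
  (inK k || !Nat.beq (sylTSq k) 0) &&
  (Nat.beq k 0 || !inK k || !Nat.beq (sylTSq k) 0 || sylConj.any fun e => Nat.beq e.1 k) &&
  (!comm4 k || Nat.beq k 0 || Nat.beq k 564 || Nat.beq k 690 || Nat.beq k 1975)

/-- the order of the keys -/
noncomputable def sortOK (i : ℕ) : Bool := strict i fun i =>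
  Nat.blt (keyNum (sylAt i)) (keyNum (sylAt (i + 1)))

/-- a conjugating word -/
noncomputable def conjOK (e : ℕ × List ℕ × ℕ) : Bool :=
  Nat.blt e.1 2048 && (e.2.1.all fun g => Nat.blt g 5) &&
  (Nat.beq e.2.2 564 || Nat.beq e.2.2 690 || Nat.beq e.2.2 1975) &&
  (List.range 6).all fun b =>
    Nat.beq (tWord (sylWord e.1) (space.C.run (basePt b) e.2.1)) (space.C.run (sylKey e.2.2 b) e.2.1)

/-- the number of roots of element `z` in the twisted group -/
noncomputable def rootCount (z : ℕ) : ℕ := ((List.range 2048).filter fun k => Nat.beq (sylTSq k) z).length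

/-- the central involutions and the other constants -/
noncomputable def centOK : Bool :=
  comm4 564 && comm4 690 && comm4 1975 && (sylWord 0).isEmpty &&
  ((List.range 6).all fun b => Nat.beq (sylKey 564 b) (space.C.run (basePt b) [0, 0])) &&
  Nat.beq (rootCount 564) 288 && !Nat.beq (rootCount 690) 288 && !Nat.beq (rootCount 1975) 288

end CfsgLib.HNType
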