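import Cfsg.Agent.Lib.HNType.Ext
import Cfsg.Agent.Lib.ZStar.Main
import Cfsg.Agent.Lib.Transfer.Basic

/-!
The twisted extension is not an involution centraliser of a simple group.
-/

set_option autoImplicit false
set_option maxRecDepth 100000

namespace CfsgLib.HNType

open CfsgLib.DCoset CfsgLib.HN
attribute [local instance] _root_.Classical.propDecidable

theorem iP_mem : iP ∈ T := by rw [iP_eq]; exact el_mem (by norm_num)

theorem iP_kP : iP ∈ kP := by
  rw [iP_eq, ← inK_iff (by norm_num)]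
  decide +kernel

theorem el_kP {z : ℕ} (hz : z = 564 ∨ z = 690 ∨ z = 1975) : el z ∈ kP := by
  rcases hz with rfl | rfl | rfl <;> rw [← inK_iff (by norm_num)] <;> decide +kernel

section

variable {G : Type*} [Group G] [Finite G] {t : G}

variable {f : PH → ↥(Subgroup.centralizer ({t} : Set G))} {e : ↥(Subgroup.centralizer ({t} : Set G))}

/-- the twisted law -/
structure Twist (f : PH → ↥(Subgroup.centralizer ({t} : Set G)))
    (e : ↥(Subgroup.centralizer ({t} : Set G))) : Prop where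
  bij : Function.Bijective f
  e_t : (e : G) = t
  iota : f iP = e
  inn : ∀ x y, x ∈ kP ∨ y ∈ kP → f x * f y = f (x * y)
  out : ∀ x y, x ∉ kP → y ∉ kP → f x * f y = f (x * y) * e

variable (hf : Twist f e)

include hf

theorem Twist.one : f 1 = 1 :=
  mul_left_cancel (a := f 1) (by rw [hf.inn 1 1 (Or.inl (one_mem _)), mul_one, mul_one])

theorem Twist.sq (x : PH) : f x * f x = f (x * x * (if x ∈ kP then 1 else iP)) := by
  by_cases hx : x ∈ kP
  · rw [if_pos hx, mul_one, hf.inn x x (Or.inl hx)]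
  · rw [if_neg hx, hf.out x x hx hx, ← hf.iota, hf.inn _ _ (Or.inr iP_kP)]

theorem Twist.comm_iff (x y : PH) : f x * f y = f y * f x ↔ Commute x y := by
  by_cases h : x ∈ kP ∨ y ∈ kP
  · rw [hf.inn x y h, hf.inn y x h.symm, hf.bij.1.eq_iff]; exact Iff.rfl
  · push_neg at h
    rw [hf.out x y h.1 h.2, hf.out y x h.2 h.1, mul_left_inj, hf.bij.1.eq_iff]; exact Iff.rfl

theorem Twist.mul_mem_image {x y : PH} (hx : x ∈ T) (hy : y ∈ T) :
    ∃ z ∈ T, f x * f y = f z := by
  by_cases h : x ∈ kP ∨ y ∈ kP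
  · exact ⟨x * y, mul_mem hx hy, hf.inn x y h⟩
  · push_neg at h
    exact ⟨x * y * iP, mul_mem (mul_mem hx hy) iP_mem,
      by rw [hf.out x y h.1 h.2, ← hf.iota, hf.inn _ _ (Or.inr iP_kP)]⟩

/-- The central involution is isolated. -/
theorem Twist.isolated (ht : orderOf t = 2) : Cfsg.IsIsolatedInvolution t := by
  classical
  have : Fact (Nat.Prime 2) := ⟨Nat.prime_two⟩
  -- the image of the Sylow subgroup
  let g : ↥T → G := fun x => (f x : G)
  have hginj : Function.Injective g := fun a b h => Subtype.ext (hf.bij.1 (Subtype.ext h))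
  let Q : Subgroup G :=
    { carrier := Set.range g
      mul_mem' := by
        rintro _ _ ⟨a, rfl⟩ ⟨b, rfl⟩
        obtain ⟨z, hz, e1⟩ := hf.mul_mem_image a.2 b.2
        exact ⟨⟨z, hz⟩, (congrArg Subtype.val e1).symm⟩
      one_mem' := ⟨1, congrArg Subtype.val hf.one⟩
      inv_mem' := by
        rintro _ ⟨a, rfl⟩
        have hi : ∀ b : ↥T, ∃ c : ↥T, f a * f b = f c := fun b => by
          obtain ⟨z, hz, e1⟩ := hf.mul_mem_image a.2 b.2
          exact ⟨⟨z, hz⟩, e1⟩
        choose m hm using hi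
        have hmi : Function.Injective m := fun b c h => by
          have h1 : f a * f b = f a * f c := by rw [hm, hm, h]
          exact Subtype.ext (hf.bij.1 (mul_left_cancel h1))
        obtain ⟨b, hb⟩ := (Finite.injective_iff_surjective.mp hmi) 1
        refine ⟨b, (inv_eq_of_mul_eq_one_right ?_).symm⟩
        have h1 : f a * f b = 1 := by rw [hm b, hb]; exact hf.one
        exact congrArg Subtype.val h1 }
  have hQcard : Nat.card ↥Q = 2 ^ 11 := by
    rw [show Nat.card ↥Q = Nat.card (Set.range g) from rfl,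
      Nat.card_range_of_injective hginj, card_T]
    norm_num
  have hC : Nat.card ↥(Subgroup.centralizer ({t} : Set G)) = 177408000 :=
    (Nat.card_eq_of_bijective f hf.bij).symm.trans card_P
  have mem_Q : ∀ x ∈ Q, ∃ k < 2048, (f (el k) : G) = x := by
    rintro _ ⟨a, rfl⟩
    obtain ⟨k, hk, e1⟩ := exists_el a.2
    exact ⟨k, hk, by rw [e1]⟩
  have el_Q : ∀ k < 2048, (f (el k) : G) ∈ Q := fun k hk => ⟨⟨el k, el_mem hk⟩, rfl⟩
  have htf : (f (el 564) : G) = t := by rw [← iP_eq, hf.iota, hf.e_t]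
  have cenQ : ∀ z, z = 564 ∨ z = 690 ∨ z = 1975 → ∀ q ∈ Q, Commute (f (el z) : G) q := by
    rintro z hz _ ⟨a, rfl⟩
    have h := (hf.comm_iff (el z) a.1).mpr (central_three hz a.1 a.2).symm
    exact congrArg Subtype.val h
  have nroots : ∀ z < 2048, Nat.card {q : ↥Q // (q : G) * q = f (el z)} = rootCount z := by
    intro z hz
    rw [← card_roots hz]
    refine (Nat.card_congr (Equiv.subtypeEquiv (Equiv.ofBijective
      (fun a : ↥T => (⟨g a, a, rfl⟩ : ↥Q)) ⟨fun a b h => hginj (congrArg (fun q : ↥Q => (q : G)) h :),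
        fun q => by obtain ⟨a, ha⟩ := q.2; exact ⟨a, Subtype.ext ha⟩⟩) fun a => ?_)).symm
    show _ ↔ (f (a : PH) : G) * f (a : PH) = f (el z)
    rw [← Subgroup.coe_mul (Subgroup.centralizer ({t} : Set G)), Subtype.val_inj, hf.sq,
      hf.bij.1.eq_iff]
  -- the normaliser fixes `t`
  have hN : Subgroup.normalizer (Q : Set G) ≤ Subgroup.centralizer ({t} : Set G) := by
    intro n hn
    rw [Subgroup.mem_normalizer_iff] at hn
    have htQ : t ∈ Q := htf ▸ el_Q 564 (by norm_num)
    obtain ⟨k, hk, hkn⟩ := mem_Q _ ((hn t).mp htQ)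
    have hcen : ∀ x ∈ T, Commute x (el k) := fun x hx => by
      refine (hf.comm_iff x (el k)).mp (Subtype.ext ?_)
      have hq : (f x : G) ∈ Q := ⟨⟨x, hx⟩, rfl⟩
      have hq' : n⁻¹ * f x * n ∈ Q := (hn _).mpr (by
        rw [show n * (n⁻¹ * (f x : G) * n) * n⁻¹ = f x by group]; exact hq)
      have hc := cenQ 564 (Or.inl rfl) _ hq'
      rw [htf] at hc
      show (f x : G) * f (el k) = f (el k) * f x
      rw [hkn]
      calc (f x : G) * (n * t * n⁻¹) = n * ((n⁻¹ * f x * n) * t) * n⁻¹ := by group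
        _ = n * (t * (n⁻¹ * f x * n)) * n⁻¹ := by rw [hc.eq]
        _ = _ := by group
    have hroots : rootCount k = 288 := by
      rw [← roots_iP, ← nroots k hk, ← nroots 564 (by norm_num)]
      refine (Nat.card_congr ?_).symm
      refine Equiv.subtypeEquiv ⟨fun q => ⟨n * q * n⁻¹, (hn q).mp q.2⟩,
        fun q => ⟨n⁻¹ * q * n, (hn _).mpr (by
          rw [show n * (n⁻¹ * (q : G) * n) * n⁻¹ = q by group]; exact q.2)⟩,
        fun q => Subtype.ext (by group), fun q => Subtype.ext (by group)⟩ fun q => ?_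
      show _ ↔ n * (q : G) * n⁻¹ * (n * q * n⁻¹) = f (el k)
      rw [htf, hkn, show n * (q : G) * n⁻¹ * (n * q * n⁻¹) = n * (q * q) * n⁻¹ by group,
        mul_left_inj, mul_right_inj]
    rcases central_cases hk hcen with rfl | rfl | h | h
    · exfalso
      rw [el_zero, hf.one] at hkn
      have : t = 1 := conj_eq_one_iff.mp hkn.symm
      rw [this, orderOf_one] at ht
      exact absurd ht (by norm_num)
    · rw [htf] at hkn
      exact Subgroup.mem_centralizer_singleton_iff.mpr
        (by conv_rhs => rw [hkn, inv_mul_cancel_right])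
    · exact absurd hroots (roots_ne (Or.inl h))
    · exact absurd hroots (roots_ne (Or.inr h))
  -- a Sylow subgroup of the whole group
  have hQidx : ¬ 2 ∣ Q.index := by
    intro hd
    obtain ⟨m, hm⟩ := hd
    have hdvd : 2 ^ (11 + 1) ∣ Nat.card G := ⟨m, by rw [← Q.card_mul_index, hQcard, hm]; ring⟩
    have h2 := Sylow.prime_dvd_card_quotient_normalizer hdvd hQcard
    have hle : Q ≤ Subgroup.normalizer (Q : Set G) := Subgroup.le_normalizer
    have h3 : 2 ^ 12 ∣ Nat.card ↥(Subgroup.normalizer (Q : Set G)) := by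
      rw [Subgroup.card_eq_card_quotient_mul_card_subgroup
        (Q.comap (Subgroup.normalizer (Q : Set G)).subtype)]
      rw [show Nat.card ↥(Q.comap (Subgroup.normalizer (Q : Set G)).subtype) = 2 ^ 11 from
        (Nat.card_congr (Subgroup.subgroupOfEquivOfLe hle).toEquiv).trans hQcard]
      obtain ⟨r, hr⟩ := h2
      exact ⟨r, by rw [hr]; ring⟩
    have h4 := h3.trans (Subgroup.card_dvd_of_le hN)
    rw [hC] at h4
    exact absurd h4 (by decide)
  let P : Sylow 2 G := (IsPGroup.of_card hQcard).toSylow hQidx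
  have hP : (P : Subgroup G) = Q := rfl
  refine ⟨ht, fun h hcomm => ?_⟩
  have hu : h * t * h⁻¹ ∈ Subgroup.centralizer ({t} : Set G) :=
    Subgroup.mem_centralizer_singleton_iff.mpr hcomm.symm.eq
  obtain ⟨x, hx⟩ := hf.bij.2 ⟨_, hu⟩
  have ht2 : t * t = 1 := by rw [← pow_two, ← ht, pow_orderOf_eq_one]
  have hsq : x * x * (if x ∈ kP then 1 else iP) = 1 := by
    refine hf.bij.1 (Subtype.ext ?_)
    rw [← hf.sq, hf.one, Subgroup.coe_mul, hx]
    show h * t * h⁻¹ * (h * t * h⁻¹) = (1 : G)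
    rw [show h * t * h⁻¹ * (h * t * h⁻¹) = h * (t * t) * h⁻¹ by group, ht2, mul_one, mul_inv_cancel]
  have hxK : x ∈ kP := by
    by_contra hxK
    rw [if_neg hxK] at hsq
    exact no_outer_root hxK (by rw [eq_comm, ← mul_one iP]; rw [← hsq, ← mul_assoc, iP_comm,
      mul_assoc, iP_sq, mul_one])
  rw [if_pos hxK, mul_one] at hsq
  have hx1 : x ≠ 1 := fun e1 => by
    rw [e1, hf.one] at hx
    have h5 : h * t * h⁻¹ = 1 := (congrArg Subtype.val hx).symm
    rw [conj_eq_one_iff.mp h5, orderOf_one] at ht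
    exact absurd ht (by norm_num)
  obtain ⟨d, hd⟩ := inner_involution hxK hsq hx1
  obtain ⟨z, hz, hdz⟩ : ∃ z, (z = 564 ∨ z = 690 ∨ z = 1975) ∧ d * x * d⁻¹ = el z := by
    rcases hd with hd | hd | hd
    exacts [⟨_, Or.inl rfl, hd⟩, ⟨_, Or.inr (Or.inl rfl), hd⟩, ⟨_, Or.inr (Or.inr rfl), hd⟩]
  have hconj : f d * f x = f (el z) * f d := by
    rw [hf.inn d x (Or.inr hxK), hf.inn (el z) d (Or.inl (el_kP hz)), ← hdz, inv_mul_cancel_right]
  have hG : (f (el z) : G) = (f d : G) * (h * t * h⁻¹) * (f d : G)⁻¹ := by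
    have h1 : (f d : G) * (f x : G) = (f (el z) : G) * f d := congrArg Subtype.val hconj
    rw [hx] at h1
    rw [eq_mul_inv_iff_mul_eq]
    exact h1.symm
  have hmemC : ∀ w, w = 564 ∨ w = 690 ∨ w = 1975 →
      (f (el w) : G) ∈ Subgroup.centralizer ((P : Subgroup G) : Set G) := fun w hw =>
    Subgroup.mem_centralizer_iff.mpr fun q hq => (cenQ w hw q (hP ▸ hq)).eq.symm
  obtain ⟨n, hn, he⟩ := Sylow.conj_eq_normalizer_conj_of_mem_centralizer P t ((f d : G) * h)⁻¹
    (htf ▸ hmemC 564 (Or.inl rfl)) (by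
      have := hmemC z hz
      rw [hG] at this
      rw [inv_inv, show (f d : G) * h * t * ((f d : G) * h)⁻¹ = f d * (h * t * h⁻¹) * (f d : G)⁻¹ by group]
      exact this)
  have hnt : n⁻¹ * t * n = t := by
    have := Subgroup.mem_centralizer_singleton_iff.mp (hN hn)
    rw [mul_assoc, ← this, inv_mul_cancel_left]
  rw [hnt] at he
  have hd' := Subgroup.mem_centralizer_singleton_iff.mp (f d).2
  calc h * t * h⁻¹ = (f d : G)⁻¹ * (((f d : G) * h)⁻¹⁻¹ * t * ((f d : G) * h)⁻¹) * (f d : G) := by group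
    _ = t := by rw [he, mul_assoc, ← hd', inv_mul_cancel_left]

end

end CfsgLib.HNType
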